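import Mathlib
import Cfsg.Prelude.Def_LieExceptional
import Cfsg.Prelude.Def_LieRecognition

/-!
# Rank two: from a braid relation to a split BN-pair

`Frame G`: subgroups `B`, `H ≤ B`, `P i` (`i : Bool`) with `P i = B ∪ B (n i) B`, `n i` normalising
`H`, the group `H` having only the two fixed chambers `B`, `n i B` in `P i / B`.
`PathTo F k`: the alternating galleries of length `k + 1` extending the standard one of length `k`
are conjugate under `B`.  With `PathTo F k` for all `k < m` and the braid relation of length `m`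
modulo `H₁ = N_B(H)` the pair `(B, ⟨n₀, n₁⟩H₁)` is a BN-pair of rank two.
-/

set_option autoImplicit false

namespace Cfsg.Agent.RankTwoClose

/-- The alternating word of length `k` in `n` with first letter `n i`. -/
def alt {G : Type*} [Group G] (n : Bool → G) : Bool → ℕ → G
  | _, 0 => 1
  | i, k + 1 => n i * alt n (!i) k

section Alt

variable {G : Type*} [Group G] (n : Bool → G)

@[simp] theorem alt_zero (i : Bool) : alt n i 0 = 1 := rfl

theorem alt_succ (i : Bool) (k : ℕ) : alt n i (k + 1) = n i * alt n (!i) k := rfl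

@[simp] theorem alt_one (i : Bool) : alt n i 1 = n i := by simp [alt_succ]

/-- The letter in position `k` of an alternating word starting with `i`. -/
def nxt (i : Bool) (k : ℕ) : Bool := xor i k.bodd

@[simp] theorem nxt_zero (i : Bool) : nxt i 0 = i := by simp [nxt]

theorem nxt_succ (i : Bool) (k : ℕ) : nxt i (k + 1) = !(nxt i k) := by
  simp [nxt, Nat.bodd_succ]

theorem nxt_not (i : Bool) (k : ℕ) : nxt (!i) k = !(nxt i k) := by
  cases i <;> simp [nxt]

theorem alt_succ' (i : Bool) (k : ℕ) : alt n i (k + 1) = alt n i k * n (nxt i k) := by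
  induction k generalizing i with
  | zero => simp
  | succ k ih =>
    rw [alt_succ, ih (!i), alt_succ n i k, mul_assoc]
    congr 3
    rw [nxt_not, nxt_succ]

end Alt

/-- The data of a rank two amalgam of minimal parabolic subgroups in a group `G`. -/
structure Frame (G : Type*) [Group G] where
  /-- the Borel subgroup -/
  B : Subgroup G
  /-- the torus -/
  H : Subgroup G
  /-- the two minimal parabolics -/
  P : Bool → Subgroup G
  /-- the reflections -/
  n : Bool → G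
  memP : ∀ i x, x ∈ P i ↔ x ∈ B ∨ ∃ b ∈ B, ∃ c ∈ B, x = b * n i * c
  inter : P false ⊓ P true = B
  H_le : H ≤ B
  n_norm : ∀ i, n i ∈ Subgroup.normalizer (H : Set G)
  n_not : ∀ i, n i ∉ B
  /-- the torus fixes only the chambers `B` and `n i B` of the panel of type `i` -/
  two : ∀ i, ∀ g ∈ P i, (∀ h ∈ H, g⁻¹ * h * g ∈ B) → g ∈ B ∨ (n i)⁻¹ * g ∈ B

namespace Frame

variable {G : Type*} [Group G] (F : Frame G)

/-- `N_B(H)`. -/
def H₁ : Subgroup G := F.B ⊓ Subgroup.normalizer (F.H : Set G)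

theorem H₁_le : F.H₁ ≤ F.B := inf_le_left

theorem H₁_norm : F.H₁ ≤ Subgroup.normalizer (F.H : Set G) := inf_le_right

theorem B_le (i : Bool) : F.B ≤ F.P i := fun _ hx => (F.memP i _).2 (Or.inl hx)

theorem n_mem (i : Bool) : F.n i ∈ F.P i :=
  (F.memP i _).2 (Or.inr ⟨1, one_mem _, 1, one_mem _, by simp⟩)

theorem two' {i : Bool} {g : G} (hg : g ∈ F.P i) (hN : g ∈ Subgroup.normalizer (F.H : Set G)) :
    g ∈ F.H₁ ∨ (F.n i)⁻¹ * g ∈ F.H₁ := by
  have h1 : ∀ h ∈ F.H, g⁻¹ * h * g ∈ F.B := by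
    intro h hh
    have := (Subgroup.mem_normalizer_iff.1 (inv_mem hN) h).1 hh
    rw [inv_inv] at this
    exact F.H_le this
  rcases F.two i g hg h1 with h | h
  · exact Or.inl (Subgroup.mem_inf.2 ⟨h, hN⟩)
  · exact Or.inr (Subgroup.mem_inf.2 ⟨h, mul_mem (inv_mem (F.n_norm i)) hN⟩)

theorem conj_mem (i : Bool) {h : G} (hh : h ∈ F.H₁) : F.n i * h * (F.n i)⁻¹ ∈ F.H₁ := by
  have h1 : F.n i * h * (F.n i)⁻¹ ∈ F.P i :=
    mul_mem (mul_mem (F.n_mem i) (F.B_le i (F.H₁_le hh))) (inv_mem (F.n_mem i))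
  have h2 : F.n i * h * (F.n i)⁻¹ ∈ Subgroup.normalizer (F.H : Set G) :=
    mul_mem (mul_mem (F.n_norm i) (F.H₁_norm hh)) (inv_mem (F.n_norm i))
  rcases F.two' h1 h2 with h3 | h3
  · exact h3
  · exfalso
    have h4 : (F.n i)⁻¹ * (F.n i * h * (F.n i)⁻¹) = h * (F.n i)⁻¹ := by group
    rw [h4] at h3
    have h5 : (F.n i)⁻¹ ∈ F.H₁ := (F.H₁.mul_mem_cancel_left hh).1 h3
    exact F.n_not i (F.H₁_le (inv_mem_iff.1 h5))

theorem sq_mem (i : Bool) : F.n i * F.n i ∈ F.H₁ := by
  rcases F.two' (mul_mem (F.n_mem i) (F.n_mem i)) (mul_mem (F.n_norm i) (F.n_norm i)) with h | h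
  · exact h
  · exfalso
    rw [inv_mul_cancel_left] at h
    exact F.n_not i (F.H₁_le h)

theorem conj_mem' (i : Bool) {h : G} (hh : h ∈ F.H₁) : (F.n i)⁻¹ * h * F.n i ∈ F.H₁ := by
  -- `n⁻¹ = n * n⁻²`
  have h1 := F.sq_mem i
  have h2 : (F.n i)⁻¹ * h * F.n i =
      F.n i * ((F.n i * F.n i)⁻¹ * h * (F.n i * F.n i)) * (F.n i)⁻¹ := by group
  rw [h2]
  exact F.conj_mem i (mul_mem (mul_mem (inv_mem h1) hh) h1)

/-- Elements normalising `H₁`. -/
theorem n_mem_norm (i : Bool) : F.n i ∈ Subgroup.normalizer (F.H₁ : Set G) := by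
  rw [Subgroup.mem_normalizer_iff]
  intro h
  refine ⟨F.conj_mem i, fun hh => ?_⟩
  have := F.conj_mem' i hh
  have e : (F.n i)⁻¹ * (F.n i * h * (F.n i)⁻¹) * F.n i = h := by group
  rwa [e] at this

theorem alt_mem_norm (i : Bool) (k : ℕ) : alt F.n i k ∈ Subgroup.normalizer (F.H₁ : Set G) := by
  induction k generalizing i with
  | zero => exact one_mem _
  | succ k ih => exact mul_mem (F.n_mem_norm i) (ih _)

theorem alt_mem_norm' (i : Bool) (k : ℕ) : alt F.n i k ∈ Subgroup.normalizer (F.H : Set G) := by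
  induction k generalizing i with
  | zero => exact one_mem _
  | succ k ih => exact mul_mem (F.n_norm i) (ih _)

/-- The galleries of length `k + 1` with the first `k` steps standard are conjugate. -/
def PathTo (k : ℕ) : Prop :=
  ∀ i, ∀ b ∈ F.B, ∃ c ∈ F.B, ∃ d ∈ F.B, alt F.n i k * b * F.n (nxt i k) = c * alt F.n i (k + 1) * d

/-- `PathTo k` from root groups: `B = X (B ∩ nBn⁻¹)` and the word of length `k` conjugates `X` into
`B`. -/
theorem pathTo_of_root {k : ℕ} (X : Bool → Set G)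
    (hX : ∀ i, ∀ b ∈ F.B, ∃ x ∈ X i, ∃ c ∈ F.B, b = x * c ∧ (F.n i)⁻¹ * c * F.n i ∈ F.B)
    (hw : ∀ i, ∀ x ∈ X (nxt i k), alt F.n i k * x * (alt F.n i k)⁻¹ ∈ F.B) : F.PathTo k := by
  intro i b hb
  obtain ⟨x, hx, c, -, rfl, hc⟩ := hX (nxt i k) b hb
  refine ⟨_, hw i x hx, _, hc, ?_⟩
  rw [alt_succ']
  group

/-- The set of all `alt i k * h` with `k ≤ m`. -/
def Words (m : ℕ) : Set G := {g | ∃ i, ∃ k ≤ m, ∃ h ∈ F.H₁, g = alt F.n i k * h}

/-- The group generated by the reflections and `H₁`. -/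
def N : Subgroup G := Subgroup.closure {F.n false, F.n true} ⊔ F.H₁

theorem n_mem_N (i : Bool) : F.n i ∈ F.N := by
  refine Subgroup.mem_sup_left (Subgroup.subset_closure ?_)
  cases i <;> simp

theorem H₁_le_N : F.H₁ ≤ F.N := le_sup_right

theorem N_le_norm : F.N ≤ Subgroup.normalizer (F.H₁ : Set G) := by
  refine sup_le ?_ Subgroup.le_normalizer
  rw [Subgroup.closure_le]
  rintro x (rfl | rfl)
  · exact F.n_mem_norm false
  · exact F.n_mem_norm true

theorem N_le_norm' : F.N ≤ Subgroup.normalizer (F.H : Set G) := by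
  refine sup_le ?_ F.H₁_norm
  rw [Subgroup.closure_le]
  rintro x (rfl | rfl)
  · exact F.n_norm false
  · exact F.n_norm true

theorem B_inf_N : F.B ⊓ F.N = F.H₁ :=
  le_antisymm (fun _ hx => ⟨hx.1, F.N_le_norm' hx.2⟩) (le_inf F.H₁_le F.H₁_le_N)

/-- The braid relation of length `m`. -/
def Braid (m : ℕ) : Prop := ∃ h ∈ F.H₁, alt F.n true m = alt F.n false m * h

variable {F}

theorem Braid.all {m : ℕ} (hb : F.Braid m) (i : Bool) :
    ∃ h ∈ F.H₁, alt F.n (!i) m = alt F.n i m * h := by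
  obtain ⟨h, hh, e⟩ := hb
  cases i
  · exact ⟨h, hh, e⟩
  · refine ⟨h⁻¹, inv_mem hh, ?_⟩
    show alt F.n false m = _
    rw [e, mul_assoc, mul_inv_cancel, mul_one]

theorem mul_words {m : ℕ} (hb : F.Braid m) (hm : 1 ≤ m) (j : Bool) {g : G} (hg : g ∈ F.Words m) :
    F.n j * g ∈ F.Words m := by
  obtain ⟨i, k, hk, h, hh, rfl⟩ := hg
  -- reduction to words starting with the other letter
  have key : ∀ k ≤ m, ∀ h ∈ F.H₁, F.n j * (alt F.n j k * h) ∈ F.Words m := by
    intro k hk h hh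
    cases k with
    | zero => exact ⟨j, 1, hm, h, hh, by simp⟩
    | succ k =>
      have h1 := F.alt_mem_norm (!j) k
      rw [Subgroup.mem_normalizer_iff''] at h1
      have h2 := (h1 _).1 (F.sq_mem j)
      refine ⟨!j, k, by omega, _, mul_mem h2 hh, ?_⟩
      rw [alt_succ]
      group
  by_cases hij : i = j
  · subst hij; exact key k hk h hh
  · have hij' : i = !j := by cases i <;> cases j <;> simp_all
    subst hij'
    rcases Nat.lt_or_ge k m with h1 | h1
    · exact ⟨j, k + 1, h1, h, hh, by rw [alt_succ, mul_assoc]⟩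
    · have hkm : k = m := le_antisymm hk h1
      subst hkm
      obtain ⟨h', hh', e⟩ := hb.all j
      rw [e, mul_assoc]
      exact key k le_rfl _ (mul_mem hh' hh)

theorem mem_words {m : ℕ} (hb : F.Braid m) (hm : 1 ≤ m) {g : G} (hg : g ∈ F.N) :
    g ∈ F.Words m := by
  have hinv : ∀ j, ∀ g ∈ F.Words m, (F.n j)⁻¹ * g ∈ F.Words m := by
    intro j g hg
    -- `n⁻¹ = n * n⁻²`, and `n⁻² ∈ H₁` is absorbed on the right
    obtain ⟨i, k, hk, h, hh, rfl⟩ := hg
    have h1 := F.alt_mem_norm i k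
    rw [Subgroup.mem_normalizer_iff''] at h1
    have h2 := (h1 _).1 (inv_mem (F.sq_mem j))
    have e : (F.n j)⁻¹ * (alt F.n i k * h) =
        F.n j * (alt F.n i k * (((alt F.n i k)⁻¹ * (F.n j * F.n j)⁻¹ * alt F.n i k) * h)) := by
      group
    rw [e]
    exact mul_words hb hm j ⟨i, k, hk, _, mul_mem h2 hh, rfl⟩
  have hH : ∀ t ∈ F.H₁, ∀ g ∈ F.Words m, t * g ∈ F.Words m := by
    rintro t ht g ⟨i, k, hk, h, hh, rfl⟩
    have h1 := F.alt_mem_norm i k
    rw [Subgroup.mem_normalizer_iff''] at h1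
    exact ⟨i, k, hk, _, mul_mem ((h1 _).1 ht) hh, by group⟩
  have hone : (1 : G) ∈ F.Words m := ⟨false, 0, Nat.zero_le _, 1, one_mem _, by simp⟩
  have hN : F.N = Subgroup.closure ({F.n false, F.n true} ∪ (F.H₁ : Set G)) := by
    rw [Subgroup.closure_union, Subgroup.closure_eq]
    rfl
  -- all products
  have hall : ∀ x ∈ F.N, ∀ g ∈ F.Words m, x * g ∈ F.Words m := by
    intro x hx
    rw [hN] at hx
    induction hx using Subgroup.closure_induction'' with
    | one => intro g hg; rwa [one_mul]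
    | mem x hx =>
      rintro g hg
      rcases hx with (rfl | rfl) | hx
      · exact mul_words hb hm false hg
      · exact mul_words hb hm true hg
      · exact hH x hx g hg
    | inv_mem x hx =>
      rintro g hg
      rcases hx with (rfl | rfl) | hx
      · exact hinv false g hg
      · exact hinv true g hg
      · exact hH _ (inv_mem (show x ∈ F.H₁ from hx)) g hg
    | mul x y _ _ hx hy =>
      intro g hg
      rw [mul_assoc]
      exact hx _ (hy g hg)
  simpa using hall g hg 1 hone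

/-- Double coset form of `P i = B ∪ B (n i) B`. -/
theorem n_mul_n (i : Bool) {b : G} (hb : b ∈ F.B) :
    F.n i * b * F.n i ∈ F.B ∨ ∃ c ∈ F.B, ∃ d ∈ F.B, F.n i * b * F.n i = c * F.n i * d := by
  have h1 : F.n i * b * F.n i ∈ F.P i := mul_mem (mul_mem (F.n_mem i) (F.B_le i hb)) (F.n_mem i)
  exact (F.memP i _).1 h1

/-- The double coset condition, on the right. -/
theorem bn_right {m : ℕ} (hbr : F.Braid m) (hm : 1 ≤ m) (hp : ∀ k < m, F.PathTo k) {w : G}
    (hw : w ∈ F.N) {b : G} (hb : b ∈ F.B) (j : Bool) :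
    (∃ c ∈ F.B, ∃ d ∈ F.B, w * b * F.n j = c * (w * F.n j) * d) ∨
      ∃ c ∈ F.B, ∃ d ∈ F.B, w * b * F.n j = c * w * d := by
  -- words without the part in `H₁`
  have key : ∀ i, ∀ k ≤ m, ∀ b ∈ F.B,
      (∃ c ∈ F.B, ∃ d ∈ F.B, alt F.n i k * b * F.n j = c * (alt F.n i k * F.n j) * d) ∨
      ∃ c ∈ F.B, ∃ d ∈ F.B, alt F.n i k * b * F.n j = c * alt F.n i k * d := by
    -- `j` is the last letter
    have last : ∀ i, ∀ k < m, nxt i k = j → ∀ b ∈ F.B,
        (∃ c ∈ F.B, ∃ d ∈ F.B, alt F.n i (k + 1) * b * F.n j =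
          c * (alt F.n i (k + 1) * F.n j) * d) ∨
        ∃ c ∈ F.B, ∃ d ∈ F.B, alt F.n i (k + 1) * b * F.n j = c * alt F.n i (k + 1) * d := by
      intro i k hk hj b hb
      subst hj
      rcases F.n_mul_n (nxt i k) hb with h1 | ⟨c, hc, d, hd, h1⟩
      · left
        refine ⟨1, one_mem _, (F.n (nxt i k) * F.n (nxt i k))⁻¹ * (F.n (nxt i k) * b * F.n (nxt i k)),
          mul_mem (inv_mem (F.H₁_le (F.sq_mem _))) h1, ?_⟩
        rw [alt_succ']
        group
      · right
        obtain ⟨c', hc', d', hd', h2⟩ := hp k hk i c hc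
        refine ⟨c', hc', d' * d, mul_mem hd' hd, ?_⟩
        calc alt F.n i (k + 1) * b * F.n (nxt i k)
            = alt F.n i k * (F.n (nxt i k) * b * F.n (nxt i k)) := by rw [alt_succ']; group
          _ = (alt F.n i k * c * F.n (nxt i k)) * d := by rw [h1]; group
          _ = _ := by rw [h2]; group
    intro i k hk b hb
    cases k with
    | zero =>
      left
      obtain ⟨c, hc, d, hd, h⟩ := hp 0 (by omega) j b hb
      refine ⟨c, hc, d, hd, ?_⟩
      simpa using h
    | succ k =>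
      by_cases hj : nxt i k = j
      · exact last i k (by omega) hj b hb
      · have hj' : nxt i (k + 1) = j := by
          rw [nxt_succ]
          revert hj
          cases nxt i k <;> cases j <;> simp
        rcases Nat.lt_or_ge (k + 1) m with h1 | h1
        · left
          obtain ⟨c, hc, d, hd, h⟩ := hp (k + 1) h1 i b hb
          rw [hj'] at h
          refine ⟨c, hc, d, hd, ?_⟩
          rw [h, alt_succ', hj']
        · have hkm : k + 1 = m := le_antisymm hk h1
          obtain ⟨h', hh', e⟩ := hbr.all (!i)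
          rw [Bool.not_not, ← hkm] at e
          have hj2 : nxt (!i) k = j := by rw [nxt_not, ← nxt_succ, hj']
          have hcj := F.conj_mem' j hh'
          rcases last (!i) k (by omega) hj2 (h' * b) (mul_mem (F.H₁_le hh') hb) with
            ⟨c, hc, d, hd, h⟩ | ⟨c, hc, d, hd, h⟩
          · left
            refine ⟨c, hc, ((F.n j)⁻¹ * h' * F.n j)⁻¹ * d, mul_mem (inv_mem (F.H₁_le hcj)) hd, ?_⟩
            rw [e]
            calc alt F.n (!i) (k + 1) * h' * b * F.n j
                = alt F.n (!i) (k + 1) * (h' * b) * F.n j := by group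
              _ = _ := by rw [h]; group
          · right
            refine ⟨c, hc, h'⁻¹ * d, mul_mem (inv_mem (F.H₁_le hh')) hd, ?_⟩
            rw [e]
            calc alt F.n (!i) (k + 1) * h' * b * F.n j
                = alt F.n (!i) (k + 1) * (h' * b) * F.n j := by group
              _ = _ := by rw [h]; group
  obtain ⟨i, k, hk, h, hh, rfl⟩ := mem_words hbr hm hw
  have hcj := F.conj_mem' j hh
  rcases key i k hk (h * b) (mul_mem (F.H₁_le hh) hb) with ⟨c, hc, d, hd, e⟩ | ⟨c, hc, d, hd, e⟩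
  · left
    refine ⟨c, hc, ((F.n j)⁻¹ * h * F.n j)⁻¹ * d, mul_mem (inv_mem (F.H₁_le hcj)) hd, ?_⟩
    calc alt F.n i k * h * b * F.n j = alt F.n i k * (h * b) * F.n j := by group
      _ = _ := by rw [e]; group
  · right
    refine ⟨c, hc, h⁻¹ * d, mul_mem (inv_mem (F.H₁_le hh)) hd, ?_⟩
    calc alt F.n i k * h * b * F.n j = alt F.n i k * (h * b) * F.n j := by group
      _ = _ := by rw [e]; group

/-- The double coset condition, on the left. -/
theorem bn_left {m : ℕ} (hbr : F.Braid m) (hm : 1 ≤ m) (hp : ∀ k < m, F.PathTo k) {w : G}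
    (hw : w ∈ F.N) {b : G} (hb : b ∈ F.B) (j : Bool) :
    (∃ c ∈ F.B, ∃ d ∈ F.B, F.n j * b * w = c * (F.n j * w) * d) ∨
      ∃ c ∈ F.B, ∃ d ∈ F.B, F.n j * b * w = c * w * d := by
  have hsq := F.sq_mem j
  -- `n b w = (w⁻¹ ((n²)b)⁻¹ n)⁻¹`
  rcases bn_right hbr hm hp (inv_mem hw) (inv_mem (mul_mem (F.H₁_le hsq) hb)) j with
    ⟨c, hc, d, hd, e⟩ | ⟨c, hc, d, hd, e⟩
  · left
    refine ⟨d⁻¹ * (F.n j * F.n j)⁻¹, mul_mem (inv_mem hd) (inv_mem (F.H₁_le hsq)), c⁻¹,
      inv_mem hc, ?_⟩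
    have e2 : F.n j * b * w = (w⁻¹ * (F.n j * F.n j * b)⁻¹ * F.n j)⁻¹ := by group
    rw [e2, e]
    group
  · right
    refine ⟨d⁻¹, inv_mem hd, c⁻¹, inv_mem hc, ?_⟩
    have e2 : F.n j * b * w = (w⁻¹ * (F.n j * F.n j * b)⁻¹ * F.n j)⁻¹ := by group
    rw [e2, e]
    group

variable (F)

theorem n_notMem_of_ne {i j : Bool} (hij : i ≠ j) : F.n i ∉ F.P j := by
  intro h
  have h1 : F.n i ∈ F.P false ⊓ F.P true := by
    rw [Subgroup.mem_inf]
    cases i <;> cases j
    · exact absurd rfl hij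
    · exact ⟨F.n_mem _, h⟩
    · exact ⟨h, F.n_mem _⟩
    · exact absurd rfl hij
  rw [F.inter] at h1
  exact F.n_not i h1

theorem n_ne : F.n false ≠ F.n true := by
  intro h
  refine F.n_notMem_of_ne (i := false) (j := true) (by simp) ?_
  rw [h]
  exact F.n_mem true

/-- The BN-pair of rank two. -/
def toBNPair {m : ℕ} (hbr : F.Braid m) (hm : 1 ≤ m) (hp : ∀ k < m, F.PathTo k)
    (hgen : F.P false ⊔ F.P true = ⊤) (thick : ∀ i, ∃ b ∈ F.B, F.n i * b * (F.n i)⁻¹ ∉ F.B) :
    Cfsg.BNPair G where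
  B := F.B
  N := F.N
  S := {F.n false, F.n true}
  sup_eq_top := by
    rw [eq_top_iff, ← hgen]
    have : ∀ i, F.P i ≤ F.B ⊔ F.N := by
      intro i x hx
      rcases (F.memP i x).1 hx with h | ⟨b, hb, c, hc, rfl⟩
      · exact Subgroup.mem_sup_left h
      · exact mul_mem (mul_mem (Subgroup.mem_sup_left hb) (Subgroup.mem_sup_right (F.n_mem_N i)))
          (Subgroup.mem_sup_left hc)
    exact sup_le (this false) (this true)
  conj_mem := by
    intro n hn t ht
    rw [F.B_inf_N] at ht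
    exact F.H₁_le ((Subgroup.mem_normalizer_iff.1 (F.N_le_norm hn) t).1 ht)
  subset := by
    rintro x (rfl | rfl)
    · exact F.n_mem_N false
    · exact F.n_mem_N true
  sq_mem := by
    rintro x (rfl | rfl)
    · exact F.H₁_le (F.sq_mem false)
    · exact F.H₁_le (F.sq_mem true)
  inj := by
    have h : ∀ i j, (F.n i)⁻¹ * F.n j ∈ F.B → F.n i = F.n j := by
      intro i j hij
      by_cases e : i = j
      · rw [e]
      · exfalso
        refine F.n_notMem_of_ne (fun h => e h.symm) (?_ : F.n j ∈ F.P i)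
        have h1 := mul_mem (F.n_mem i) (F.B_le i hij)
        rwa [mul_inv_cancel_left] at h1
    rintro x (rfl | rfl) y (rfl | rfl) hxy
    · rfl
    · exact h _ _ hxy
    · exact h _ _ hxy
    · rfl
  closure_sup := by rw [F.B_inf_N]; rfl
  mul_mem_union := by
    intro s hs n hn b hb
    obtain ⟨j, rfl⟩ : ∃ j, s = F.n j := by
      rcases hs with rfl | rfl
      · exact ⟨false, rfl⟩
      · exact ⟨true, rfl⟩
    rcases bn_left hbr hm hp hn hb j with ⟨c, hc, d, hd, e⟩ | ⟨c, hc, d, hd, e⟩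
    · left
      rw [DoubleCoset.mem_doubleCoset]
      exact ⟨c, hc, d, hd, e⟩
    · right
      rw [DoubleCoset.mem_doubleCoset]
      exact ⟨c, hc, d, hd, e⟩
  conj_ne := by
    have h : ∀ i, (fun b : G => F.n i * b * F.n i) '' (F.B : Set G) ≠ (F.B : Set G) := by
      intro i hi
      obtain ⟨b, hb, hnb⟩ := thick i
      apply hnb
      have h1 : F.n i * b * F.n i ∈ (F.B : Set G) := by
        rw [← hi]
        exact ⟨b, hb, rfl⟩
      have h2 : F.n i * b * (F.n i)⁻¹ = (F.n i * b * F.n i) * (F.n i * F.n i)⁻¹ := by group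
      rw [h2]
      exact mul_mem h1 (inv_mem (F.H₁_le (F.sq_mem i)))
    rintro x (rfl | rfl)
    · exact h false
    · exact h true

theorem rank_toBNPair {m : ℕ} (hbr : F.Braid m) (hm : 1 ≤ m) (hp : ∀ k < m, F.PathTo k)
    (hgen : F.P false ⊔ F.P true = ⊤) (thick : ∀ i, ∃ b ∈ F.B, F.n i * b * (F.n i)⁻¹ ∉ F.B) :
    (F.toBNPair hbr hm hp hgen thick).rank = 2 := by
  show Nat.card ({F.n false, F.n true} : Set G) = 2
  rw [Nat.card_coe_set_eq]
  exact Set.ncard_pair F.n_ne

/-- **The closing theorem, combinatorial part**: a split BN-pair of rank two. -/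
theorem exists_split {m : ℕ} (hbr : F.Braid m) (hm : 1 ≤ m) (hp : ∀ k < m, F.PathTo k)
    (hgen : F.P false ⊔ F.P true = ⊤) (thick : ∀ i, ∃ b ∈ F.B, F.n i * b * (F.n i)⁻¹ ∉ F.B)
    (U : Subgroup G) (hU : U ≤ F.B) (hn : ∀ b ∈ F.B, ∀ u ∈ U, b * u * b⁻¹ ∈ U)
    (hnil : Group.IsNilpotent U) (hUH : ∀ b ∈ F.B, ∃ u ∈ U, u⁻¹ * b ∈ Subgroup.normalizer (F.H : Set G)) :
    ∃ Q : Cfsg.BNPair G, Q.rank = 2 ∧ Q.IsSplit ∧ Q.B = F.B ∧ Q.N = F.N ∧
      Q.S = {F.n false, F.n true} := by
  refine ⟨F.toBNPair hbr hm hp hgen thick, F.rank_toBNPair hbr hm hp hgen thick, ?_, rfl, rfl, rfl⟩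
  refine ⟨U, hU, hn, hnil, ?_⟩
  show U ⊔ (F.B ⊓ F.N) = F.B
  rw [F.B_inf_N]
  refine le_antisymm (sup_le hU F.H₁_le) fun b hb => ?_
  obtain ⟨u, hu, hub⟩ := hUH b hb
  have e : b = u * (u⁻¹ * b) := by group
  rw [e]
  exact mul_mem (Subgroup.mem_sup_left hu) (Subgroup.mem_sup_right
    (Subgroup.mem_inf.2 ⟨mul_mem (inv_mem (hU hu)) hb, hub⟩))

end Frame

end Cfsg.Agent.RankTwoClose
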