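import Mathlib
import Cfsg.Agent.Omega.RootLemma
import Cfsg.Agent.RankTwoClose.BN

/-!
# The braid relation from a torus with a strongly embedded subgroup in its centralizer

Given a `Frame` (see `RankTwoClose/BN`), a subgroup `A` and a root pair `E ≤ K` with respect to `A`
(`RootLemma.Root`), `K ≤ P i` containing a representative of the reflection `n i` modulo `H₁`.
With `w = alt (!i) (m - 1)`: if `K` is also contained in `w (P j) w⁻¹`, `j` the type of the panel
opposite to the one of type `i`, then the braid relation of length `m` holds.  The inclusion is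
automatic if `w` normalises `A` (`m` even), or if `w (P j) w⁻¹` contains a second root group.
-/

set_option autoImplicit false

universe u

namespace Cfsg.Agent.RankTwoClose

open Cfsg.Agent.Omega.RootLemma

/-- The rank one group of `A` is unique, also for different Sylow subgroups. -/
theorem root_le {G : Type u} [Group G] [Finite G] {A U K V K' : Subgroup G} (hB : Bender.{u})
    (h : Root A U K) (h' : Root A V K') : K' ≤ K := by
  -- a conjugate of `V` in the centralizer lies in `U`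
  obtain ⟨c, hcA, hc⟩ : ∃ c : G, (∀ a ∈ A, c * a = a * c) ∧ ∀ v ∈ V, c * v * c⁻¹ ∈ U := by
    obtain ⟨S, hS⟩ : ∃ S : Sylow 2 (Cn A), (S : Subgroup (Cn A)) = U.subgroupOf (Cn A) := by
      obtain ⟨S, hS⟩ := h.ti.two.exists_le_sylow
      exact ⟨S, le_antisymm (h.ti.syl _ S.isPGroup' hS) hS⟩
    have hp : IsPGroup 2 (V.subgroupOf (Cn A)) := h'.two.comap_subtype
    obtain ⟨T, hT⟩ := hp.exists_le_sylow
    obtain ⟨g, hg⟩ := MulAction.exists_smul_eq (Cn A) T S
    refine ⟨g, mem_cen.1 g.2, fun v hv => ?_⟩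
    have hle := h'.le_cen
    have h1 : (⟨v, hle hv⟩ : Cn A) ∈ T := hT (Subgroup.mem_subgroupOf.2 hv)
    have h2 : g * (⟨v, hle hv⟩ : Cn A) * g⁻¹ ∈ (S : Subgroup (Cn A)) := by
      rw [← hg]
      exact Subgroup.smul_mem_pointwise_smul _ (MulAut.conj g) _ h1
    rw [hS] at h2
    exact Subgroup.mem_subgroupOf.1 h2
  refine h'.gen.trans ?_
  rw [Subgroup.closure_le]
  rintro _ ⟨k, hk, v, hv, rfl⟩
  have e : k * v * k⁻¹ = (k * c⁻¹) * (c * v * c⁻¹) * (k * c⁻¹)⁻¹ := by group
  rw [e]
  refine h.mem hB (fun a ha => ?_) (hc v hv)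
  have h1 := h'.comm k hk a ha
  have h2 : c⁻¹ * a = a * c⁻¹ := by
    have := hcA a ha
    calc c⁻¹ * a = c⁻¹ * (a * c) * c⁻¹ := by group
      _ = c⁻¹ * (c * a) * c⁻¹ := by rw [this]
      _ = a * c⁻¹ := by group
  rw [mul_assoc, h2, ← mul_assoc, h1, mul_assoc]

theorem root_eq {G : Type u} [Group G] [Finite G] {A U K V K' : Subgroup G} (hB : Bender.{u})
    (h : Root A U K) (h' : Root A V K') : K = K' :=
  le_antisymm (root_le hB h' h) (root_le hB h h')

namespace Frame

variable {G : Type u} [Group G] (F : Frame G)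

/-- The braid relation from an element representing the reflection `n i` and lying in the opposite
panel stabiliser. -/
theorem braid_of_mem {m : ℕ} {i : Bool} {l : G} (hl : (F.n i)⁻¹ * l ∈ F.H₁)
    (hm : (alt F.n (!i) m)⁻¹ * l * alt F.n (!i) m ∈ F.P (nxt (!i) m)) : F.Braid (m + 1) := by
  set w := alt F.n (!i) m with hw
  set j := nxt (!i) m with hj
  have hwN : w ∈ Subgroup.normalizer (F.H : Set G) := F.alt_mem_norm' _ _
  have hwN1 : w ∈ Subgroup.normalizer (F.H₁ : Set G) := F.alt_mem_norm _ _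
  have hlN : l ∈ Subgroup.normalizer (F.H : Set G) := by
    have := mul_mem (F.n_norm i) (F.H₁_norm hl)
    rwa [mul_inv_cancel_left] at this
  have hg : w⁻¹ * l * w ∈ Subgroup.normalizer (F.H : Set G) :=
    mul_mem (mul_mem (inv_mem hwN) hlN) hwN
  have key : ∃ h ∈ F.H₁, alt F.n i (m + 1) = alt F.n (!i) (m + 1) * h := by
    rcases F.two' hm hg with h | h
    · exfalso
      have h1 : l ∈ F.H₁ := by
        rw [Subgroup.mem_normalizer_iff''] at hwN1
        exact (hwN1 l).2 h
      have h2 : F.n i ∈ F.H₁ := by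
        have h3 := mul_mem h1 (inv_mem hl)
        have e : l * ((F.n i)⁻¹ * l)⁻¹ = F.n i := by group
        rwa [e] at h3
      exact F.n_not i (F.H₁_le h2)
    · -- `h : (n j)⁻¹ (w⁻¹ l w) ∈ H₁`
      refine ⟨((F.n j)⁻¹ * (w⁻¹ * l * w)) * (w⁻¹ * ((F.n i)⁻¹ * l)⁻¹ * w), ?_, ?_⟩
      · refine mul_mem h ?_
        rw [Subgroup.mem_normalizer_iff''] at hwN1
        exact (hwN1 _).1 (inv_mem hl)
      · rw [alt_succ, alt_succ', ← hw, ← hj]
        group
  obtain ⟨h, hh, e⟩ := key
  cases i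
  · refine ⟨h⁻¹, inv_mem hh, ?_⟩
    have e' : alt F.n false (m + 1) = alt F.n true (m + 1) * h := e
    rw [e', mul_assoc, mul_inv_cancel, mul_one]
  · exact ⟨h, hh, e⟩

variable [Finite G]

/-- **Braid relation, two root groups**: `K ≤ P i` and `K' ≤ w (P j) w⁻¹` rank one groups for the
same `A`. -/
theorem braid_of_roots {m : ℕ} {i : Bool} {A U K V K' : Subgroup G} (hB : Bender.{u})
    (h : Root A U K) (h' : Root A V K') {l : G} (hlK : l ∈ K) (hl : (F.n i)⁻¹ * l ∈ F.H₁)
    (hK' : ∀ k ∈ K', (alt F.n (!i) m)⁻¹ * k * alt F.n (!i) m ∈ F.P (nxt (!i) m)) :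
    F.Braid (m + 1) :=
  F.braid_of_mem hl (hK' l ((root_eq hB h h') ▸ hlK))

/-- **Braid relation, one root group** (`m + 1` even): `w` normalises `A` and the opposite panel has
the same type. -/
theorem braid_of_root {m : ℕ} {i : Bool} {A U K : Subgroup G} (hB : Bender.{u})
    (h : Root A U K) {l : G} (hlK : l ∈ K) (hl : (F.n i)⁻¹ * l ∈ F.H₁) (hK : K ≤ F.P i)
    (hodd : Odd m) (hA : ∀ a ∈ A, (alt F.n (!i) m)⁻¹ * a * alt F.n (!i) m ∈ A) :
    F.Braid (m + 1) := by
  refine F.braid_of_mem hl ?_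
  have h1 : nxt (!i) m = i := by
    obtain ⟨r, rfl⟩ := hodd
    rw [nxt_not, nxt_succ, Bool.not_not]
    simp [nxt, Nat.bodd_mul, show Nat.bodd 2 = false from rfl]
  rw [h1]
  have h2 := h.conj_mem hB (y := (alt F.n (!i) m)⁻¹) (fun a ha => by rw [inv_inv]; exact hA a ha) hlK
  rw [inv_inv] at h2
  exact hK h2

end Frame

end Cfsg.Agent.RankTwoClose
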