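import Mathlib
import Cfsg.Agent.RankTwoClose.Braid

/-!
# The closing theorem in rank two

For a `Frame F` in a finite group `G` with `PathTo F k` for `k < m` and the braid relation of length
`m` (from `Frame.braid_of_roots`, `Frame.braid_of_root`) the group `X = ⟨P₀, P₁⟩` has a split BN-pair
of rank two with Borel subgroup `B`.
-/

set_option autoImplicit false

universe u

namespace Cfsg.Agent.RankTwoClose

namespace Frame

variable {G : Type*} [Group G] (F : Frame G)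

theorem mem_normalizer_subgroupOf {X H : Subgroup G} (hH : H ≤ X) {x : X} :
    x ∈ Subgroup.normalizer ((H.subgroupOf X : Subgroup X) : Set X) ↔
      (x : G) ∈ Subgroup.normalizer (H : Set G) := by
  rw [Subgroup.mem_normalizer_iff, Subgroup.mem_normalizer_iff]
  constructor
  · intro h y
    constructor
    · intro hy
      have := (h ⟨y, hH hy⟩).1 (Subgroup.mem_subgroupOf.2 hy)
      exact Subgroup.mem_subgroupOf.1 this
    · intro hy
      have hyX : y ∈ X := by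
        have h1 : (x : G)⁻¹ * ((x : G) * y * (x : G)⁻¹) * (x : G) ∈ X :=
          mul_mem (mul_mem (inv_mem x.2) (hH hy)) x.2
        have e : (x : G)⁻¹ * ((x : G) * y * (x : G)⁻¹) * (x : G) = y := by group
        rwa [e] at h1
      have := (h ⟨y, hyX⟩).2 (Subgroup.mem_subgroupOf.2 hy)
      exact Subgroup.mem_subgroupOf.1 this
  · intro h y
    rw [Subgroup.mem_subgroupOf, Subgroup.mem_subgroupOf]
    exact h (y : G)

/-- The frame in a subgroup containing both parabolics. -/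
def restrict (X : Subgroup G) (hX : ∀ i, F.P i ≤ X) : Frame X where
  B := F.B.subgroupOf X
  H := F.H.subgroupOf X
  P i := (F.P i).subgroupOf X
  n i := ⟨F.n i, hX i (F.n_mem i)⟩
  memP i x := by
    have hB : F.B ≤ X := (F.B_le i).trans (hX i)
    rw [Subgroup.mem_subgroupOf, F.memP]
    constructor
    · rintro (h | ⟨b, hb, c, hc, e⟩)
      · exact Or.inl (Subgroup.mem_subgroupOf.2 h)
      · exact Or.inr ⟨⟨b, hB hb⟩, Subgroup.mem_subgroupOf.2 hb, ⟨c, hB hc⟩,
          Subgroup.mem_subgroupOf.2 hc, Subtype.ext e⟩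
    · rintro (h | ⟨b, hb, c, hc, e⟩)
      · exact Or.inl (Subgroup.mem_subgroupOf.1 h)
      · exact Or.inr ⟨b, Subgroup.mem_subgroupOf.1 hb, c, Subgroup.mem_subgroupOf.1 hc,
          congrArg Subtype.val e⟩
  inter := by
    ext x
    rw [Subgroup.mem_inf, Subgroup.mem_subgroupOf, Subgroup.mem_subgroupOf,
      Subgroup.mem_subgroupOf, ← F.inter, Subgroup.mem_inf]
  H_le x hx := Subgroup.mem_subgroupOf.2 (F.H_le (Subgroup.mem_subgroupOf.1 hx))
  n_norm i := by
    rw [mem_normalizer_subgroupOf ((F.H_le.trans (F.B_le i)).trans (hX i))]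
    exact F.n_norm i
  n_not i h := F.n_not i (Subgroup.mem_subgroupOf.1 h)
  two i g hg h := by
    have hH : F.H ≤ X := (F.H_le.trans (F.B_le i)).trans (hX i)
    rcases F.two i g (Subgroup.mem_subgroupOf.1 hg) (fun t ht =>
      Subgroup.mem_subgroupOf.1 (h ⟨t, hH ht⟩ (Subgroup.mem_subgroupOf.2 ht))) with h1 | h1
    · exact Or.inl (Subgroup.mem_subgroupOf.2 h1)
    · exact Or.inr (Subgroup.mem_subgroupOf.2 h1)

variable {F} {X : Subgroup G} {hX : ∀ i, F.P i ≤ X}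

theorem coe_alt_restrict (i : Bool) (k : ℕ) :
    ((alt (F.restrict X hX).n i k : X) : G) = alt F.n i k := by
  induction k generalizing i with
  | zero => rfl
  | succ k ih =>
    rw [alt_succ, alt_succ, ← ih (!i)]
    rfl

theorem mem_H₁_restrict {x : X} : x ∈ (F.restrict X hX).H₁ ↔ (x : G) ∈ F.H₁ := by
  have hH : F.H ≤ X := (F.H_le.trans (F.B_le false)).trans (hX false)
  constructor
  · rintro ⟨h1, h2⟩
    exact ⟨Subgroup.mem_subgroupOf.1 h1, (mem_normalizer_subgroupOf hH).1 h2⟩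
  · rintro ⟨h1, h2⟩
    exact ⟨Subgroup.mem_subgroupOf.2 h1, (mem_normalizer_subgroupOf hH).2 h2⟩

theorem Braid.restrict {m : ℕ} (h : F.Braid m) : (F.restrict X hX).Braid m := by
  obtain ⟨t, ht, e⟩ := h
  refine ⟨⟨t, hX false (F.B_le false (F.H₁_le ht))⟩, mem_H₁_restrict.2 ht, Subtype.ext ?_⟩
  show ((alt (F.restrict X hX).n true m : X) : G) = ((alt (F.restrict X hX).n false m : X) : G) * t
  rw [coe_alt_restrict, coe_alt_restrict, e]

theorem PathTo.restrict {k : ℕ} (h : F.PathTo k) : (F.restrict X hX).PathTo k := by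
  have hB : F.B ≤ X := (F.B_le false).trans (hX false)
  intro i b hb
  obtain ⟨c, hc, d, hd, e⟩ := h i b (Subgroup.mem_subgroupOf.1 hb)
  refine ⟨⟨c, hB hc⟩, Subgroup.mem_subgroupOf.2 hc, ⟨d, hB hd⟩, Subgroup.mem_subgroupOf.2 hd,
    Subtype.ext ?_⟩
  show ((alt (F.restrict X hX).n i k : X) : G) * (b : G) * F.n (nxt i k) =
    c * ((alt (F.restrict X hX).n i (k + 1) : X) : G) * d
  rw [coe_alt_restrict, coe_alt_restrict, e]

variable (F)

/-- **Closing theorem for the subgroup `X = ⟨P₀, P₁⟩`.** -/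
theorem exists_split_sup {m : ℕ} (hbr : F.Braid m) (hm : 1 ≤ m) (hp : ∀ k < m, F.PathTo k)
    (thick : ∀ i, ∃ b ∈ F.B, F.n i * b * (F.n i)⁻¹ ∉ F.B)
    (U : Subgroup G) (hU : U ≤ F.B) (hn : ∀ b ∈ F.B, ∀ u ∈ U, b * u * b⁻¹ ∈ U)
    (hnil : Group.IsNilpotent U)
    (hUH : ∀ b ∈ F.B, ∃ u ∈ U, u⁻¹ * b ∈ Subgroup.normalizer (F.H : Set G)) {X : Subgroup G}
    (hX : F.P false ⊔ F.P true = X) :
    ∃ Q : Cfsg.BNPair X, Q.rank = 2 ∧ Q.IsSplit ∧ Q.B = F.B.subgroupOf X ∧
      (∀ x : X, x ∈ Q.N ↔ (x : G) ∈ F.N) := by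
  have hX' : ∀ i, F.P i ≤ X := by
    rintro (_ | _)
    · exact hX ▸ le_sup_left
    · exact hX ▸ le_sup_right
  set R := F.restrict X hX' with hR
  have hBX : F.B ≤ X := (F.B_le false).trans (hX' false)
  have hHX : F.H ≤ X := F.H_le.trans hBX
  have g1 : R.P false ⊔ R.P true = ⊤ := by
    show (F.P false).subgroupOf X ⊔ (F.P true).subgroupOf X = ⊤
    rw [← Subgroup.subgroupOf_sup (hX' false) (hX' true), hX]
    exact Subgroup.subgroupOf_self X
  have g2 : ∀ i, ∃ b ∈ R.B, R.n i * b * (R.n i)⁻¹ ∉ R.B := by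
    intro i
    obtain ⟨b, hb, hnb⟩ := thick i
    exact ⟨⟨b, hBX hb⟩, Subgroup.mem_subgroupOf.2 hb, fun h => hnb (Subgroup.mem_subgroupOf.1 h)⟩
  have g3 : U.subgroupOf X ≤ R.B := fun x hx =>
    Subgroup.mem_subgroupOf.2 (hU (Subgroup.mem_subgroupOf.1 hx))
  have g4 : ∀ b ∈ R.B, ∀ u ∈ U.subgroupOf X, b * u * b⁻¹ ∈ U.subgroupOf X := by
    intro b hb u hu
    exact Subgroup.mem_subgroupOf.2 (hn b (Subgroup.mem_subgroupOf.1 hb) u
      (Subgroup.mem_subgroupOf.1 hu))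
  have g5 : Group.IsNilpotent (U.subgroupOf X) :=
    Group.nilpotent_of_mulEquiv (Subgroup.subgroupOfEquivOfLe (hU.trans hBX)).symm
  have g6 : ∀ b ∈ R.B, ∃ u ∈ U.subgroupOf X, u⁻¹ * b ∈ Subgroup.normalizer (R.H : Set X) := by
    intro b hb
    obtain ⟨u, hu, hub⟩ := hUH b (Subgroup.mem_subgroupOf.1 hb)
    exact ⟨⟨u, hBX (hU hu)⟩, Subgroup.mem_subgroupOf.2 hu, (mem_normalizer_subgroupOf hHX).2 hub⟩
  obtain ⟨Q, h1, h2, h3, h4, -⟩ := R.exists_split (m := m) hbr.restrict hm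
    (fun k hk => (hp k hk).restrict) g1 g2 (U.subgroupOf X) g3 g4 g5 g6
  refine ⟨Q, h1, h2, h3, fun x => ?_⟩
  rw [h4]
  -- `R.N` maps onto `F.N`
  have key : R.N.map X.subtype = F.N := by
    show (Subgroup.closure {R.n false, R.n true} ⊔ R.H₁).map X.subtype = _
    rw [Subgroup.map_sup, MonoidHom.map_closure, Set.image_pair]
    have e2 : R.H₁.map X.subtype = F.H₁ := by
      ext y
      constructor
      · rintro ⟨z, hz, rfl⟩
        exact mem_H₁_restrict.1 hz
      · intro hy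
        exact ⟨⟨y, hBX (F.H₁_le hy)⟩, mem_H₁_restrict.2 hy, rfl⟩
    rw [e2]
    rfl
  rw [← key]
  constructor
  · intro hx
    exact ⟨x, hx, rfl⟩
  · rintro ⟨y, hy, hyx⟩
    rwa [← Subtype.ext hyx]

end Frame

end Cfsg.Agent.RankTwoClose
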