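import Mathlib

/-!
# Cyclic modules in characteristic two for abelian groups of odd order

A `2`-element commuting with an abelian group `A` of odd order acts trivially on every cyclic
`𝔽₂A`-module: it acts as an element `p` of `𝔽₂A`, and `p ^ 2 ^ k = p` for suitable `k`.
-/

set_option autoImplicit false

namespace Cfsg.Agent.RankTwoClose.Cyc

theorem pow_two_pow_eq {A : Type*} [CommGroup A] {n k : ℕ} (hn : ∀ a : A, a ^ n = 1)
    (hk : 2 ^ k ≡ 1 [MOD n]) (p : MonoidAlgebra (ZMod 2) A) : p ^ 2 ^ k = p := by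
  haveI : CharP (MonoidAlgebra (ZMod 2) A) 2 := by
    refine (CharP.charP_iff_prime_eq_zero Nat.prime_two).2 ?_
    have : ((2 : ℕ) : ZMod 2) = 0 := by decide
    have h := congrArg (algebraMap (ZMod 2) (MonoidAlgebra (ZMod 2) A)) this
    rwa [map_natCast, map_zero] at h
  have hpow : ∀ a : A, a ^ 2 ^ k = a := by
    intro a
    have h1 : a ^ 2 ^ k = a ^ 1 := by
      rw [pow_eq_pow_iff_modEq]
      exact hk.of_dvd (orderOf_dvd_of_pow_eq_one (hn a))
    rwa [pow_one] at h1
  have hc : ∀ c : ZMod 2, c ^ 2 ^ k = c := by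
    intro c
    have h2 : (2 : ℕ) ^ k ≠ 0 := by positivity
    have : c = 0 ∨ c = 1 := by revert c; decide
    rcases this with rfl | rfl
    · exact zero_pow h2
    · exact one_pow _
  induction p using MonoidAlgebra.induction_linear with
  | zero => exact zero_pow (by positivity)
  | add f g hf hg => rw [add_pow_char_pow, hf, hg]
  | single a c => rw [MonoidAlgebra.single_pow, hpow, hc]

/-- **A `2`-element commuting with an abelian group of odd order is trivial on cyclic modules.** -/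
theorem end_eq_one {A : Type*} [CommGroup A] [Finite A] (hodd : Odd (Nat.card A)) {W : Type*}
    [AddCommGroup W] [Module (ZMod 2) W] (ρ : A →* Module.End (ZMod 2) W) (w : W)
    (hw : Submodule.span (ZMod 2) (Set.range fun a => ρ a w) = ⊤)
    (t : Module.End (ZMod 2) W) (ht : ∀ a, t * ρ a = ρ a * t) {m : ℕ} (htm : t ^ 2 ^ m = 1) :
    t = 1 := by
  set P : MonoidAlgebra (ZMod 2) A →ₐ[ZMod 2] Module.End (ZMod 2) W :=
    MonoidAlgebra.lift (ZMod 2) (Module.End (ZMod 2) W) A ρ with hP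
  have hPs : ∀ a : A, P (MonoidAlgebra.of (ZMod 2) A a) = ρ a := by
    intro a
    rw [hP, MonoidAlgebra.lift_of]
  -- every vector is `P p w`
  have hsurj : ∀ v : W, ∃ p, P p w = v := by
    intro v
    have hv : v ∈ Submodule.span (ZMod 2) (Set.range fun a => ρ a w) := hw ▸ Submodule.mem_top
    induction hv using Submodule.span_induction with
    | mem x hx =>
      obtain ⟨a, rfl⟩ := hx
      exact ⟨_, by rw [hPs]⟩
    | zero => exact ⟨0, by rw [map_zero, LinearMap.zero_apply]⟩
    | add x y _ _ hx hy =>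
      obtain ⟨p, rfl⟩ := hx
      obtain ⟨q, rfl⟩ := hy
      exact ⟨p + q, by rw [map_add, LinearMap.add_apply]⟩
    | smul c x _ hx =>
      obtain ⟨p, rfl⟩ := hx
      exact ⟨c • p, by rw [map_smul, LinearMap.smul_apply]⟩
  -- `t` commutes with `P p`
  have hcomm : ∀ p, t * P p = P p * t := by
    intro p
    induction p using MonoidAlgebra.induction_on with
    | of a => rw [hPs]; exact ht a
    | add f g hf hg => rw [map_add, mul_add, add_mul, hf, hg]
    | smul r f hf => rw [map_smul, mul_smul_comm, smul_mul_assoc, hf]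
  obtain ⟨p, hp⟩ := hsurj (t w)
  have htp : t = P p := by
    apply LinearMap.ext
    intro v
    obtain ⟨q, rfl⟩ := hsurj v
    have h1 : t (P q w) = P q (t w) := by
      have := congrArg (fun f => f w) (hcomm q)
      exact this
    rw [h1, ← hp]
    have h2 : P q (P p w) = (P q * P p) w := rfl
    have h3 : P p (P q w) = (P p * P q) w := rfl
    rw [h2, h3, ← map_mul, ← map_mul, mul_comm]
  -- choose the exponent
  set n := Nat.card A with hn
  have hcop : Nat.Coprime 2 n := (Nat.coprime_two_left).2 hodd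
  have hphi : 1 ≤ Nat.totient n := Nat.totient_pos.2 hodd.pos
  set k := Nat.totient n * m with hk
  have hk1 : 2 ^ k ≡ 1 [MOD n] := by
    rw [hk, pow_mul]
    have := (Nat.ModEq.pow_totient hcop).pow m
    rwa [one_pow] at this
  have hmk : m ≤ k := by
    rw [hk]
    exact Nat.le_mul_of_pos_left m hphi
  have e1 : t ^ 2 ^ k = t := by
    rw [htp, ← map_pow, pow_two_pow_eq (fun a => ?_) hk1]
    rw [hn]
    exact pow_card_eq_one'
  have e2 : t ^ 2 ^ k = 1 := by
    obtain ⟨r, hr⟩ := Nat.exists_eq_add_of_le hmk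
    rw [hr, pow_add, pow_mul, htm, one_pow]
  rw [← e1, e2]

/-- Group version: `V` elementary abelian and normal. -/
theorem commute_of_cyclic {X : Type*} [Group X] {V : Subgroup X} (hVn : V.Normal)
    (hab : ∀ x ∈ V, ∀ y ∈ V, x * y = y * x) (hsq : ∀ x ∈ V, x * x = 1)
    {A : Subgroup X} [Finite A] (hAab : ∀ a ∈ A, ∀ b ∈ A, a * b = b * a)
    (hodd : Odd (Nat.card A)) {w : X} (hwV : w ∈ V)
    (hw : V ≤ Subgroup.closure {x | ∃ a ∈ A, x = a * w * a⁻¹})
    {t : X} (htA : ∀ a ∈ A, t * a = a * t) {m : ℕ} (htm : t ^ 2 ^ m = 1) :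
    ∀ x ∈ V, t * x = x * t := by
  letI iV : CommGroup V := { (inferInstance : Group V) with
    mul_comm := fun x y => Subtype.ext (hab x x.2 y y.2) }
  letI iA : CommGroup A := { (inferInstance : Group A) with
    mul_comm := fun x y => Subtype.ext (hAab x x.2 y y.2) }
  letI iM : Module (ZMod 2) (Additive V) := AddCommGroup.zmodModule (n := 2) (by
    intro v
    have h := hsq v.toMul v.toMul.2
    rw [two_nsmul]
    apply Additive.toMul.injective
    exact Subtype.ext h)
  let ρ : X →* Module.End (ZMod 2) (Additive V) :=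
    { toFun := fun g => AddMonoidHom.toZModLinearMap 2
        (MonoidHom.toAdditive (MulAut.conjNormal (H := V) g).toMonoidHom)
      map_one' := by
        apply LinearMap.ext
        intro v
        apply Additive.toMul.injective
        apply Subtype.ext
        show (1 : X) * v.toMul * 1⁻¹ = v.toMul
        group
      map_mul' := by
        intro g h
        apply LinearMap.ext
        intro v
        apply Additive.toMul.injective
        apply Subtype.ext
        show (g * h) * v.toMul * (g * h)⁻¹ = g * (h * v.toMul * h⁻¹) * g⁻¹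
        group }
  have hρ : ∀ (g : X) (v : V), ρ g (Additive.ofMul v) =
      Additive.ofMul ⟨g * v * g⁻¹, hVn.conj_mem v v.2 g⟩ := fun g v => rfl
  have key := end_eq_one (A := A) hodd (ρ.comp A.subtype) (Additive.ofMul ⟨w, hwV⟩)
    (by
      rw [eq_top_iff]
      rintro v -
      have hcl : ∀ x ∈ Subgroup.closure {x | ∃ a ∈ A, x = a * w * a⁻¹}, ∃ hx : x ∈ V,
          Additive.ofMul (⟨x, hx⟩ : V) ∈ Submodule.span (ZMod 2)
            (Set.range fun a => (ρ.comp A.subtype) a (Additive.ofMul ⟨w, hwV⟩)) := by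
        intro x hx
        induction hx using Subgroup.closure_induction with
        | mem x hx =>
          obtain ⟨a, ha, rfl⟩ := hx
          exact ⟨hVn.conj_mem w hwV a, Submodule.subset_span ⟨⟨a, ha⟩, rfl⟩⟩
        | one => exact ⟨one_mem _, Submodule.zero_mem _⟩
        | mul x y _ _ hx hy =>
          obtain ⟨hx1, hx2⟩ := hx
          obtain ⟨hy1, hy2⟩ := hy
          exact ⟨mul_mem hx1 hy1, Submodule.add_mem _ hx2 hy2⟩
        | inv x _ hx =>
          obtain ⟨hx1, hx2⟩ := hx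
          exact ⟨inv_mem hx1, Submodule.neg_mem _ hx2⟩
      obtain ⟨hx, h⟩ := hcl v.toMul (hw v.toMul.2)
      exact h)
    (ρ t) (by
      intro a
      show ρ t * ρ a = ρ a * ρ t
      rw [← map_mul, ← map_mul, htA a a.2]) (m := m) (by rw [← map_pow, htm, map_one])
  intro x hx
  have h1 : ρ t (Additive.ofMul ⟨x, hx⟩) = Additive.ofMul ⟨x, hx⟩ := by
    rw [key]
    rfl
  rw [hρ] at h1
  have h2 : t * x * t⁻¹ = x := congrArg Subtype.val (Additive.ofMul.injective h1)
  calc t * x = t * x * t⁻¹ * t := by group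
    _ = x * t := by rw [h2]

/-- Group version for a section `Q / Z`. -/
theorem comm_mem_of_cyclic {G : Type*} [Group G] [Finite G] {Q Z A : Subgroup G} (hZQ : Z ≤ Q)
    (hcomm : ∀ x ∈ Q, ∀ y ∈ Q, x * y * x⁻¹ * y⁻¹ ∈ Z) (hsq : ∀ x ∈ Q, x * x ∈ Z)
    (hAQ : ∀ a ∈ A, ∀ x ∈ Q, a * x * a⁻¹ ∈ Q) (hAZ : ∀ a ∈ A, ∀ x ∈ Z, a * x * a⁻¹ ∈ Z)
    (hAab : ∀ a ∈ A, ∀ b ∈ A, a * b = b * a) (hodd : Odd (Nat.card A))
    {w : G} (hwQ : w ∈ Q) (hw : Q ≤ Subgroup.closure {x | ∃ a ∈ A, x = a * w * a⁻¹} ⊔ Z)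
    {t : G} (htQ : ∀ x ∈ Q, t * x * t⁻¹ ∈ Q) (htZ : ∀ x ∈ Z, t * x * t⁻¹ ∈ Z)
    (htA : ∀ a ∈ A, t * a = a * t) {m : ℕ} (htm : t ^ 2 ^ m = 1) :
    ∀ x ∈ Q, t * x * t⁻¹ * x⁻¹ ∈ Z := by
  have hnorm : ∀ (H : Subgroup G) (g : G), (∀ x ∈ H, g * x * g⁻¹ ∈ H) →
      g ∈ Subgroup.normalizer (H : Set G) := by
    intro H g hg
    have hcard : H.map (MulAut.conj g).toMonoidHom = H := by
      apply Subgroup.eq_of_le_of_card_ge
      · rintro _ ⟨x, hx, rfl⟩
        exact hg x hx
      · rw [Subgroup.card_map_of_injective (MulAut.conj g).injective]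
    rw [Subgroup.mem_normalizer_iff]
    intro x
    constructor
    · intro hx
      exact hg x hx
    · intro hx
      rw [← hcard] at hx
      obtain ⟨y, hy, e⟩ := hx
      have e' : g * y * g⁻¹ = g * x * g⁻¹ := e
      have : y = x := by
        have h3 : g⁻¹ * (g * y * g⁻¹) * g = g⁻¹ * (g * x * g⁻¹) * g := by rw [e']
        have e1 : g⁻¹ * (g * y * g⁻¹) * g = y := by group
        have e2 : g⁻¹ * (g * x * g⁻¹) * g = x := by group
        rwa [e1, e2] at h3
      rwa [← this]
  -- the ambient group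
  set M : Subgroup G := Subgroup.normalizer (Q : Set G) ⊓ Subgroup.normalizer (Z : Set G) with hM
  have hQM : Q ≤ M := fun x hx => ⟨Subgroup.le_normalizer hx, hnorm Z x (fun z hz => by
    have h := mul_mem (hcomm x hx z (hZQ hz)) hz
    have e : x * z * x⁻¹ * z⁻¹ * z = x * z * x⁻¹ := by group
    rwa [e] at h)⟩
  have hZM : Z ≤ M := hZQ.trans hQM
  have hAM : A ≤ M := fun a ha => ⟨hnorm Q a (hAQ a ha), hnorm Z a (hAZ a ha)⟩
  have htM : t ∈ M := ⟨hnorm Q t htQ, hnorm Z t htZ⟩
  have hNn : (Z.subgroupOf M).Normal := ⟨fun z hz g => by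
    rw [Subgroup.mem_subgroupOf] at hz ⊢
    exact (Subgroup.mem_normalizer_iff.1 g.2.2 _).1 hz⟩
  have hQn : (Q.subgroupOf M).Normal := ⟨fun z hz g => by
    rw [Subgroup.mem_subgroupOf] at hz ⊢
    exact (Subgroup.mem_normalizer_iff.1 g.2.1 _).1 hz⟩
  set N := Z.subgroupOf M with hN
  let π : M →* M ⧸ N := QuotientGroup.mk' N
  have hπ : ∀ x : M, π x = 1 ↔ (x : G) ∈ Z := by
    intro x
    show (QuotientGroup.mk' N) x = 1 ↔ _
    rw [QuotientGroup.mk'_apply, QuotientGroup.eq_one_iff, hN, Subgroup.mem_subgroupOf]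
  have hsurj : Function.Surjective π := QuotientGroup.mk'_surjective N
  set V := (Q.subgroupOf M).map π with hV
  have hVn : V.Normal := hQn.map π hsurj
  set A' := (A.subgroupOf M).map π with hA'
  have hodd' : Odd (Nat.card A') := by
    have h1 : Nat.card A' ∣ Nat.card (A.subgroupOf M) := Subgroup.card_map_dvd _ _
    have h2 : Nat.card (A.subgroupOf M) = Nat.card A :=
      Nat.card_congr (Subgroup.subgroupOfEquivOfLe hAM).toEquiv
    rw [h2] at h1
    exact hodd.of_dvd_nat h1
  have main := commute_of_cyclic (V := V) (A := A') hVn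
    (by
      rintro _ ⟨x, hx, rfl⟩ _ ⟨y, hy, rfl⟩
      have h : π (x * y * x⁻¹ * y⁻¹) = 1 := (hπ _).2 (hcomm x (Subgroup.mem_subgroupOf.1 hx) y
        (Subgroup.mem_subgroupOf.1 hy))
      rw [map_mul, map_mul, map_mul, map_inv, map_inv] at h
      calc π x * π y = (π x * π y * (π x)⁻¹ * (π y)⁻¹) * (π y * π x) := by group
        _ = π y * π x := by rw [h, one_mul])
    (by
      rintro _ ⟨x, hx, rfl⟩
      rw [← map_mul]
      exact (hπ _).2 (hsq x (Subgroup.mem_subgroupOf.1 hx)))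
    (by
      rintro _ ⟨a, ha, rfl⟩ _ ⟨b, hb, rfl⟩
      rw [← map_mul, ← map_mul]
      congr 1
      exact Subtype.ext (hAab a (Subgroup.mem_subgroupOf.1 ha) b (Subgroup.mem_subgroupOf.1 hb)))
    hodd' (w := π ⟨w, hQM hwQ⟩) ⟨_, Subgroup.mem_subgroupOf.2 hwQ, rfl⟩
    (by
      rintro _ ⟨x, hx, rfl⟩
      have hxQ : (x : G) ∈ Q := Subgroup.mem_subgroupOf.1 hx
      have hx2 := hw hxQ
      -- induction over the join
      have hcl : ∀ y ∈ Subgroup.closure {x | ∃ a ∈ A, x = a * w * a⁻¹} ⊔ Z, ∃ hy : y ∈ M,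
          π ⟨y, hy⟩ ∈ Subgroup.closure {x | ∃ a ∈ A', x = a * π ⟨w, hQM hwQ⟩ * a⁻¹} := by
        intro y hy
        rw [← Subgroup.closure_eq Z, ← Subgroup.closure_union] at hy
        induction hy using Subgroup.closure_induction with
        | mem y hy =>
          rcases hy with ⟨a, ha, rfl⟩ | hy
          · refine ⟨mul_mem (mul_mem (hAM ha) (hQM hwQ)) (inv_mem (hAM ha)), ?_⟩
            refine Subgroup.subset_closure ⟨π ⟨a, hAM ha⟩, ⟨_, Subgroup.mem_subgroupOf.2 ha, rfl⟩, ?_⟩
            rw [← map_inv, ← map_mul, ← map_mul]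
            rfl
          · have hyZ : y ∈ Z := hy
            refine ⟨hZM hyZ, ?_⟩
            rw [(hπ ⟨y, hZM hyZ⟩).2 hyZ]
            exact one_mem _
        | one => exact ⟨one_mem _, by rw [show (⟨1, one_mem _⟩ : M) = 1 from rfl, map_one]
                                      exact one_mem _⟩
        | mul x y _ _ hx hy =>
          obtain ⟨hx1, hx2⟩ := hx
          obtain ⟨hy1, hy2⟩ := hy
          refine ⟨mul_mem hx1 hy1, ?_⟩
          have := mul_mem hx2 hy2
          rwa [← map_mul] at this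
        | inv x _ hx =>
          obtain ⟨hx1, hx2⟩ := hx
          refine ⟨inv_mem hx1, ?_⟩
          have := inv_mem hx2
          rwa [← map_inv] at this
      obtain ⟨hy, h⟩ := hcl x hx2
      exact h)
    (t := π ⟨t, htM⟩)
    (by
      rintro _ ⟨a, ha, rfl⟩
      rw [← map_mul, ← map_mul]
      congr 1
      exact Subtype.ext (htA a (Subgroup.mem_subgroupOf.1 ha)))
    (m := m) (by
      rw [← map_pow]
      have : (⟨t, htM⟩ : M) ^ 2 ^ m = 1 := Subtype.ext htm
      rw [this, map_one])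
  intro x hx
  have h1 := main (π ⟨x, hQM hx⟩) ⟨_, Subgroup.mem_subgroupOf.2 hx, rfl⟩
  have h2 : π (⟨t, htM⟩ * ⟨x, hQM hx⟩ * ⟨t, htM⟩⁻¹ * ⟨x, hQM hx⟩⁻¹) = 1 := by
    rw [map_mul, map_mul, map_mul, map_inv, map_inv, h1]
    group
  exact (hπ _).1 h2

end Cfsg.Agent.RankTwoClose.Cyc
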