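import Mathlib
import Cfsg.Agent.S0022
import Cfsg.Agent.Omega.RootLemma
import Cfsg.Agent.RankTwoClose.Cyc

/-!
# The central root group (Theorem CR)

`S` a Sylow `2`-subgroup normalising `L`, `Q = O₂(L)`, `Z = [Q, Q] ≤ Z(L)`, `Q/Z` elementary and
irreducible for `L`, `C_G(z₀)` of characteristic two for some `z₀ ∈ Z# ∩ Z(S)`, `N_G(Q)` transitive on
`Z#`, `A ≤ C_G(Z)` abelian of odd order with `[S, A] ≤ L`, `C_S(A) ≤ Z` and `Q/Z` a cyclic
`𝔽₂A`-module.  Then `O₂(C_G(z)) = Q` for `z ∈ Z#` and `Z` is a Sylow `2`-subgroup of `C_G(A)` with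
`C_G(z) ∩ C_G(A) ≤ N_G(Z)`: `(A, Z, K)` is a root pair in the sense of `Omega.RootLemma.Root`.
-/

set_option autoImplicit false

universe u

namespace Cfsg.Agent.RankTwoClose.Central

open Subgroup
open scoped commutatorElement

variable {G : Type u} [Group G]

theorem mem_norm_of [Finite G] {H : Subgroup G} {g : G} (hg : ∀ x ∈ H, g * x * g⁻¹ ∈ H) :
    g ∈ normalizer (H : Set G) := by
  have hcard : H.map (MulAut.conj g).toMonoidHom = H := by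
    apply Subgroup.eq_of_le_of_card_ge
    · rintro _ ⟨x, hx, rfl⟩
      exact hg x hx
    · rw [Subgroup.card_map_of_injective (MulAut.conj g).injective]
  rw [Subgroup.mem_normalizer_iff]
  intro x
  constructor
  · intro hx
    exact hg x hx
  · intro hx
    rw [← hcard] at hx
    obtain ⟨y, hy, e⟩ := hx
    have e' : g * y * g⁻¹ = g * x * g⁻¹ := e
    have : y = x := by
      have h3 : g⁻¹ * (g * y * g⁻¹) * g = g⁻¹ * (g * x * g⁻¹) * g := by rw [e']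
      have e1 : g⁻¹ * (g * y * g⁻¹) * g = y := by group
      have e2 : g⁻¹ * (g * x * g⁻¹) * g = x := by group
      rwa [e1, e2] at h3
    rwa [← this]

theorem exists_pow_one [Finite G] {P : Subgroup G} (hP : IsPGroup 2 P) {x : G} (hx : x ∈ P) :
    ∃ m, x ^ 2 ^ m = 1 := by
  obtain ⟨m, hm⟩ := hP ⟨x, hx⟩
  exact ⟨m, congrArg Subtype.val hm⟩

theorem mem_sup_comm {R Z : Subgroup G} (hc : ∀ r ∈ R, ∀ z ∈ Z, r * z = z * r) {x : G}
    (hx : x ∈ R ⊔ Z) : ∃ a ∈ R, ∃ c ∈ Z, a * c = x := by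
  rw [← closure_eq R, ← closure_eq Z, ← Subgroup.closure_union] at hx
  induction hx using closure_induction with
  | mem x hx =>
    rcases hx with hx | hx
    · exact ⟨x, hx, 1, one_mem _, mul_one x⟩
    · exact ⟨1, one_mem _, x, hx, one_mul x⟩
  | one => exact ⟨1, one_mem _, 1, one_mem _, one_mul 1⟩
  | mul x y _ _ hx hy =>
    obtain ⟨a, ha, c, hcc, rfl⟩ := hx
    obtain ⟨b, hb, d, hd, rfl⟩ := hy
    refine ⟨a * b, mul_mem ha hb, c * d, mul_mem hcc hd, ?_⟩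
    calc a * b * (c * d) = a * (b * c) * d := by group
      _ = a * (c * b) * d := by rw [hc b hb c hcc]
      _ = a * c * (b * d) := by group
  | inv x _ hx =>
    obtain ⟨a, ha, c, hcc, rfl⟩ := hx
    refine ⟨a⁻¹, inv_mem ha, c⁻¹, inv_mem hcc, ?_⟩
    rw [mul_inv_rev]
    exact hc _ (inv_mem ha) _ (inv_mem hcc)

/-- The hypotheses. -/
structure CRoot (S : Sylow 2 G) (L Q Z A : Subgroup G) (z₀ w : G) : Prop where
  SL : ∀ s ∈ S, ∀ l ∈ L, s * l * s⁻¹ ∈ L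
  QL : Q ≤ L
  Q2 : IsPGroup 2 Q
  Qn : ∀ l ∈ L, ∀ x ∈ Q, l * x * l⁻¹ ∈ Q
  Qmax : ∀ R ≤ L, IsPGroup 2 R → (∀ l ∈ L, ∀ x ∈ R, l * x * l⁻¹ ∈ R) → R ≤ Q
  ZL : ∀ l ∈ L, ∀ z ∈ Z, l * z = z * l
  comm : ⁅Q, Q⁆ = Z
  sq : ∀ x ∈ Q, x * x ∈ Z
  irr : ∀ R ≤ Q, (∀ l ∈ L, ∀ x ∈ R, l * x * l⁻¹ ∈ R) → R ≤ Z ∨ Q ≤ R ⊔ Z
  z₀Z : z₀ ∈ Z
  z₀1 : z₀ ≠ 1
  z₀S : ∀ s ∈ S, s * z₀ = z₀ * s
  c2 : ∃ R : Subgroup G, (∀ x ∈ R, x * z₀ = z₀ * x) ∧ IsPGroup 2 R ∧
    (∀ d, d * z₀ = z₀ * d → ∀ x ∈ R, d * x * d⁻¹ ∈ R) ∧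
    (∀ d, d * z₀ = z₀ * d → (∀ x ∈ R, d * x = x * d) → d ∈ R)
  tr : ∀ z ∈ Z, z ≠ 1 → ∃ h, (∀ x ∈ Q, h * x * h⁻¹ ∈ Q) ∧ h * z₀ * h⁻¹ = z
  Aab : ∀ a ∈ A, ∀ b ∈ A, a * b = b * a
  Aodd : Odd (Nat.card A)
  AZ : ∀ a ∈ A, ∀ z ∈ Z, a * z = z * a
  AQ : ∀ a ∈ A, ∀ x ∈ Q, a * x * a⁻¹ ∈ Q
  AL : ∀ a ∈ A, ∀ x ∈ L, a * x * a⁻¹ ∈ L
  AS : ∀ a ∈ A, ∀ s ∈ S, a * s * a⁻¹ * s⁻¹ ∈ L
  cent : ∀ s ∈ S, (∀ a ∈ A, a * s = s * a) → s ∈ Z
  wQ : w ∈ Q
  cyc : Q ≤ closure {x | ∃ a ∈ A, x = a * w * a⁻¹} ⊔ Z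

/-- The conclusion on `C_G(z)`. -/
structure Ctl (Q : Subgroup G) (z : G) : Prop where
  norm : ∀ d, d * z = z * d → ∀ x ∈ Q, d * x * d⁻¹ ∈ Q
  cent : ∀ d, d * z = z * d → (∀ x ∈ Q, d * x = x * d) → d ∈ Q
  max : ∀ T : Subgroup G, (∀ x ∈ T, x * z = z * x) → IsPGroup 2 T →
    (∀ d, d * z = z * d → ∀ x ∈ T, d * x * d⁻¹ ∈ T) → T ≤ Q

namespace CRoot

variable {S : Sylow 2 G} {L Q Z A : Subgroup G} {z₀ w : G}

theorem ZQ (h : CRoot S L Q Z A z₀ w) : Z ≤ Q := by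
  rw [← h.comm]
  exact (commutator_le).2 fun x hx y hy => by
    rw [commutatorElement_def]
    exact mul_mem (mul_mem (mul_mem hx hy) (inv_mem hx)) (inv_mem hy)

theorem QZ (h : CRoot S L Q Z A z₀ w) {x z : G} (hx : x ∈ Q) (hz : z ∈ Z) : x * z = z * x :=
  h.ZL x (h.QL hx) z hz

theorem comm_mem (h : CRoot S L Q Z A z₀ w) {x y : G} (hx : x ∈ Q) (hy : y ∈ Q) :
    x * y * x⁻¹ * y⁻¹ ∈ Z := by
  rw [← h.comm, ← commutatorElement_def]
  exact commutator_mem_commutator hx hy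

theorem Zsq (h : CRoot S L Q Z A z₀ w) {z : G} (hz : z ∈ Z) : z * z = 1 := by
  rw [← h.comm] at hz
  have hab : ∀ x ∈ ⁅Q, Q⁆, ∀ y ∈ Q, x * y = y * x := fun x hx y hy =>
    (h.QZ hy (h.comm ▸ hx)).symm
  have key : z ∈ ⁅Q, Q⁆ ∧ z * z = 1 := by
    rw [Subgroup.commutator_def] at hz
    induction hz using closure_induction with
    | mem x hx =>
      obtain ⟨a, ha, b, hb, rfl⟩ := hx
      refine ⟨commutator_mem_commutator ha hb, ?_⟩
      -- `[a, b]² = [a², b] = 1`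
      have hc := commutator_mem_commutator ha hb
      have h1 : a * b * a⁻¹ = ⁅a, b⁆ * b := by rw [commutatorElement_def]; group
      have h2 : a * a * b * (a * a)⁻¹ = ⁅a, b⁆ * ⁅a, b⁆ * b := by
        have e : a * a * b * (a * a)⁻¹ = a * (a * b * a⁻¹) * a⁻¹ := by group
        rw [e, h1]
        have e2 : a * (⁅a, b⁆ * b) * a⁻¹ = (a * ⁅a, b⁆ * a⁻¹) * (a * b * a⁻¹) := by group
        rw [e2, h1, ← hab _ hc a ha]
        group
      have h3 : a * a * b = b * (a * a) := (h.QZ hb (h.sq a ha)).symm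
      have h4 : a * a * b * (a * a)⁻¹ = b := by rw [h3]; group
      rw [h4] at h2
      have h5 : b * b⁻¹ = ⁅a, b⁆ * ⁅a, b⁆ * b * b⁻¹ := by rw [← h2]
      rw [mul_inv_cancel, mul_inv_cancel_right] at h5
      exact h5.symm
    | one => exact ⟨one_mem _, one_mul 1⟩
    | mul x y _ _ hx hy =>
      obtain ⟨hx1, hx2⟩ := hx
      obtain ⟨hy1, hy2⟩ := hy
      refine ⟨mul_mem hx1 hy1, ?_⟩
      have hyQ : y ∈ Q := h.ZQ (h.comm ▸ hy1)
      calc x * y * (x * y) = x * (y * x) * y := by group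
        _ = x * (x * y) * y := by rw [hab x hx1 y hyQ]
        _ = (x * x) * (y * y) := by group
        _ = 1 := by rw [hx2, hy2, one_mul]
    | inv x _ hx =>
      obtain ⟨hx1, hx2⟩ := hx
      refine ⟨inv_mem hx1, ?_⟩
      have : (x * x)⁻¹ = 1 := by rw [hx2, inv_one]
      rwa [mul_inv_rev] at this
  exact key.2

theorem L_cent (h : CRoot S L Q Z A z₀ w) {l : G} (hl : l ∈ L) : l * z₀ = z₀ * l :=
  h.ZL l hl z₀ h.z₀Z

theorem not_Q_le_Z (h : CRoot S L Q Z A z₀ w) : ¬ Q ≤ Z := by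
  intro hQ
  have h1 : ⁅Q, Q⁆ = ⊥ := by
    rw [commutator_eq_bot_iff_le_centralizer]
    intro x hx
    rw [mem_centralizer_iff]
    intro y hy
    exact h.QZ hy (hQ hx)
  rw [h.comm] at h1
  have := h.z₀Z
  rw [h1, mem_bot] at this
  exact h.z₀1 this

variable [Finite G]

/-- A normal self-centralising `2`-subgroup of `C_G(z₀)` is `Q`. -/
theorem eq_Q (h : CRoot S L Q Z A z₀ w) {R : Subgroup G} (hRz : ∀ x ∈ R, x * z₀ = z₀ * x)
    (hR2 : IsPGroup 2 R) (hRn : ∀ d, d * z₀ = z₀ * d → ∀ x ∈ R, d * x * d⁻¹ ∈ R)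
    (hRc : ∀ d, d * z₀ = z₀ * d → (∀ x ∈ R, d * x = x * d) → d ∈ R) : R = Q ∧ R ≤ (S : Subgroup G) := by
  -- `R ≤ S`
  have hSR : (S : Subgroup G) ≤ normalizer (R : Set G) := fun s hs =>
    mem_norm_of (hRn s (h.z₀S s hs))
  have hRS : R ≤ (S : Subgroup G) := by
    have h1 : IsPGroup 2 ((S : Subgroup G) ⊔ R : Subgroup G) :=
      IsPGroup.to_sup_of_normal_right' S.isPGroup' hR2 hSR
    have h2 := S.is_maximal' h1 le_sup_left
    rw [← h2]
    exact le_sup_right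
  refine ⟨?_, hRS⟩
  -- `R ≤ Q`
  have hAz : ∀ a ∈ A, a * z₀ = z₀ * a := fun a ha => h.AZ a ha z₀ h.z₀Z
  have hR0 : R ⊓ L ≤ Q := by
    refine h.Qmax _ inf_le_right (hR2.to_le inf_le_left) ?_
    intro l hl x hx
    rw [mem_inf] at hx ⊢
    exact ⟨hRn l (h.L_cent hl) x hx.1, mul_mem (mul_mem hl hx.2) (inv_mem hl)⟩
  have hRQ : R ≤ Q := by
    intro r hr
    have hcop : (Nat.card A).Coprime (Nat.card R) := by
      obtain ⟨n, hn⟩ := IsPGroup.iff_card.1 hR2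
      rw [hn]
      exact Nat.Coprime.pow_right n ((Nat.coprime_two_right).2 h.Aodd)
    haveI : Group.IsSolvable R := by
      haveI := hR2.isNilpotent
      infer_instance
    obtain ⟨c, hc, hrc⟩ := Cfsg.Agent.S0022.result A R (fun a ha => mem_norm_of (hRn a (hAz a ha)))
      hcop (Or.inr inferInstance) (R ⊓ L) inf_le_left
      (fun x hx => mem_norm_of fun y hy => mem_inf.2 ⟨mul_mem (mul_mem hx (mem_inf.1 hy).1)
        (inv_mem hx), h.SL x (hRS hx) y (mem_inf.1 hy).2⟩)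
      (fun a ha => mem_norm_of fun y hy => mem_inf.2 ⟨hRn a (hAz a ha) y (mem_inf.1 hy).1,
        h.AL a ha y (mem_inf.1 hy).2⟩)
      r hr (fun a ha => mem_inf.2 ⟨mul_mem (hRn a (hAz a ha) r hr) (inv_mem hr),
        h.AS a ha r (hRS hr)⟩)
    have hcZ : c ∈ Z := h.cent c (hRS (mem_inf.1 hc).1) fun a ha =>
      mem_centralizer_iff.1 (mem_inf.1 hc).2 a ha
    have e : r = c * (r⁻¹ * c)⁻¹ := by group
    rw [e]
    exact mul_mem (h.ZQ hcZ) (inv_mem (hR0 hrc))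
  -- irreducibility
  rcases h.irr R hRQ (fun l hl x hx => hRn l (h.L_cent hl) x hx) with h1 | h1
  · exfalso
    apply h.not_Q_le_Z
    refine le_trans (fun q hq => ?_) h1
    exact hRc q (h.QZ hq h.z₀Z) fun x hx => h.QZ hq (h1 hx)
  · have h2 : Z ≤ R := by
      rw [← h.comm]
      refine (commutator_le).2 fun x hx y hy => ?_
      obtain ⟨a, ha, c, hc, rfl⟩ := mem_sup_comm (fun r hr z hz => h.QZ (hRQ hr) hz) (h1 hx)
      obtain ⟨b, hb, d, hd, rfl⟩ := mem_sup_comm (fun r hr z hz => h.QZ (hRQ hr) hz) (h1 hy)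
      have e : ⁅a * c, b * d⁆ = ⁅a, b⁆ := by
        have hcQ := h.ZQ hc
        have hdQ := h.ZQ hd
        have c1 : c * (b * d) = b * d * c := (h.QZ (mul_mem (hRQ hb) hdQ) hc).symm
        have c2 : d * a = a * d := (h.QZ (hRQ ha) hd).symm
        rw [commutatorElement_def, commutatorElement_def]
        calc a * c * (b * d) * (a * c)⁻¹ * (b * d)⁻¹
            = a * (c * (b * d)) * c⁻¹ * a⁻¹ * d⁻¹ * b⁻¹ := by group
          _ = a * b * (d * a⁻¹) * d⁻¹ * b⁻¹ := by rw [c1]; group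
          _ = a * b * (a⁻¹ * (a * d) * a⁻¹) * d⁻¹ * b⁻¹ := by group
          _ = a * b * (a⁻¹ * (d * a) * a⁻¹) * d⁻¹ * b⁻¹ := by rw [c2]
          _ = a * b * a⁻¹ * b⁻¹ := by group
      rw [e, commutatorElement_def]
      exact mul_mem (mul_mem (mul_mem ha hb) (inv_mem ha)) (inv_mem hb)
    exact le_antisymm hRQ (h1.trans (sup_le le_rfl h2))

theorem QS (h : CRoot S L Q Z A z₀ w) : Q ≤ (S : Subgroup G) := by
  obtain ⟨R, h1, h2, h3, h4⟩ := h.c2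
  obtain ⟨e, hS⟩ := h.eq_Q h1 h2 h3 h4
  rwa [← e]

theorem ctl₀ (h : CRoot S L Q Z A z₀ w) : Ctl Q z₀ := by
  obtain ⟨R, h1, h2, h3, h4⟩ := h.c2
  obtain ⟨rfl, hS⟩ := h.eq_Q h1 h2 h3 h4
  refine ⟨h3, h4, ?_⟩
  intro T hT1 hT2 hT3
  have hTn : R ≤ normalizer (T : Set G) := fun r hr => mem_norm_of (hT3 r (h1 r hr))
  have hTR2 : IsPGroup 2 (R ⊔ T : Subgroup G) := IsPGroup.to_sup_of_normal_right' h2 hT2 hTn
  have hle : ∀ x ∈ R ⊔ T, x * z₀ = z₀ * x := by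
    have : R ⊔ T ≤ centralizer {z₀} := by
      refine sup_le (fun x hx => ?_) (fun x hx => ?_)
      · rw [mem_centralizer_singleton_iff]
        exact (h1 x hx)
      · rw [mem_centralizer_singleton_iff]
        exact (hT1 x hx)
    intro x hx
    exact mem_centralizer_singleton_iff.1 (this hx)
  have hn : ∀ d, d * z₀ = z₀ * d → ∀ x ∈ R ⊔ T, d * x * d⁻¹ ∈ R ⊔ T := by
    intro d hd
    have : d ∈ normalizer ((R ⊔ T : Subgroup G) : Set G) := by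
      have e1 : d ∈ normalizer (R : Set G) := mem_norm_of (h3 d hd)
      have e2 : d ∈ normalizer (T : Set G) := mem_norm_of (hT3 d hd)
      refine mem_norm_of fun x hx => ?_
      rw [← closure_eq R, ← closure_eq T, ← Subgroup.closure_union] at hx
      induction hx using closure_induction with
      | mem x hx =>
        rcases hx with hx | hx
        · exact (le_sup_left : R ≤ R ⊔ T) (h3 d hd x hx)
        · exact (le_sup_right : T ≤ R ⊔ T) (hT3 d hd x hx)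
      | one => simp
      | mul x y _ _ hx hy =>
        have e : d * (x * y) * d⁻¹ = (d * x * d⁻¹) * (d * y * d⁻¹) := by group
        rw [e]
        exact mul_mem hx hy
      | inv x _ hx =>
        have e : d * x⁻¹ * d⁻¹ = (d * x * d⁻¹)⁻¹ := by group
        rw [e]
        exact inv_mem hx
    intro x hx
    exact (mem_normalizer_iff.1 this x).1 hx
  obtain ⟨e, -⟩ := h.eq_Q hle hTR2 hn fun d hd hdx =>
    (le_sup_left : R ≤ R ⊔ T) (h4 d hd fun x hx => hdx x ((le_sup_left : R ≤ R ⊔ T) hx))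
  exact le_sup_right.trans e.le

/-- **`O₂(C_G(z)) = Q` and `C_{C_G(z)}(Q) ≤ Q` for `z ∈ Z#`.** -/
theorem ctl (h : CRoot S L Q Z A z₀ w) {z : G} (hz : z ∈ Z) (hz1 : z ≠ 1) : Ctl Q z := by
  obtain ⟨g, hg, e⟩ := h.tr z hz hz1
  have hgn : g ∈ normalizer (Q : Set G) := mem_norm_of hg
  have hg' : ∀ x ∈ Q, g⁻¹ * x * g ∈ Q := by
    intro x hx
    have := (mem_normalizer_iff.1 (inv_mem hgn) x).1 hx
    rwa [inv_inv] at this
  have hd' : ∀ d, d * z = z * d → (g⁻¹ * d * g) * z₀ = z₀ * (g⁻¹ * d * g) := by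
    intro d hd
    rw [← e] at hd
    calc g⁻¹ * d * g * z₀ = g⁻¹ * (d * (g * z₀ * g⁻¹)) * g := by group
      _ = g⁻¹ * (g * z₀ * g⁻¹ * d) * g := by rw [hd]
      _ = z₀ * (g⁻¹ * d * g) := by group
  have c := h.ctl₀
  refine ⟨?_, ?_, ?_⟩
  · intro d hd x hx
    have h1 := hg _ (c.norm _ (hd' d hd) _ (hg' x hx))
    have e2 : g * (g⁻¹ * d * g * (g⁻¹ * x * g) * (g⁻¹ * d * g)⁻¹) * g⁻¹ = d * x * d⁻¹ := by group
    rwa [e2] at h1
  · intro d hd hdx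
    have h1 := hg _ (c.cent (g⁻¹ * d * g) (hd' d hd) fun x hx => by
      have h2 := hdx _ (hg x hx)
      calc g⁻¹ * d * g * x = g⁻¹ * (d * (g * x * g⁻¹)) * g := by group
        _ = g⁻¹ * (g * x * g⁻¹ * d) * g := by rw [h2]
        _ = x * (g⁻¹ * d * g) := by group)
    have e2 : g * (g⁻¹ * d * g) * g⁻¹ = d := by group
    rwa [e2] at h1
  · intro T hT1 hT2 hT3 x hx
    have h1 := c.max (T.map (MulAut.conj g⁻¹).toMonoidHom) (by
      rintro _ ⟨y, hy, rfl⟩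
      have := hd' y (hT1 y hy)
      have e3 : (MulAut.conj g⁻¹).toMonoidHom y = g⁻¹ * y * g := by
        show g⁻¹ * y * g⁻¹⁻¹ = _
        rw [inv_inv]
      rw [e3]
      exact this) (hT2.map _) (by
      rintro d hd _ ⟨y, hy, rfl⟩
      have hdz : (g * d * g⁻¹) * z = z * (g * d * g⁻¹) := by
        rw [← e]
        calc g * d * g⁻¹ * (g * z₀ * g⁻¹) = g * (d * z₀) * g⁻¹ := by group
          _ = g * (z₀ * d) * g⁻¹ := by rw [hd]
          _ = g * z₀ * g⁻¹ * (g * d * g⁻¹) := by group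
      refine ⟨_, hT3 _ hdz y hy, ?_⟩
      show g⁻¹ * (g * d * g⁻¹ * y * (g * d * g⁻¹)⁻¹) * g⁻¹⁻¹ = d * (g⁻¹ * y * g⁻¹⁻¹) * d⁻¹
      group) (show g⁻¹ * x * g ∈ _ from ⟨x, hx, by
        show g⁻¹ * x * g⁻¹⁻¹ = _
        rw [inv_inv]⟩)
    have h2 := hg _ h1
    have e2 : g * (g⁻¹ * x * g) * g⁻¹ = x := by group
    rwa [e2] at h2

/-- `C_G(z) ≤ N_G(Z)`. -/
theorem norm_Z (h : CRoot S L Q Z A z₀ w) {z : G} (hz : z ∈ Z) (hz1 : z ≠ 1) {d : G}
    (hd : d * z = z * d) : ∀ y ∈ Z, d * y * d⁻¹ ∈ Z := by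
  have c := h.ctl hz hz1
  intro y hy
  rw [← h.comm] at hy ⊢
  rw [Subgroup.commutator_def] at hy ⊢
  induction hy using closure_induction with
  | mem x hx =>
    obtain ⟨a, ha, b, hb, rfl⟩ := hx
    refine subset_closure ⟨d * a * d⁻¹, c.norm d hd a ha, d * b * d⁻¹, c.norm d hd b hb, ?_⟩
    rw [commutatorElement_def, commutatorElement_def]
    group
  | one =>
    have : d * 1 * d⁻¹ = 1 := by group
    rw [this]
    exact one_mem _
  | mul x y _ _ hx hy =>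
    have e : d * (x * y) * d⁻¹ = (d * x * d⁻¹) * (d * y * d⁻¹) := by group
    rw [e]
    exact mul_mem hx hy
  | inv x _ hx =>
    have e : d * x⁻¹ * d⁻¹ = (d * x * d⁻¹)⁻¹ := by group
    rw [e]
    exact inv_mem hx

/-- A `2`-element of `C_G(z)` acting trivially on `Q/Z` lies in `Q`. -/
theorem mem_Q_of_triv (h : CRoot S L Q Z A z₀ w) {z : G} (hz : z ∈ Z) (hz1 : z ≠ 1) {t : G}
    (htz : t * z = z * t) (ht : ∀ x ∈ Q, t * x * t⁻¹ * x⁻¹ ∈ Z) : t ∈ Q := by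
  have c := h.ctl hz hz1
  -- the stability group
  have hcentZ : ∀ g, (∀ x ∈ Q, g * x * g⁻¹ * x⁻¹ ∈ Z) → ∀ y ∈ Z, g * y = y * g := by
    intro g hg y hy
    rw [← h.comm, Subgroup.commutator_def] at hy
    induction hy using closure_induction with
    | mem x hx =>
      obtain ⟨a, ha, b, hb, rfl⟩ := hx
      have ha' := hg a ha
      have hb' := hg b hb
      set u := g * a * g⁻¹ * a⁻¹ with hu
      set v := g * b * g⁻¹ * b⁻¹ with hv
      have ea : g * a * g⁻¹ = u * a := by rw [hu]; group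
      have eb : g * b * g⁻¹ = v * b := by rw [hv]; group
      have e1 : g * ⁅a, b⁆ * g⁻¹ = ⁅g * a * g⁻¹, g * b * g⁻¹⁆ := by
        rw [commutatorElement_def, commutatorElement_def]; group
      have c1 : a * v = v * a := h.QZ ha hb'
      have c2 : b * u = u * b := h.QZ hb ha'
      have c3 : u * v = v * u := h.QZ (h.ZQ ha') hb'
      have e2 : ⁅u * a, v * b⁆ = ⁅a, b⁆ := by
        rw [commutatorElement_def, commutatorElement_def]
        calc u * a * (v * b) * (u * a)⁻¹ * (v * b)⁻¹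
            = u * (a * v) * b * a⁻¹ * u⁻¹ * b⁻¹ * v⁻¹ := by group
          _ = u * (v * a) * b * a⁻¹ * (b * u)⁻¹ * v⁻¹ := by rw [c1]; group
          _ = u * (v * a) * b * a⁻¹ * (u * b)⁻¹ * v⁻¹ := by rw [c2]
          _ = (u * v) * (a * b * a⁻¹ * b⁻¹) * (v * u)⁻¹ := by group
          _ = (v * u) * (a * b * a⁻¹ * b⁻¹) * (v * u)⁻¹ := by rw [c3]
          _ = a * b * a⁻¹ * b⁻¹ := by
            have hk := h.comm_mem ha hb
            have hvu : v * u ∈ Q := mul_mem (h.ZQ hb') (h.ZQ ha')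
            rw [h.QZ hvu hk]
            group
      rw [ea, eb, e2] at e1
      calc g * ⁅a, b⁆ = g * ⁅a, b⁆ * g⁻¹ * g := by group
        _ = ⁅a, b⁆ * g := by rw [e1]
    | one => rw [mul_one, one_mul]
    | mul x y _ _ hx hy => rw [← mul_assoc, hx, mul_assoc, hy, mul_assoc]
    | inv x _ hx =>
      calc g * x⁻¹ = x⁻¹ * (x * g) * x⁻¹ := by group
        _ = x⁻¹ * (g * x) * x⁻¹ := by rw [hx]
        _ = x⁻¹ * g := by group
  let T : Subgroup G :=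
    { carrier := {g | g * z = z * g ∧ ∀ x ∈ Q, g * x * g⁻¹ * x⁻¹ ∈ Z}
      one_mem' := ⟨by rw [mul_one, one_mul], fun x _ => by
        have : 1 * x * 1⁻¹ * x⁻¹ = 1 := by group
        rw [this]
        exact one_mem _⟩
      mul_mem' := by
        rintro a b ⟨ha1, ha2⟩ ⟨hb1, hb2⟩
        refine ⟨by rw [mul_assoc, hb1, ← mul_assoc, ha1, mul_assoc], fun x hx => ?_⟩
        have h1 := hb2 x hx
        have h2 := ha2 x hx
        have h3 := hcentZ a ha2 _ h1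
        have e : a * b * x * (a * b)⁻¹ * x⁻¹ =
            (a * (b * x * b⁻¹ * x⁻¹)) * a⁻¹ * (a * x * a⁻¹ * x⁻¹) := by group
        rw [e, h3]
        have e2 : b * x * b⁻¹ * x⁻¹ * a * a⁻¹ * (a * x * a⁻¹ * x⁻¹) =
          (b * x * b⁻¹ * x⁻¹) * (a * x * a⁻¹ * x⁻¹) := by group
        rw [e2]
        exact mul_mem h1 h2
      inv_mem' := by
        rintro a ⟨ha1, ha2⟩
        refine ⟨?_, fun x hx => ?_⟩
        · calc a⁻¹ * z = a⁻¹ * (z * a) * a⁻¹ := by group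
            _ = a⁻¹ * (a * z) * a⁻¹ := by rw [ha1]
            _ = z * a⁻¹ := by group
        · have h1 := ha2 x hx
          have h3 := hcentZ a ha2 _ (inv_mem h1)
          have e : a⁻¹ * x * a⁻¹⁻¹ * x⁻¹ = a⁻¹ * ((a * x * a⁻¹ * x⁻¹)⁻¹ * a) := by group
          rw [e, ← h3]
          have e2 : a⁻¹ * (a * (a * x * a⁻¹ * x⁻¹)⁻¹) = (a * x * a⁻¹ * x⁻¹)⁻¹ := by group
          rw [e2]
          exact inv_mem h1 }
  have hT2 : IsPGroup 2 T := by
    rintro ⟨g, hg1, hg2⟩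
    have h2 : g * g ∈ Q := by
      refine c.cent _ (by rw [mul_assoc, hg1, ← mul_assoc, hg1, mul_assoc]) fun x hx => ?_
      have h3 := hg2 x hx
      have h4 := hcentZ g hg2 _ h3
      set u := g * x * g⁻¹ * x⁻¹ with hu
      have e1 : g * x * g⁻¹ = u * x := by rw [hu]; group
      have e2 : g * g * x * (g * g)⁻¹ = x := by
        calc g * g * x * (g * g)⁻¹ = g * (g * x * g⁻¹) * g⁻¹ := by group
          _ = (g * u) * x * g⁻¹ := by rw [e1]; group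
          _ = u * (g * x * g⁻¹) := by rw [h4]; group
          _ = (u * u) * x := by rw [e1]; group
          _ = x := by rw [h.Zsq h3, one_mul]
      calc g * g * x = g * g * x * (g * g)⁻¹ * (g * g) := by group
        _ = x * (g * g) := by rw [e2]
    obtain ⟨m, hm⟩ := exists_pow_one h.Q2 h2
    refine ⟨m + 1, Subtype.ext ?_⟩
    show g ^ 2 ^ (m + 1) = 1
    rw [pow_succ', pow_mul, pow_two]
    exact hm
  refine c.max T (fun x hx => hx.1) hT2 ?_ (show t ∈ T from ⟨htz, ht⟩)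
  rintro d hd g ⟨hg1, hg2⟩
  refine ⟨?_, fun x hx => ?_⟩
  · calc d * g * d⁻¹ * z = d * g * (d⁻¹ * (z * d)) * d⁻¹ := by group
      _ = d * g * (d⁻¹ * (d * z)) * d⁻¹ := by rw [hd]
      _ = d * (g * z) * d⁻¹ := by group
      _ = (d * z) * g * d⁻¹ := by rw [hg1]; group
      _ = z * (d * g * d⁻¹) := by rw [hd]; group
  · have hdi : d⁻¹ * z = z * d⁻¹ := by
      calc d⁻¹ * z = d⁻¹ * (z * d) * d⁻¹ := by group
        _ = d⁻¹ * (d * z) * d⁻¹ := by rw [hd]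
        _ = z * d⁻¹ := by group
    have h1 := c.norm d⁻¹ hdi x hx
    rw [inv_inv] at h1
    have h2 := h.norm_Z hz hz1 hd _ (hg2 _ h1)
    have e : d * (g * (d⁻¹ * x * d) * g⁻¹ * (d⁻¹ * x * d)⁻¹) * d⁻¹ =
        d * g * d⁻¹ * x * (d * g * d⁻¹)⁻¹ * x⁻¹ := by group
    rwa [e] at h2

/-- **`2`-elements of `C_G(z) ∩ C_G(A)` lie in `Z`.** -/
theorem mem_Z (h : CRoot S L Q Z A z₀ w) {z : G} (hz : z ∈ Z) (hz1 : z ≠ 1) {t : G}
    (htz : t * z = z * t) (htA : ∀ a ∈ A, t * a = a * t) {m : ℕ} (htm : t ^ 2 ^ m = 1) :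
    t ∈ Z := by
  have c := h.ctl hz hz1
  have h1 := Cyc.comm_mem_of_cyclic h.ZQ (fun x hx y hy => h.comm_mem hx hy) h.sq h.AQ
    (fun a ha x hx => by
      rw [h.AZ a ha x hx, mul_inv_cancel_right]
      exact hx) h.Aab h.Aodd h.wQ h.cyc (c.norm t htz) (h.norm_Z hz hz1 htz) htA htm
  have h2 := h.mem_Q_of_triv hz hz1 htz h1
  exact h.cent t (h.QS h2) fun a ha => (htA a ha).symm

open Cfsg.Agent.Omega.RootLemma in
/-- **Theorem CR**: `(A, Z, K)` is a root pair. -/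
theorem root (h : CRoot S L Q Z A z₀ w) {K : Subgroup G} (hZK : Z ≤ K)
    (hK : ∀ k ∈ K, ∀ a ∈ A, k * a = a * k)
    (pair : ∃ a ∈ Z, ∃ b ∈ Z, a ≠ 1 ∧ b ≠ 1 ∧ a ≠ b)
    (mv : ∃ k ∈ K, ∃ v ∈ Z, k * v * k⁻¹ ∉ Z)
    (gen : K ≤ closure {x | ∃ k ∈ K, ∃ v ∈ Z, x = k * v * k⁻¹}) : Root A Z K where
  le := hZK
  comm := hK
  two := h.Q2.to_le h.ZQ
  syl P hP hPA hZP := by
    have hP' : Nontrivial P := ⟨⟨⟨z₀, hZP h.z₀Z⟩, 1, fun e => h.z₀1 (congrArg Subtype.val e)⟩⟩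
    haveI := hP.center_nontrivial
    obtain ⟨⟨u, hu⟩, hu1⟩ := exists_ne (1 : center P)
    have hu1' : (u : G) ≠ 1 := fun e => hu1 (Subtype.ext (Subtype.ext e))
    have huc : ∀ x ∈ P, x * (u : G) = u * x := by
      intro x hx
      have := mem_center_iff.1 hu ⟨x, hx⟩
      exact congrArg Subtype.val this
    obtain ⟨m, hm⟩ := exists_pow_one hP u.2
    have huZ : (u : G) ∈ Z := h.mem_Z h.z₀Z h.z₀1 (huc z₀ (hZP h.z₀Z)).symm
      (fun a ha => hPA u u.2 a ha) hm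
    intro x hx
    obtain ⟨m, hm⟩ := exists_pow_one hP hx
    exact h.mem_Z huZ hu1' (huc x hx) (fun a ha => hPA x hx a ha) hm
  pair := by
    obtain ⟨a, ha, b, hb, ha1, hb1, hab⟩ := pair
    exact ⟨a, ha, b, hb, h.Zsq ha, h.Zsq hb, ha1, hb1, hab⟩
  cent u hu _ v hv := h.QZ (h.ZQ hu) hv
  norm u hu _ hu1 c hc _ v hv := h.norm_Z hu hu1 hc v hv
  mv := mv
  gen := gen

end CRoot

end Cfsg.Agent.RankTwoClose.Central
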