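import Mathlib
import Cfsg.Agent.RankTwoClose.Central
import Cfsg.Agent.RankTwoClose.Final

/-!
# Closing of quadrangles with a central parabolic (types `U₄(q)`, `U₅(q)`)

`F` a frame, type `false` = the central parabolic (`[Z, L] = 1`), `Central.CRoot` for `(L, Q, Z, A)`.
* `braid_four`: the braid relation of length four from the root group `E = n_t Z n_t⁻¹` and the torus
  `n_t A n_t⁻¹`.
* `pathTo_four`: the path conditions from two `H₁`-invariant subgroups `Y`, `D` of `Q ∩ R`.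
-/

set_option autoImplicit false

universe u

namespace Cfsg.Agent.RankTwoClose.Four

open Subgroup Cfsg.Agent.Omega.RootLemma

variable {G : Type u} [Group G]

/-- `g H g⁻¹`. -/
def cj (g : G) (H : Subgroup G) : Subgroup G := H.map (MulAut.conj g).toMonoidHom

theorem mem_cj {g x : G} {H : Subgroup G} : x ∈ cj g H ↔ g⁻¹ * x * g ∈ H := by
  constructor
  · rintro ⟨y, hy, rfl⟩
    show g⁻¹ * (g * y * g⁻¹) * g ∈ H
    have e : g⁻¹ * (g * y * g⁻¹) * g = y := by group
    rwa [e]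
  · intro h
    refine ⟨_, h, ?_⟩
    show g * (g⁻¹ * x * g) * g⁻¹ = x
    group

theorem conj_mem_cj {g x : G} {H : Subgroup G} (hx : x ∈ H) : g * x * g⁻¹ ∈ cj g H := ⟨x, hx, rfl⟩

/-- Root pairs are preserved under conjugation. -/
theorem root_cj {A U K : Subgroup G} (h : Root A U K) (g : G) :
    Root (cj g A) (cj g U) (cj g K) where
  le := Subgroup.map_mono h.le
  comm := by
    rintro _ ⟨k, hk, rfl⟩ _ ⟨a, ha, rfl⟩
    rw [← map_mul, ← map_mul, h.comm k hk a ha]
  two := h.two.map _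
  syl P hP hPA hUP x hx := by
    have h1 := h.syl (cj g⁻¹ P) (hP.map _) (fun y hy a ha => by
      rw [mem_cj, inv_inv] at hy
      have h2 := hPA _ hy (g * a * g⁻¹) (conj_mem_cj ha)
      have h3 : g⁻¹ * (g * y * g⁻¹ * (g * a * g⁻¹)) * g = g⁻¹ * (g * a * g⁻¹ * (g * y * g⁻¹)) * g := by
        rw [h2]
      have e1 : g⁻¹ * (g * y * g⁻¹ * (g * a * g⁻¹)) * g = y * a := by group
      have e2 : g⁻¹ * (g * a * g⁻¹ * (g * y * g⁻¹)) * g = a * y := by group
      rwa [e1, e2] at h3) (fun y hy => by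
      rw [mem_cj, inv_inv]
      exact hUP (conj_mem_cj hy))
    rw [mem_cj]
    apply h1
    rw [mem_cj, inv_inv]
    have e : g * (g⁻¹ * x * g) * g⁻¹ = x := by group
    rwa [e]
  pair := by
    obtain ⟨a, ha, b, hb, haa, hbb, ha1, hb1, hab⟩ := h.pair
    refine ⟨g * a * g⁻¹, conj_mem_cj ha, g * b * g⁻¹, conj_mem_cj hb, ?_, ?_, ?_, ?_, ?_⟩
    · have e : g * a * g⁻¹ * (g * a * g⁻¹) = g * (a * a) * g⁻¹ := by group
      rw [e, haa]; group
    · have e : g * b * g⁻¹ * (g * b * g⁻¹) = g * (b * b) * g⁻¹ := by group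
      rw [e, hbb]; group
    · intro e; exact ha1 (conj_eq_one_iff.1 e)
    · intro e; exact hb1 (conj_eq_one_iff.1 e)
    · intro e
      exact hab (mul_left_cancel (mul_right_cancel e))
  cent := by
    rintro _ ⟨u, hu, rfl⟩ huu _ ⟨v, hv, rfl⟩
    rw [← map_mul, ← map_mul, h.cent u hu ?_ v hv]
    rw [← map_mul] at huu
    exact (MulAut.conj g).injective (huu.trans (map_one _).symm)
  norm := by
    rintro _ ⟨u, hu, rfl⟩ huu hu1 c hc hcA _ ⟨v, hv, rfl⟩
    have hu1' : u ≠ 1 := fun e => hu1 (by rw [e, map_one])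
    have huu' : u * u = 1 := by
      rw [← map_mul] at huu
      exact (MulAut.conj g).injective (huu.trans (map_one _).symm)
    have hc' : c * (g * u * g⁻¹) = g * u * g⁻¹ * c := hc
    have h1 := h.norm u hu huu' hu1' (g⁻¹ * c * g) (by
      have h2 : g⁻¹ * (c * (g * u * g⁻¹)) * g = g⁻¹ * (g * u * g⁻¹ * c) * g := by rw [hc']
      have e1 : g⁻¹ * (c * (g * u * g⁻¹)) * g = g⁻¹ * c * g * u := by group
      have e2 : g⁻¹ * (g * u * g⁻¹ * c) * g = u * (g⁻¹ * c * g) := by group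
      rwa [e1, e2] at h2) (fun a ha => by
      have h3 := hcA (g * a * g⁻¹) (conj_mem_cj ha)
      have h2 : g⁻¹ * (c * (g * a * g⁻¹)) * g = g⁻¹ * (g * a * g⁻¹ * c) * g := by rw [h3]
      have e1 : g⁻¹ * (c * (g * a * g⁻¹)) * g = g⁻¹ * c * g * a := by group
      have e2 : g⁻¹ * (g * a * g⁻¹ * c) * g = a * (g⁻¹ * c * g) := by group
      rwa [e1, e2] at h2) v hv
    rw [mem_cj]
    have e : g⁻¹ * (c * (MulAut.conj g).toMonoidHom v * c⁻¹) * g =
        g⁻¹ * c * g * v * (g⁻¹ * c * g)⁻¹ := by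
      show g⁻¹ * (c * (g * v * g⁻¹) * c⁻¹) * g = _
      group
    rw [e]
    exact h1
  mv := by
    obtain ⟨k, hk, v, hv, hkv⟩ := h.mv
    refine ⟨g * k * g⁻¹, conj_mem_cj hk, g * v * g⁻¹, conj_mem_cj hv, fun hc => hkv ?_⟩
    rw [mem_cj] at hc
    have e : g⁻¹ * (g * k * g⁻¹ * (g * v * g⁻¹) * (g * k * g⁻¹)⁻¹) * g = k * v * k⁻¹ := by group
    rwa [e] at hc
  gen := by
    intro x hx
    have h1 := h.gen (mem_cj.1 hx)
    have h2 : ∀ y ∈ closure {x | ∃ k ∈ K, ∃ v ∈ U, x = k * v * k⁻¹},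
        g * y * g⁻¹ ∈ closure {x | ∃ k ∈ cj g K, ∃ v ∈ cj g U, x = k * v * k⁻¹} := by
      intro y hy
      induction hy using closure_induction with
      | mem y hy =>
        obtain ⟨k, hk, v, hv, rfl⟩ := hy
        exact subset_closure ⟨g * k * g⁻¹, conj_mem_cj hk, g * v * g⁻¹, conj_mem_cj hv, by group⟩
      | one => simp
      | mul a b _ _ ha hb =>
        have e : g * (a * b) * g⁻¹ = (g * a * g⁻¹) * (g * b * g⁻¹) := by group
        rw [e]
        exact mul_mem ha hb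
      | inv a _ ha =>
        have e : g * a⁻¹ * g⁻¹ = (g * a * g⁻¹)⁻¹ := by group
        rw [e]
        exact inv_mem ha
    have h3 := h2 _ h1
    have e : g * (g⁻¹ * x * g) * g⁻¹ = x := by group
    rwa [e] at h3

section Braid

variable [Finite G] (F : Frame G) {S : Sylow 2 G} {L Q Z A : Subgroup G} {z₀ w : G}

/-- **Braid relation of length four** (central root group). -/
theorem braid_four (hB : Bender.{u}) (h : Central.CRoot S L Q Z A z₀ w)
    (hfA : ∀ a ∈ A, (F.n false)⁻¹ * a * F.n false ∈ A)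
    (htA : ∀ a ∈ A, (F.n true * F.n true)⁻¹ * a * (F.n true * F.n true) ∈ A)
    (hEP : cj (F.n true) Z ≤ F.P false)
    (hEH : ∀ k ∈ F.H₁, ∀ x ∈ cj (F.n true) Z, k * x * k⁻¹ ∈ cj (F.n true) Z)
    (hcomm : ∀ a ∈ cj (F.n true) A, ∀ x ∈ cj (F.n true) Z,
      (F.n false * x * (F.n false)⁻¹) * a = a * (F.n false * x * (F.n false)⁻¹))
    (hl : ∃ l ∈ cj (F.n true) Z ⊔ cj (F.n false) (cj (F.n true) Z), (F.n false)⁻¹ * l ∈ F.H₁)
    (hmv : ∃ x ∈ cj (F.n true) Z, F.n false * x * (F.n false)⁻¹ ∉ cj (F.n true) Z)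
    (pair : ∃ a ∈ Z, ∃ b ∈ Z, a ≠ 1 ∧ b ≠ 1 ∧ a ≠ b) : F.Braid 4 := by
  set E := cj (F.n true) Z with hE
  set K := E ⊔ cj (F.n false) E with hK
  obtain ⟨l, hlK, hlH⟩ := hl
  have hEK : E ≤ K := le_sup_left
  have hKcomm : ∀ k ∈ K, ∀ a ∈ cj (F.n true) A, k * a = a * k := by
    have : K ≤ centralizer (cj (F.n true) A : Set G) := by
      refine sup_le ?_ ?_
      · rintro _ ⟨z, hz, rfl⟩
        rw [mem_centralizer_iff]
        rintro _ ⟨a, ha, rfl⟩
        rw [← map_mul, ← map_mul, h.AZ a ha z hz]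
      · rintro _ ⟨x, hx, rfl⟩
        rw [mem_centralizer_iff]
        intro a ha
        exact (hcomm a ha x hx).symm
    intro k hk a ha
    exact (mem_centralizer_iff.1 (this hk) a ha).symm
  -- `l E l⁻¹ = n_f E n_f⁻¹`
  have hlE : ∀ x ∈ E, ∃ y ∈ E, l * y * l⁻¹ = F.n false * x * (F.n false)⁻¹ := by
    intro x hx
    refine ⟨_, hEH _ (inv_mem hlH) x hx, ?_⟩
    group
  -- the root pair before conjugation
  have key : Root A Z (cj (F.n true)⁻¹ K) := by
    refine h.root ?_ ?_ pair ?_ ?_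
    · intro z hz
      rw [mem_cj, inv_inv]
      exact hEK (conj_mem_cj hz)
    · intro k hk a ha
      rw [mem_cj, inv_inv] at hk
      have h2 := hKcomm _ hk _ (conj_mem_cj ha)
      set g := F.n true
      have h3 : g⁻¹ * (g * k * g⁻¹ * (g * a * g⁻¹)) * g = g⁻¹ * (g * a * g⁻¹ * (g * k * g⁻¹)) * g := by
        rw [h2]
      have e1 : g⁻¹ * (g * k * g⁻¹ * (g * a * g⁻¹)) * g = k * a := by group
      have e2 : g⁻¹ * (g * a * g⁻¹ * (g * k * g⁻¹)) * g = a * k := by group
      rwa [e1, e2] at h3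
    · -- `l` moves `E`
      obtain ⟨x, hx, hxn⟩ := hmv
      obtain ⟨y, hy, hyx⟩ := hlE x hx
      set g := F.n true
      refine ⟨g⁻¹ * l * g, ?_, g⁻¹ * y * g, mem_cj.1 hy, fun hc => hxn ?_⟩
      · rw [mem_cj, inv_inv]
        have e : g * (g⁻¹ * l * g) * g⁻¹ = l := by group
        rwa [e]
      · rw [hE, mem_cj, ← hyx]
        have e : g⁻¹ * l * g * (g⁻¹ * y * g) * (g⁻¹ * l * g)⁻¹ = g⁻¹ * (l * y * l⁻¹) * g := by group
        rwa [e] at hc
    · intro x hx
      rw [mem_cj, inv_inv] at hx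
      set g := F.n true
      have hcl : ∀ y ∈ K, g⁻¹ * y * g ∈
          closure {x | ∃ k ∈ cj g⁻¹ K, ∃ v ∈ Z, x = k * v * k⁻¹} := by
        intro y hy
        rw [hK, ← closure_eq E, ← closure_eq (cj (F.n false) (closure (E : Set G))),
          ← Subgroup.closure_union, closure_eq] at hy
        induction hy using closure_induction with
        | mem y hy =>
          rcases hy with hy | hy
          · exact subset_closure ⟨1, one_mem _, g⁻¹ * y * g, mem_cj.1 hy, by group⟩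
          · obtain ⟨x, hx, rfl⟩ := hy
            obtain ⟨y, hy, hyx⟩ := hlE x hx
            refine subset_closure ⟨g⁻¹ * l * g, ?_, g⁻¹ * y * g, mem_cj.1 hy, ?_⟩
            · rw [mem_cj, inv_inv]
              have e : g * (g⁻¹ * l * g) * g⁻¹ = l := by group
              rwa [e]
            · show g⁻¹ * (F.n false * x * (F.n false)⁻¹) * g = _
              rw [← hyx]
              group
        | one => simp
        | mul a b _ _ ha hb =>
          have e : g⁻¹ * (a * b) * g = (g⁻¹ * a * g) * (g⁻¹ * b * g) := by group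
          rw [e]
          exact mul_mem ha hb
        | inv a _ ha =>
          have e : g⁻¹ * a⁻¹ * g = (g⁻¹ * a * g)⁻¹ := by group
          rw [e]
          exact inv_mem ha
      have h1 := hcl _ hx
      have e : g⁻¹ * (g * x * g⁻¹) * g = x := by group
      rwa [e] at h1
  have key2 := root_cj key (F.n true)
  have eK : cj (F.n true) (cj (F.n true)⁻¹ K) = K := by
    ext x
    rw [mem_cj, mem_cj, inv_inv]
    have e : F.n true * ((F.n true)⁻¹ * x * F.n true) * (F.n true)⁻¹ = x := by group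
    rw [e]
  rw [eK] at key2
  have hKP : K ≤ F.P false := by
    refine sup_le hEP ?_
    rintro _ ⟨x, hx, rfl⟩
    exact mul_mem (mul_mem (F.n_mem false) (hEP hx)) (inv_mem (F.n_mem false))
  refine F.braid_of_root (m := 3) (i := false) hB key2 hlK hlH hKP (by decide) ?_
  rintro _ ⟨a, ha, rfl⟩
  have ew : alt F.n (!false) 3 = F.n true * F.n false * F.n true := by
    simp [alt_succ, mul_assoc]
  rw [ew, mem_cj]
  show (F.n true)⁻¹ * ((F.n true * F.n false * F.n true)⁻¹ * (F.n true * a * (F.n true)⁻¹) *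
    (F.n true * F.n false * F.n true)) * F.n true ∈ A
  have e : (F.n true)⁻¹ * ((F.n true * F.n false * F.n true)⁻¹ * (F.n true * a * (F.n true)⁻¹) *
      (F.n true * F.n false * F.n true)) * F.n true =
      (F.n true * F.n true)⁻¹ * ((F.n false)⁻¹ * a * F.n false) * (F.n true * F.n true) := by group
  rw [e]
  exact htA _ (hfA a ha)

end Braid

section Path

variable (F : Frame G)

/-- **The path conditions for quadrangles.** -/
theorem pathTo_four {U Q R Y D : Subgroup G} (hQB : Q ≤ F.B) (hRB : R ≤ F.B)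
    (hUH : ∀ b ∈ F.B, ∃ u ∈ U, u⁻¹ * b ∈ F.H₁)
    (hQn : ∀ x ∈ Q, (F.n false)⁻¹ * x * F.n false ∈ Q)
    (hQn' : ∀ x ∈ Q, F.n false * x * (F.n false)⁻¹ ∈ Q)
    (hRn : ∀ x ∈ R, (F.n true)⁻¹ * x * F.n true ∈ R)
    (hRn' : ∀ x ∈ R, F.n true * x * (F.n true)⁻¹ ∈ R)
    (hYQ : Y ≤ Q) (hYR : Y ≤ R) (hDQ : D ≤ Q) (hDR : D ≤ R)
    (hYH : ∀ k ∈ F.H₁, ∀ x ∈ Y, k * x * k⁻¹ ∈ Y) (hDH : ∀ k ∈ F.H₁, ∀ x ∈ D, k * x * k⁻¹ ∈ D)
    (hX4 : ∀ u ∈ U, ∃ x ∈ cj (F.n false) (Y ⊓ cj (F.n true) Y), ∃ r ∈ R, u = x * r)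
    (hX1 : ∀ u ∈ U, ∃ x ∈ cj (F.n true) (D ⊓ cj (F.n false) D), ∃ q ∈ Q, u = x * q) :
    ∀ k < 4, F.PathTo k := by
  set X4 := cj (F.n false) (Y ⊓ cj (F.n true) Y) with h4
  set X1 := cj (F.n true) (D ⊓ cj (F.n false) D) with h1
  -- conjugation by squares
  have sqY : ∀ i, ∀ x ∈ Y, F.n i * F.n i * x * (F.n i * F.n i)⁻¹ ∈ Y := fun i x hx =>
    hYH _ (F.sq_mem i) x hx
  have sqD : ∀ i, ∀ x ∈ D, F.n i * F.n i * x * (F.n i * F.n i)⁻¹ ∈ D := fun i x hx =>
    hDH _ (F.sq_mem i) x hx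
  intro k hk
  refine F.pathTo_of_root (fun i => cond i (X4 : Set G) (X1 : Set G)) ?_ ?_
  · intro i b hb
    obtain ⟨u, hu, hub⟩ := hUH b hb
    cases i with
    | false =>
      obtain ⟨x, hx, q, hq, rfl⟩ := hX1 u hu
      refine ⟨x, hx, q * ((x * q)⁻¹ * b), mul_mem (hQB hq) (F.H₁_le hub), by group, ?_⟩
      have e : (F.n false)⁻¹ * (q * ((x * q)⁻¹ * b)) * F.n false =
          ((F.n false)⁻¹ * q * F.n false) * ((F.n false)⁻¹ * ((x * q)⁻¹ * b) * F.n false) := by group
      rw [e]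
      exact mul_mem (hQB (hQn q hq)) (F.H₁_le (F.conj_mem' false hub))
    | true =>
      obtain ⟨x, hx, q, hq, rfl⟩ := hX4 u hu
      refine ⟨x, hx, q * ((x * q)⁻¹ * b), mul_mem (hRB hq) (F.H₁_le hub), by group, ?_⟩
      have e : (F.n true)⁻¹ * (q * ((x * q)⁻¹ * b)) * F.n true =
          ((F.n true)⁻¹ * q * F.n true) * ((F.n true)⁻¹ * ((x * q)⁻¹ * b) * F.n true) := by group
      rw [e]
      exact mul_mem (hRB (hRn q hq)) (F.H₁_le (F.conj_mem' true hub))
  · -- the words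
    have hx1 : ∀ x ∈ X1, ∃ d ∈ D, d ∈ cj (F.n false) D ∧ x = F.n true * d * (F.n true)⁻¹ := by
      rintro _ ⟨d, hd, rfl⟩
      exact ⟨d, (mem_inf.1 hd).1, (mem_inf.1 hd).2, rfl⟩
    have hx4 : ∀ x ∈ X4, ∃ y ∈ Y, y ∈ cj (F.n true) Y ∧ x = F.n false * y * (F.n false)⁻¹ := by
      rintro _ ⟨d, hd, rfl⟩
      exact ⟨d, (mem_inf.1 hd).1, (mem_inf.1 hd).2, rfl⟩
    intro i x hx
    interval_cases k
    · -- k = 0
      cases i
      · obtain ⟨d, hd, -, rfl⟩ := hx1 x hx
        have e : alt F.n false 0 * (F.n true * d * (F.n true)⁻¹) * (alt F.n false 0)⁻¹ =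
          F.n true * d * (F.n true)⁻¹ := by simp
        rw [e]
        exact hRB (hRn' d (hDR hd))
      · obtain ⟨d, hd, -, rfl⟩ := hx4 x hx
        have e : alt F.n true 0 * (F.n false * d * (F.n false)⁻¹) * (alt F.n true 0)⁻¹ =
          F.n false * d * (F.n false)⁻¹ := by simp
        rw [e]
        exact hQB (hQn' d (hYQ hd))
    · -- k = 1
      cases i
      · obtain ⟨d, hd, -, rfl⟩ := hx4 x hx
        have e : alt F.n false 1 * (F.n false * d * (F.n false)⁻¹) * (alt F.n false 1)⁻¹ =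
          F.n false * F.n false * d * (F.n false * F.n false)⁻¹ := by rw [alt_one]; group
        rw [e]
        exact hQB (hYQ (sqY false d hd))
      · obtain ⟨d, hd, -, rfl⟩ := hx1 x hx
        have e : alt F.n true 1 * (F.n true * d * (F.n true)⁻¹) * (alt F.n true 1)⁻¹ =
          F.n true * F.n true * d * (F.n true * F.n true)⁻¹ := by rw [alt_one]; group
        rw [e]
        exact hRB (hDR (sqD true d hd))
    · -- k = 2
      cases i
      · obtain ⟨d, hd, -, rfl⟩ := hx1 x hx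
        have e : alt F.n false 2 * (F.n true * d * (F.n true)⁻¹) * (alt F.n false 2)⁻¹ =
          F.n false * (F.n true * F.n true * d * (F.n true * F.n true)⁻¹) * (F.n false)⁻¹ := by
          simp only [alt_succ, alt_zero, Bool.not_false, mul_one]; group
        rw [e]
        exact hQB (hQn' _ (hDQ (sqD true d hd)))
      · obtain ⟨d, hd, -, rfl⟩ := hx4 x hx
        have e : alt F.n true 2 * (F.n false * d * (F.n false)⁻¹) * (alt F.n true 2)⁻¹ =
          F.n true * (F.n false * F.n false * d * (F.n false * F.n false)⁻¹) * (F.n true)⁻¹ := by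
          simp only [alt_succ, alt_zero, Bool.not_true, mul_one]; group
        rw [e]
        exact hRB (hRn' _ (hYR (sqY false d hd)))
    · -- k = 3
      cases i
      · obtain ⟨d, hd, hd', rfl⟩ := hx4 x hx
        rw [mem_cj] at hd'
        -- `d = n_t y n_t⁻¹`
        have e : alt F.n false 3 * (F.n false * d * (F.n false)⁻¹) * (alt F.n false 3)⁻¹ =
          F.n false * ((F.n true * (F.n false * F.n false) * (F.n true)⁻¹) *
            (F.n true * F.n true * ((F.n true)⁻¹ * d * F.n true) * (F.n true * F.n true)⁻¹) *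
            (F.n true * (F.n false * F.n false) * (F.n true)⁻¹)⁻¹) * (F.n false)⁻¹ := by
          simp only [alt_succ, alt_zero, Bool.not_false, Bool.not_true, mul_one]; group
        rw [e]
        exact hQB (hQn' _ (hYQ (hYH _ (F.conj_mem true (F.sq_mem false)) _ (sqY true _ hd'))))
      · obtain ⟨d, hd, hd', rfl⟩ := hx1 x hx
        rw [mem_cj] at hd'
        have e : alt F.n true 3 * (F.n true * d * (F.n true)⁻¹) * (alt F.n true 3)⁻¹ =
          F.n true * ((F.n false * (F.n true * F.n true) * (F.n false)⁻¹) *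
            (F.n false * F.n false * ((F.n false)⁻¹ * d * F.n false) * (F.n false * F.n false)⁻¹) *
            (F.n false * (F.n true * F.n true) * (F.n false)⁻¹)⁻¹) * (F.n true)⁻¹ := by
          simp only [alt_succ, alt_zero, Bool.not_false, Bool.not_true, mul_one]; group
        rw [e]
        exact hRB (hRn' _ (hDR (hDH _ (F.conj_mem false (F.sq_mem true)) _ (sqD false _ hd'))))

end Path

end Cfsg.Agent.RankTwoClose.Four
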