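import Mathlib
import Cfsg.Agent.RankTwoClose.UFour.Tools
import Cfsg.Agent.RankTwoClose.Four

/-!
# The closing theorem for quadrangles with a central parabolic (type `U₅(q)`; also `U₄(q)`)

`structure QData`: two rank one groups `L1` (the central one, `[Z, L1] = 1`, type `SU₃(q)`), `L2` (type
`SL₂(q²)`) over a common Sylow subgroup `U`, a common torus `H`, `Central.CRoot` for `L1`, and the
supplement conditions of `Four.pathTo_four`.  `QData.exists_split`: `⟨L1, L2⟩H` has a split `BN`-pair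
of rank two with Borel subgroup `UH`.  Nothing on the structure of `U / Q1` (it is nonabelian for
`SU₃(q)`), field automorphisms in `S` are allowed.
-/

set_option autoImplicit false

universe u

namespace Cfsg.Agent.RankTwoClose.Quad

open Cfsg.Agent.Omega.RootLemma Cfsg.Agent.RankTwoClose.UFour

variable {G : Type u} [Group G]

/-- A rank one group `L`, `U` a Sylow subgroup, `X = O₂(L)`, `n` a reflection, `H` a torus. -/
structure Pan (L U X H : Subgroup G) (n : G) : Prop where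
  UL : U ≤ L
  XU : X ≤ U
  norm : L ≤ Subgroup.normalizer (X : Set G)
  nL : n ∈ L
  trans : ∀ g ∈ L, cj g U = U ∨ ∃ u ∈ U, cj g U = cj (u * n) U
  inter : U ⊓ cj n U ≤ X
  borel : ∀ g ∈ L, cj g U = U → g ∈ U ⊔ H
  HL : H ≤ Subgroup.normalizer (L : Set G)
  HX : H ≤ Subgroup.normalizer (X : Set G)
  nH : cj n H = H
  fix : ∀ u ∈ U, (∀ h ∈ H, h * u * h⁻¹ * u⁻¹ ∈ X) → u ∈ X
  ne : cj n U ≠ U

/-- Two panels with a common Borel subgroup. -/
structure Two (U H L1 L2 Q1 Q2 : Subgroup G) (n1 n2 : G) : Prop where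
  twoU : IsPGroup 2 U
  odd : Odd (Nat.card H)
  HU : H ≤ Subgroup.normalizer (U : Set G)
  P1 : Pan L1 U Q1 H n1
  P2 : Pan L2 U Q2 H n2
  sep : n1 ∉ L2 ⊔ H

namespace Two

variable {U H L1 L2 Q1 Q2 : Subgroup G} {n1 n2 : G}

section

variable (D : Two U H L1 L2 Q1 Q2 n1 n2)
include D

theorem exists_uh {b : G} (hb : b ∈ U ⊔ H) : ∃ u ∈ U, ∃ h ∈ H, b = u * h := by
  rw [sup_comm] at hb
  obtain ⟨h, hh, u, hu, rfl⟩ := mem_sup_norm D.HU hb
  exact ⟨h * u * h⁻¹, conj_mem (D.HU hh) hu, h, hh, by group⟩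

theorem normB_U {b : G} (hb : b ∈ U ⊔ H) : b ∈ Subgroup.normalizer (U : Set G) := by
  have : U ⊔ H ≤ Subgroup.normalizer (U : Set G) := sup_le Subgroup.le_normalizer D.HU
  exact this hb

/-- `2`-elements of `B` lie in `U`. -/
theorem two_mem_U {P : Subgroup G} (hP : IsPGroup 2 P) {x : G} (hx : x ∈ P) (hB : x ∈ U ⊔ H) :
    x ∈ U := by
  obtain ⟨u, hu, h, hh, rfl⟩ := D.exists_uh hB
  obtain ⟨k, hk⟩ := hP ⟨u * h, hx⟩
  have hk' : (u * h) ^ 2 ^ k = 1 := congrArg Subtype.val hk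
  have key : ∀ n : ℕ, ∃ v ∈ U, (u * h) ^ n = v * h ^ n := by
    intro n
    induction n with
    | zero => exact ⟨1, one_mem _, by simp⟩
    | succ n ih =>
      obtain ⟨v, hv, e⟩ := ih
      refine ⟨v * (h ^ n * u * (h ^ n)⁻¹), mul_mem hv (conj_mem (D.HU (pow_mem hh n)) hu), ?_⟩
      rw [pow_succ, e, pow_succ]; group
  obtain ⟨v, hv, e⟩ := key (2 ^ k)
  rw [hk'] at e
  have h1 : h ^ 2 ^ k ∈ U := by
    have : h ^ 2 ^ k = v⁻¹ := (inv_eq_of_mul_eq_one_right e.symm).symm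
    rw [this]; exact inv_mem hv
  have h2 : h ^ 2 ^ k = 1 := eq_one_of_odd_two D.odd D.twoU (pow_mem hh _) h1
  have h3 : h = 1 := by
    have h4 : orderOf h ∣ 2 ^ k := orderOf_dvd_of_pow_eq_one h2
    have h5 : orderOf h ∣ Nat.card H := Subgroup.orderOf_dvd_natCard H hh
    have h6 : Nat.Coprime (2 ^ k) (Nat.card H) :=
      Nat.Coprime.pow_left k (Nat.coprime_two_left.mpr D.odd)
    exact orderOf_eq_one_iff.mp (Nat.eq_one_of_dvd_coprimes h6 h4 h5)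
  rw [h3, mul_one]
  exact hu

theorem inter_B {n : G} {X : Subgroup G} (hX : U ⊓ cj n U ≤ X) {x : G}
    (hx : x ∈ U) (hx' : n⁻¹ * x * n ∈ U ⊔ H) : x ∈ X := by
  refine hX ⟨hx, mem_cj.mpr ?_⟩
  exact D.two_mem_U (P := cj n⁻¹ U) (isPGroup_cj D.twoU)
    (by rw [mem_cj, inv_inv]; rwa [show n * (n⁻¹ * x * n) * n⁻¹ = x by group]) hx'

theorem memP {L X : Subgroup G} {n : G} (hR : Pan L U X H n) (x : G) :
    x ∈ L ⊔ H ↔ x ∈ U ⊔ H ∨ ∃ b ∈ U ⊔ H, ∃ c ∈ U ⊔ H, x = b * n * c := by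
  constructor
  · intro hx
    rw [sup_comm] at hx
    obtain ⟨h, hh, g, hg, rfl⟩ := mem_sup_norm hR.HL hx
    rcases hR.trans g hg with h1 | ⟨u, hu, h1⟩
    · exact Or.inl (mul_mem (Subgroup.mem_sup_right hh) (hR.borel g hg h1))
    · right
      have h2 : cj ((u * n)⁻¹ * g) U = U := by rw [cj_mul, h1, cj_inv_cj]
      have h3 := hR.borel _ (mul_mem (inv_mem (mul_mem (hR.UL hu) hR.nL)) hg) h2
      exact ⟨h * u, mul_mem (Subgroup.mem_sup_right hh) (Subgroup.mem_sup_left hu), _, h3, by group⟩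
  · have hB : U ⊔ H ≤ L ⊔ H := sup_le_sup_right hR.UL H
    rintro (h | ⟨b, hb, c, hc, rfl⟩)
    · exact hB h
    · exact mul_mem (mul_mem (hB hb) (Subgroup.mem_sup_left hR.nL)) (hB hc)

theorem n_not {L X : Subgroup G} {n : G} (hR : Pan L U X H n) : n ∉ U ⊔ H := fun h =>
  hR.ne (mem_norm_iff.mp (D.normB_U h))

theorem two_of {L X : Subgroup G} {n : G} (hR : Pan L U X H n) {g : G} (hg : g ∈ L ⊔ H)
    (hH : ∀ h ∈ H, g⁻¹ * h * g ∈ U ⊔ H) : g ∈ U ⊔ H ∨ n⁻¹ * g ∈ U ⊔ H := by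
  rcases (D.memP hR g).mp hg with h | ⟨b, hb, c, hc, rfl⟩
  · exact Or.inl h
  · right
    obtain ⟨u, hu, t, ht, rfl⟩ := D.exists_uh hb
    have h1 : u ∈ X := by
      refine hR.fix u hu fun h hh => ?_
      have hUh : h * u * h⁻¹ * u⁻¹ ∈ U := mul_mem (conj_mem (D.HU hh) hu) (inv_mem hu)
      have h2 := hH h⁻¹ (inv_mem hh)
      have h3 : n⁻¹ * t⁻¹ * (u⁻¹ * h⁻¹ * u) * t * n ∈ U ⊔ H := by
        have := mul_mem (mul_mem hc h2) (inv_mem hc)
        rwa [show c * ((u * t * n * c)⁻¹ * h⁻¹ * (u * t * n * c)) * c⁻¹ =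
          n⁻¹ * t⁻¹ * (u⁻¹ * h⁻¹ * u) * t * n by group] at this
      have ht' : n⁻¹ * t * n ∈ H := conj_mem' (mem_norm_iff.mpr hR.nH) ht
      have hh' : n⁻¹ * h * n ∈ H := conj_mem' (mem_norm_iff.mpr hR.nH) hh
      have h4 := mul_mem (mul_mem (Subgroup.mem_sup_right (S := U) ht') h3)
        (inv_mem (Subgroup.mem_sup_right (S := U) ht'))
      rw [show n⁻¹ * t * n * (n⁻¹ * t⁻¹ * (u⁻¹ * h⁻¹ * u) * t * n) * (n⁻¹ * t * n)⁻¹ =
        n⁻¹ * (u⁻¹ * h⁻¹ * u) * n by group] at h4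
      have h5 := mul_mem (Subgroup.mem_sup_right (S := U) hh') (h4)
      rw [show n⁻¹ * h * n * (n⁻¹ * (u⁻¹ * h⁻¹ * u) * n) = n⁻¹ * (h * u⁻¹ * h⁻¹ * u) * n by group] at h5
      have h6 : h * u⁻¹ * h⁻¹ * u ∈ X := by
        refine D.inter_B hR.inter ?_ h5
        exact mul_mem (conj_mem (D.HU hh) (inv_mem hu)) hu
      have h8 := conj_mem (hR.norm (hR.UL hu)) (inv_mem h6)
      have e : u * (h * u⁻¹ * h⁻¹ * u)⁻¹ * u⁻¹ = h * u * h⁻¹ * u⁻¹ := by group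
      rwa [e] at h8
    have h2 : n⁻¹ * u * n ∈ U := hR.XU (conj_mem' (hR.norm hR.nL) h1)
    have h3 : n⁻¹ * t * n ∈ H := conj_mem' (mem_norm_iff.mpr hR.nH) ht
    have h4 := mul_mem (mul_mem (Subgroup.mem_sup_left (T := H) h2) (Subgroup.mem_sup_right h3)) hc
    rwa [show n⁻¹ * u * n * (n⁻¹ * t * n) * c = n⁻¹ * (u * t * n * c) by group] at h4

/-- The frame: `false` is the central type. -/
def frame : Frame G where
  B := U ⊔ H
  H := H
  P i := if i then L2 ⊔ H else L1 ⊔ H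
  n i := if i then n2 else n1
  memP i x := by
    cases i
    · exact D.memP D.P1 x
    · exact D.memP D.P2 x
  inter := by
    have hB1 : U ⊔ H ≤ L1 ⊔ H := sup_le_sup_right D.P1.UL H
    have hB2 : U ⊔ H ≤ L2 ⊔ H := sup_le_sup_right D.P2.UL H
    refine le_antisymm ?_ (le_inf hB1 hB2)
    rintro x ⟨hx1, hx2⟩
    have h1 : x ∈ L1 ⊔ H := hx1
    have h2 : x ∈ L2 ⊔ H := hx2
    rcases (D.memP D.P1 x).mp h1 with h | ⟨b, hb, c, hc, rfl⟩
    · exact h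
    · exfalso
      apply D.sep
      have := mul_mem (mul_mem (inv_mem (hB2 hb)) h2) (inv_mem (hB2 hc))
      rwa [show b⁻¹ * (b * n1 * c) * c⁻¹ = n1 by group] at this
  H_le := le_sup_right
  n_norm i := by
    cases i
    · exact mem_norm_iff.mpr D.P1.nH
    · exact mem_norm_iff.mpr D.P2.nH
  n_not i := by
    cases i
    · exact D.n_not D.P1
    · exact D.n_not D.P2
  two i g hg h := by
    cases i
    · exact D.two_of D.P1 hg h
    · exact D.two_of D.P2 hg h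

@[simp] theorem frame_B : D.frame.B = U ⊔ H := rfl
@[simp] theorem frame_H : D.frame.H = H := rfl
@[simp] theorem frame_P0 : D.frame.P false = L1 ⊔ H := rfl
@[simp] theorem frame_P1 : D.frame.P true = L2 ⊔ H := rfl
@[simp] theorem frame_n0 : D.frame.n false = n1 := rfl
@[simp] theorem frame_n1 : D.frame.n true = n2 := rfl

variable [Finite G]

theorem thick (i : Bool) : ∃ b ∈ D.frame.B, D.frame.n i * b * (D.frame.n i)⁻¹ ∉ D.frame.B := by
  have key : ∀ n : G, cj n U ≠ U → ∃ b ∈ U ⊔ H, n * b * n⁻¹ ∉ U ⊔ H := by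
    intro n hn
    by_contra hcon
    push Not at hcon
    apply hn
    refine Subgroup.eq_of_le_of_card_ge (fun x hx => ?_) (le_of_eq (card_cj _ _).symm)
    refine D.two_mem_U (isPGroup_cj D.twoU) hx ?_
    rw [mem_cj] at hx
    have := hcon _ (Subgroup.mem_sup_left hx)
    rwa [show n * (n⁻¹ * x * n) * n⁻¹ = x by group] at this
  cases i
  · exact key n1 D.P1.ne
  · exact key n2 D.P2.ne

/-- The end of `R2T` for a frame of this form. -/
theorem exists_split {m : ℕ} (hbr : D.frame.Braid m) (hm : 1 ≤ m) (hp : ∀ k < m, D.frame.PathTo k)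
    {X : Subgroup G} (hX : (L1 ⊔ H) ⊔ (L2 ⊔ H) = X) :
    ∃ P : Cfsg.BNPair X, P.rank = 2 ∧ P.IsSplit ∧ P.B = (U ⊔ H).subgroupOf X ∧
      (∀ x : X, x ∈ P.N ↔ (x : G) ∈ D.frame.N) := by
  refine D.frame.exists_split_sup hbr hm hp D.thick U le_sup_left
    (fun b hb u hu => conj_mem (D.normB_U hb) hu) ?_ ?_ hX
  · have : Fact (Nat.Prime 2) := ⟨Nat.prime_two⟩
    exact D.twoU.isNilpotent
  · intro b hb
    obtain ⟨u, hu, h, hh, rfl⟩ := D.exists_uh hb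
    refine ⟨u, hu, ?_⟩
    rw [inv_mul_cancel_left]
    exact Subgroup.le_normalizer hh

end

end Two

variable [Finite G]

/-- The data of a quadrangle with a central parabolic `L1`. -/
structure QData (S : Sylow 2 G) (L1 L2 U Q1 Q2 Z Y D H A : Subgroup G) (n1 n2 z₀ w : G) : Prop where
  two : Two U H L1 L2 Q1 Q2 n1 n2
  -- the central root group
  cr : Central.CRoot S L1 Q1 Z A z₀ w
  n1A : ∀ a ∈ A, n1⁻¹ * a * n1 ∈ A
  n2A : ∀ a ∈ A, (n2 * n2)⁻¹ * a * (n2 * n2) ∈ A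
  EU : cj n2 Z ≤ U
  EQ1 : ¬ cj n2 Z ≤ Q1
  comm : ∀ a ∈ A, ∀ z ∈ Z, (n1 * (n2 * z * n2⁻¹) * n1⁻¹) * (n2 * a * n2⁻¹) =
    (n2 * a * n2⁻¹) * (n1 * (n2 * z * n2⁻¹) * n1⁻¹)
  refl : ∃ l ∈ cj n2 Z ⊔ cj n1 (cj n2 Z), n1⁻¹ * l ∈ H
  pair : ∃ a ∈ Z, ∃ b ∈ Z, a ≠ 1 ∧ b ≠ 1 ∧ a ≠ b
  -- (PATH)
  YQ1 : Y ≤ Q1
  YQ2 : Y ≤ Q2
  DQ1 : D ≤ Q1
  DQ2 : D ≤ Q2
  YB : U ⊔ H ≤ Subgroup.normalizer (Y : Set G)
  DB : U ⊔ H ≤ Subgroup.normalizer (D : Set G)
  X4 : U ≤ cj n1 (Y ⊓ cj n2 Y) ⊔ Q2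
  X1 : U ≤ cj n2 (D ⊓ cj n1 D) ⊔ Q1

namespace QData

variable {S : Sylow 2 G} {L1 L2 U Q1 Q2 Z Y D H A : Subgroup G} {n1 n2 z₀ w : G}

theorem B_norm_Q1 (h : QData S L1 L2 U Q1 Q2 Z Y D H A n1 n2 z₀ w) :
    U ⊔ H ≤ Subgroup.normalizer (Q1 : Set G) :=
  sup_le (h.two.P1.UL.trans h.two.P1.norm) h.two.P1.HX

theorem B_norm_Z (h : QData S L1 L2 U Q1 Q2 Z Y D H A n1 n2 z₀ w) :
    U ⊔ H ≤ Subgroup.normalizer (Z : Set G) := by
  intro b hb
  have h1 := mem_norm_iff.mp (h.B_norm_Q1 hb)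
  rw [mem_norm_iff, ← h.cr.comm, cj_comm, h1]

theorem pathTo (h : QData S L1 L2 U Q1 Q2 Z Y D H A n1 n2 z₀ w) :
    ∀ k < 4, h.two.frame.PathTo k := by
  have hQ1 := h.two.P1.XU
  have hQ2 := h.two.P2.XU
  have hH : ∀ {X : Subgroup G}, U ⊔ H ≤ Subgroup.normalizer (X : Set G) →
      ∀ k ∈ h.two.frame.H₁, ∀ x ∈ X, k * x * k⁻¹ ∈ X := fun hX k hk x hx =>
    conj_mem (hX (h.two.frame.H₁_le hk)) hx
  refine Four.pathTo_four h.two.frame (U := U) (Q := Q1) (R := Q2) (Y := Y) (D := D)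
    (hQ1.trans le_sup_left) (hQ2.trans le_sup_left) ?_
    (fun x hx => conj_mem' (h.two.P1.norm h.two.P1.nL) hx)
    (fun x hx => conj_mem (h.two.P1.norm h.two.P1.nL) hx)
    (fun x hx => conj_mem' (h.two.P2.norm h.two.P2.nL) hx)
    (fun x hx => conj_mem (h.two.P2.norm h.two.P2.nL) hx)
    h.YQ1 h.YQ2 h.DQ1 h.DQ2 (hH h.YB) (hH h.DB) ?_ ?_
  · intro b hb
    obtain ⟨u, hu, t, ht, rfl⟩ := h.two.exists_uh hb
    refine ⟨u, hu, ?_⟩
    rw [inv_mul_cancel_left]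
    exact ⟨Subgroup.mem_sup_right (S := U) ht, Subgroup.le_normalizer ht⟩
  · intro u hu
    have hX : cj n1 (Y ⊓ cj n2 Y) ≤ Subgroup.normalizer (Q2 : Set G) := by
      refine le_trans (cj_mono inf_le_left) ((le_trans (cj_mono h.YQ1) ?_).trans
        (h.two.P2.UL.trans h.two.P2.norm))
      rw [mem_norm_iff.mp (h.two.P1.norm h.two.P1.nL)]
      exact hQ1
    obtain ⟨x, hx, r, hr, e⟩ := mem_sup_norm hX (h.X4 hu)
    exact ⟨x, hx, r, hr, e⟩
  · intro u hu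
    have hX : cj n2 (D ⊓ cj n1 D) ≤ Subgroup.normalizer (Q1 : Set G) := by
      refine le_trans (cj_mono inf_le_left) ((le_trans (cj_mono h.DQ2) ?_).trans
        (h.two.P1.UL.trans h.two.P1.norm))
      rw [mem_norm_iff.mp (h.two.P2.norm h.two.P2.nL)]
      exact hQ2
    obtain ⟨x, hx, r, hr, e⟩ := mem_sup_norm hX (h.X1 hu)
    exact ⟨x, hx, r, hr, e⟩

/-- The braid relation of length four. -/
theorem braid (h : QData S L1 L2 U Q1 Q2 Z Y D H A n1 n2 z₀ w) (hB : Bender.{u}) :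
    h.two.frame.Braid 4 := by
  refine Four.braid_four h.two.frame hB h.cr h.n1A h.n2A ?_ ?_ ?_ ?_ ?_ h.pair
  · exact (h.EU.trans h.two.P1.UL).trans le_sup_left
  · intro k hk x hx
    have h1 : (h.two.frame.n true)⁻¹ * k * h.two.frame.n true ∈ h.two.frame.H₁ :=
      h.two.frame.conj_mem' true hk
    have h2 := h.B_norm_Z (h.two.frame.H₁_le h1)
    rw [Four.mem_cj] at hx ⊢
    have h3 := conj_mem h2 hx
    have e : (h.two.frame.n true)⁻¹ * k * h.two.frame.n true *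
        ((h.two.frame.n true)⁻¹ * x * h.two.frame.n true) *
        ((h.two.frame.n true)⁻¹ * k * h.two.frame.n true)⁻¹ =
        (h.two.frame.n true)⁻¹ * (k * x * k⁻¹) * h.two.frame.n true := by group
    rwa [e] at h3
  · rintro _ ⟨a, ha, rfl⟩ _ ⟨z, hz, rfl⟩
    exact h.comm a ha z hz
  · obtain ⟨l, hl, hlH⟩ := h.refl
    exact ⟨l, hl, ⟨Subgroup.mem_sup_right (S := U) hlH, Subgroup.le_normalizer hlH⟩⟩
  · -- `n1` moves `E`
    by_contra hcon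
    push Not at hcon
    apply h.EQ1
    have h1 : cj n1 (cj n2 Z) = cj n2 Z := by
      refine Subgroup.eq_of_le_of_card_ge ?_ (le_of_eq (card_cj _ _).symm)
      rintro _ ⟨x, hx, rfl⟩
      exact hcon x hx
    refine le_trans (le_inf h.EU ?_) h.two.P1.inter
    rw [← h1]
    exact cj_mono h.EU

/-- **The closing theorem.** -/
theorem exists_split (h : QData S L1 L2 U Q1 Q2 Z Y D H A n1 n2 z₀ w) (hB : Bender.{u})
    {X : Subgroup G} (hX : (L1 ⊔ H) ⊔ (L2 ⊔ H) = X) :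
    ∃ P : Cfsg.BNPair X, P.rank = 2 ∧ P.IsSplit ∧ P.B = (U ⊔ H).subgroupOf X ∧
      (∀ x : X, x ∈ P.N ↔ (x : G) ∈ h.two.frame.N) :=
  h.two.exists_split (h.braid hB) (by norm_num) h.pathTo hX

end QData

end Cfsg.Agent.RankTwoClose.Quad
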