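import Mathlib

/-!
Elementary facts on `SL(2, F)`, `F` of characteristic `2`.
-/

set_option autoImplicit false
set_option linter.unusedSectionVars false
set_option linter.unusedSimpArgs false

namespace Cfsg.Agent.RankTwoClose.SLTwo

open Matrix

variable {F : Type*} [Field F]

/-- `SL(2, F)`. -/
abbrev SL (F : Type*) [Field F] := SpecialLinearGroup (Fin 2) F

/-- Upper unitriangular. -/
def up (b : F) : SL F := ⟨!![1, b; 0, 1], by simp⟩
/-- Lower unitriangular. -/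
def dn (c : F) : SL F := ⟨!![1, 0; c, 1], by simp⟩
/-- Diagonal. -/
def dg (t : Fˣ) : SL F := ⟨!![(t : F), 0; 0, (t⁻¹ : Fˣ)], by simp⟩

theorem ext_iff' {g h : SL F} :
    g = h ↔ g.1 0 0 = h.1 0 0 ∧ g.1 0 1 = h.1 0 1 ∧ g.1 1 0 = h.1 1 0 ∧ g.1 1 1 = h.1 1 1 := by
  constructor
  · rintro rfl; exact ⟨rfl, rfl, rfl, rfl⟩
  · rintro ⟨h1, h2, h3, h4⟩
    apply Subtype.ext
    ext i j
    fin_cases i <;> fin_cases j <;> assumption

theorem mul_val (g h : SL F) : (g * h).1 = g.1 * h.1 := rfl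
theorem inv_val (g : SL F) : (g⁻¹).1 = adjugate g.1 := rfl
theorem mul_00 (g h : SL F) : (g * h).1 0 0 = g.1 0 0 * h.1 0 0 + g.1 0 1 * h.1 1 0 := by
  rw [mul_val, mul_apply, Fin.sum_univ_two]
theorem mul_01 (g h : SL F) : (g * h).1 0 1 = g.1 0 0 * h.1 0 1 + g.1 0 1 * h.1 1 1 := by
  rw [mul_val, mul_apply, Fin.sum_univ_two]
theorem mul_10 (g h : SL F) : (g * h).1 1 0 = g.1 1 0 * h.1 0 0 + g.1 1 1 * h.1 1 0 := by
  rw [mul_val, mul_apply, Fin.sum_univ_two]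
theorem mul_11 (g h : SL F) : (g * h).1 1 1 = g.1 1 0 * h.1 0 1 + g.1 1 1 * h.1 1 1 := by
  rw [mul_val, mul_apply, Fin.sum_univ_two]
theorem inv_00 (g : SL F) : (g⁻¹).1 0 0 = g.1 1 1 := by
  rw [inv_val, adjugate_fin_two]; simp
theorem inv_01 (g : SL F) : (g⁻¹).1 0 1 = -g.1 0 1 := by
  rw [inv_val, adjugate_fin_two]; simp
theorem inv_10 (g : SL F) : (g⁻¹).1 1 0 = -g.1 1 0 := by
  rw [inv_val, adjugate_fin_two]; simp
theorem inv_11 (g : SL F) : (g⁻¹).1 1 1 = g.1 0 0 := by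
  rw [inv_val, adjugate_fin_two]; simp
theorem det_eq (g : SL F) : g.1 0 0 * g.1 1 1 - g.1 0 1 * g.1 1 0 = 1 := by
  have := g.2
  rwa [det_fin_two] at this

@[simp] theorem up_00 (b : F) : (up b).1 0 0 = 1 := rfl
@[simp] theorem up_01 (b : F) : (up b).1 0 1 = b := rfl
@[simp] theorem up_10 (b : F) : (up b).1 1 0 = 0 := rfl
@[simp] theorem up_11 (b : F) : (up b).1 1 1 = 1 := rfl
@[simp] theorem dn_00 (b : F) : (dn b).1 0 0 = 1 := rfl
@[simp] theorem dn_01 (b : F) : (dn b).1 0 1 = 0 := rfl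
@[simp] theorem dn_10 (b : F) : (dn b).1 1 0 = b := rfl
@[simp] theorem dn_11 (b : F) : (dn b).1 1 1 = 1 := rfl
@[simp] theorem dg_00 (t : Fˣ) : (dg t).1 0 0 = (t : F) := rfl
@[simp] theorem dg_01 (t : Fˣ) : (dg t).1 0 1 = 0 := rfl
@[simp] theorem dg_10 (t : Fˣ) : (dg t).1 1 0 = 0 := rfl
@[simp] theorem dg_11 (t : Fˣ) : (dg t).1 1 1 = ((t⁻¹ : Fˣ) : F) := rfl

@[simp] theorem one_00 : (1 : SL F).1 0 0 = 1 := rfl
@[simp] theorem one_01 : (1 : SL F).1 0 1 = 0 := rfl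
@[simp] theorem one_10 : (1 : SL F).1 1 0 = 0 := rfl
@[simp] theorem one_11 : (1 : SL F).1 1 1 = 1 := rfl

theorem up_mul_up (a b : F) : up a * up b = up (a + b) := by
  rw [ext_iff']
  simp only [mul_00, mul_01, mul_10, mul_11]
  simp [add_comm]

theorem up_zero : up (0 : F) = 1 := by
  rw [ext_iff']; simp

theorem up_inv (a : F) : (up a)⁻¹ = up (-a) := by
  rw [ext_iff']
  simp only [inv_00, inv_01, inv_10, inv_11]
  simp

/-- Bruhat decomposition. -/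
theorem bruhat {g : SL F} (h : g.1 1 0 ≠ 0) :
    g = up ((g.1 0 0 - 1) / g.1 1 0) * dn (g.1 1 0) * up ((g.1 1 1 - 1) / g.1 1 0) := by
  have hd := det_eq g
  rw [ext_iff']
  simp only [mul_00, mul_01, mul_10, mul_11, up_00, up_01, up_10, up_11, dn_00, dn_01, dn_10, dn_11]
  refine ⟨?_, ?_, ?_, ?_⟩
  · field_simp; ring
  · field_simp; linear_combination -hd
  · ring
  · field_simp; ring

variable [CharP F 2]

/-- The Weyl element. -/
def ww : SL F := ⟨!![0, 1; 1, 0], by simp [CharTwo.neg_eq]⟩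

@[simp] theorem ww_00 : (ww : SL F).1 0 0 = 0 := rfl
@[simp] theorem ww_01 : (ww : SL F).1 0 1 = 1 := rfl
@[simp] theorem ww_10 : (ww : SL F).1 1 0 = 1 := rfl
@[simp] theorem ww_11 : (ww : SL F).1 1 1 = 0 := rfl

theorem ww_mul_ww : (ww : SL F) * ww = 1 := by
  rw [ext_iff']
  simp only [mul_00, mul_01, mul_10, mul_11]
  simp

theorem ww_inv : (ww : SL F)⁻¹ = ww :=
  inv_eq_of_mul_eq_one_right ww_mul_ww

theorem ww_up_ww (b : F) : ww * up b * ww = dn b := by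
  rw [ext_iff']
  simp only [mul_00, mul_01, mul_10, mul_11]
  simp

/-- Bruhat decomposition, second form. -/
theorem bruhat' {g : SL F} (h : g.1 1 0 ≠ 0) :
    ∃ b : F, ∃ p : SL F, p.1 1 0 = 0 ∧ g = up b * ww * p := by
  refine ⟨g.1 0 0 / g.1 1 0, ww * up (-(g.1 0 0 / g.1 1 0)) * g, ?_, ?_⟩
  · simp only [mul_00, mul_01, mul_10, mul_11, up_00, up_01, up_10, up_11, ww_00, ww_01, ww_10,
      ww_11]
    field_simp
    ring
  · rw [← up_inv, mul_assoc (up _) ww, ← mul_assoc ww, ← mul_assoc ww ww, ww_mul_ww, one_mul,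
      mul_inv_cancel_left]

theorem ww_dg_ww (t : Fˣ) : ww * dg t * ww * dg t = 1 := by
  rw [ext_iff']
  simp only [mul_00, mul_01, mul_10, mul_11]
  simp

theorem dg_up (t : Fˣ) (b : F) : dg t * up b * (dg t)⁻¹ = up ((t : F) ^ 2 * b) := by
  rw [ext_iff']
  simp only [mul_00, mul_01, mul_10, mul_11, inv_00, inv_01, inv_10, inv_11]
  simp
  ring

theorem eq_up {g : SL F} (h1 : g.1 0 0 = 1) (h2 : g.1 1 0 = 0) : g = up (g.1 0 1) := by
  have hd := det_eq g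
  rw [h1, h2] at hd
  rw [ext_iff']
  refine ⟨h1, rfl, h2, ?_⟩
  simpa using hd

theorem eq_dg {g : SL F} (h1 : g.1 0 1 = 0) (h2 : g.1 1 0 = 0) : ∃ t : Fˣ, g = dg t := by
  have hd := det_eq g
  rw [h1, zero_mul, sub_zero] at hd
  refine ⟨⟨g.1 0 0, g.1 1 1, hd, by rw [mul_comm]; exact hd⟩, ?_⟩
  rw [ext_iff']
  exact ⟨rfl, h1, h2, rfl⟩

/-- Elements normalising the upper unitriangular group are upper triangular. -/
theorem lower_zero {g : SL F} (h : (g * up 1 * g⁻¹).1 1 0 = 0) : g.1 1 0 = 0 := by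
  simp only [mul_00, mul_01, mul_10, mul_11, inv_00, inv_01, inv_10, inv_11, up_00, up_01, up_10,
    up_11] at h
  have : g.1 1 0 * g.1 1 0 = 0 := by linear_combination -h
  exact mul_self_eq_zero.mp this

end Cfsg.Agent.RankTwoClose.SLTwo
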