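import Mathlib
import Cfsg.Agent.Solvable.Glauberman
import Cfsg.Agent.RankTwoClose.UFour.Tools
import Cfsg.Agent.RankTwoClose.SLTwo

/-!
# Rank one data from `L/Q = SL(2, F)`, `F` of characteristic two

`L` a subgroup with a surjection `π : L → SL(2, F)` with kernel `Q`, `U` the preimage of the upper
unitriangular matrices, `H` a group of odd order normalising `L`, `U` with `N_L(U) ≤ U H`.  Then
some `n ∈ L` normalises `H` and `(L, U, Q, n)` is rank one data; the elements of `H ∩ L` are inverted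
by `n` and their images form the torus of `SL(2, F)` conjugate to the diagonal one by `π k`, `k ∈ U`.
-/

set_option autoImplicit false
set_option linter.unusedSectionVars false

namespace Cfsg.Agent.RankTwoClose

open SLTwo UFour
open scoped Pointwise

variable {G : Type*} [Group G] {F : Type*} [Field F]

/-- `L/Q = SL(2, F)`. -/
structure SLPar (L U Q H : Subgroup G) (π : L →* SL F) : Prop where
  surj : Function.Surjective π
  ker : ∀ x : L, π x = 1 ↔ (x : G) ∈ Q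
  QL : Q ≤ L
  UL : U ≤ L
  memU : ∀ x : L, (x : G) ∈ U ↔ (π x).1 0 0 = 1 ∧ (π x).1 1 0 = 0
  two : IsPGroup 2 U
  odd : Odd (Nat.card H)
  HL : H ≤ Subgroup.normalizer (L : Set G)
  HU : H ≤ Subgroup.normalizer (U : Set G)
  borel : ∀ x : L, (π x).1 1 0 = 0 → (x : G) ∈ U ⊔ H

namespace SLPar

variable {L U Q H : Subgroup G} {π : L →* SL F}

section
variable (D : SLPar L U Q H π)
include D

theorem QU : Q ≤ U := fun q hq => by
  have h1 := (D.ker ⟨q, D.QL hq⟩).mpr hq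
  exact (D.memU ⟨q, D.QL hq⟩).mpr (by rw [h1]; exact ⟨one_00, one_10⟩)

theorem LQ : L ≤ Subgroup.normalizer (Q : Set G) := by
  refine le_normalizer_of fun g hg x hx => ?_
  rw [mem_cj] at hx
  have h1 := (D.ker ⟨_, D.QL hx⟩).mpr hx
  have hxL : x ∈ L := by
    have := mul_mem (mul_mem hg (D.QL hx)) (inv_mem hg)
    rwa [show g * (g⁻¹ * x * g) * g⁻¹ = x by group] at this
  have e : (⟨x, hxL⟩ : L) = ⟨g, hg⟩ * ⟨_, D.QL hx⟩ * ⟨g, hg⟩⁻¹ := Subtype.ext (by
    show x = g * (g⁻¹ * x * g) * g⁻¹; group)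
  refine (D.ker ⟨x, hxL⟩).mp ?_
  rw [e, map_mul, map_mul, h1, mul_one, map_inv, mul_inv_cancel]

theorem exists_up (b : F) : ∃ u : L, (u : G) ∈ U ∧ π u = up b := by
  obtain ⟨u, hu⟩ := D.surj (up b)
  refine ⟨u, (D.memU u).mpr ?_, hu⟩
  rw [hu]; exact ⟨rfl, rfl⟩

theorem eq_up {u : L} (hu : (u : G) ∈ U) : π u = up ((π u).1 0 1) := by
  obtain ⟨h1, h2⟩ := (D.memU u).mp hu
  exact SLTwo.ext_iff'.mpr ⟨h1, rfl, h2, by
    have := det_eq (π u)
    rw [h1, h2] at this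
    simpa using this⟩

end

variable [CharP F 2] (D : SLPar L U Q H π)
include D

theorem normU (x : L) : cj (x : G) U = U ↔ (π x).1 1 0 = 0 := by
  constructor
  · intro h
    obtain ⟨u, hu, hu1⟩ := D.exists_up 1
    have h1 : (x : G) * u * (x : G)⁻¹ ∈ U := by
      rw [← h]; exact conj_mem_cj hu
    have h2 := ((D.memU (x * u * x⁻¹)).mp h1).2
    rw [map_mul, map_mul, map_inv, hu1] at h2
    exact lower_zero h2
  · intro h
    rw [← mem_norm_iff]
    have key : ∀ y : L, (π y).1 1 0 = 0 → ∀ u ∈ U, (y : G) * u * (y : G)⁻¹ ∈ U := by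
      intro y hy u hu
      have hd := det_eq (π y)
      rw [hy, mul_zero, sub_zero] at hd
      refine (D.memU (y * ⟨u, D.UL hu⟩ * y⁻¹)).mpr ?_
      rw [map_mul, map_mul, map_inv, D.eq_up (u := ⟨u, D.UL hu⟩) hu]
      simp only [mul_00, mul_01, mul_10, mul_11, inv_00, inv_01, inv_10, inv_11, up_00, up_01,
        up_10, up_11]
      rw [hy]
      constructor
      · linear_combination hd
      · ring
    rw [Subgroup.mem_normalizer_iff]
    intro g
    refine ⟨key x h g, fun hg => ?_⟩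
    have h2 : (π x⁻¹).1 1 0 = 0 := by rw [map_inv, inv_10, h, neg_zero]
    have := key x⁻¹ h2 _ hg
    rwa [show ((x⁻¹ : L) : G) * ((x : G) * g * (x : G)⁻¹) * ((x⁻¹ : L) : G)⁻¹ = g by
      rw [Subgroup.coe_inv]; group] at this

theorem trans0 {n0 : L} (hn0 : π n0 = ww) (g : L) :
    cj (g : G) U = U ∨ ∃ u ∈ U, cj (g : G) U = cj (u * n0) U := by
  by_cases h : (π g).1 1 0 = 0
  · exact Or.inl ((D.normU g).mpr h)
  · right
    obtain ⟨b, p, hp, e⟩ := bruhat' h
    obtain ⟨u, hu, hub⟩ := D.exists_up b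
    refine ⟨u, hu, ?_⟩
    have h1 : π ((u * n0)⁻¹ * g) = p := by
      rw [map_mul, map_inv, map_mul, hub, hn0, e]; group
    have h2 := (D.normU ((u * n0)⁻¹ * g)).mpr (by rw [h1]; exact hp)
    have e2 : (g : G) = ((u : G) * n0) * (((u * n0)⁻¹ * g : L) : G) := by
      rw [Subgroup.coe_mul, Subgroup.coe_inv, Subgroup.coe_mul]; group
    conv_lhs => rw [e2]
    rw [cj_mul, h2]

/-- The main construction. -/
theorem exists_rankOne [Finite G] [Finite F] (h4 : ∃ t : Fˣ, t ≠ 1) :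
    ∃ k : L, (k : G) ∈ U ∧ ∃ n : L, RankOne L U Q (n : G) ∧ cj (n : G) H = H ∧
      (n : G) * n ∈ Q ∧ (∀ h ∈ H, (n : G) * n * h = h * ((n : G) * n)) ∧
      π n = π k * ww * (π k)⁻¹ ∧
      (∀ h : L, (h : G) ∈ H → ∃ t : Fˣ, π h = π k * dg t * (π k)⁻¹) ∧
      (∀ t : Fˣ, ∃ h : L, (h : G) ∈ H ∧ π h = π k * dg t * (π k)⁻¹) ∧
      (∀ h ∈ H ⊓ L, (n : G) * h * (n : G)⁻¹ = h⁻¹) ∧
      (∀ u ∈ U, (∀ h ∈ H ⊓ L, h * u * h⁻¹ * u⁻¹ ∈ Q) → u ∈ Q) := by
  classical
  obtain ⟨n0, hn0⟩ := D.surj (ww : SL F)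
  have hn0U : cj (n0 : G) U ≠ U := by
    intro h
    have := (D.normU n0).mp h
    rw [hn0] at this
    exact one_ne_zero this
  have hU2 : (Nat.card H).Coprime (Nat.card U) := by
    have : Fact (Nat.Prime 2) := ⟨Nat.prime_two⟩
    obtain ⟨k, hk⟩ := (IsPGroup.iff_card (p := 2)).mp D.two
    rw [hk]
    exact Nat.Coprime.pow_right k (Nat.coprime_two_right.mpr D.odd)
  have hUs : Group.IsSolvable U := by
    have : Fact (Nat.Prime 2) := ⟨Nat.prime_two⟩
    have := D.two.isNilpotent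
    infer_instance
  -- an `H`-invariant opposite
  let _ : MulAction G (Subgroup G) := MulAction.compHom (Subgroup G) (MulAut.conj (G := G))
  have hsm : ∀ (g : G) (X : Subgroup G), g • X = cj g X := fun _ _ => rfl
  obtain ⟨k, hk, hkH⟩ := Solvable.Glauberman.exists_smul_fixed H U D.HU hU2 (Or.inr hUs)
    (cj (n0 : G) U) (by
      intro a ha
      have haU : cj a U = U := mem_norm_iff.mp (D.HU ha)
      have haU' : cj a⁻¹ U = U := mem_norm_iff.mp (inv_mem (D.HU ha))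
      have haL : a * n0 * a⁻¹ ∈ L := conj_mem (D.HL ha) n0.2
      have e : cj a (cj (n0 : G) U) = cj (a * n0 * a⁻¹) U := by
        rw [cj_mul, haU', cj_mul]
      rcases D.trans0 hn0 ⟨_, haL⟩ with h | ⟨u, hu, h⟩
      · exfalso
        apply hn0U
        have h1 : cj (a * n0 * a⁻¹) U = U := h
        rw [← e] at h1
        have h2 := congrArg (cj a⁻¹) h1
        rwa [cj_inv_cj, haU'] at h2
      · refine ⟨u, hu, ?_⟩
        rw [hsm, hsm, e]
        exact h.trans (cj_mul _ _ _))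
  set U1 : Subgroup G := cj k (cj (n0 : G) U) with hU1
  have hHU1 : ∀ a ∈ H, cj a U1 = U1 := fun a ha => hkH a ha
  have hkL : k ∈ L := D.UL hk
  set k' : L := ⟨k, hkL⟩ with hk'
  -- the swapping element
  set m : L := k' * n0 * k'⁻¹ with hm
  have hn0n0 : (n0 : G) * n0 ∈ Q := by
    refine (D.ker (n0 * n0)).mp ?_
    rw [map_mul, hn0, ww_mul_ww]
  have hkU : cj k U = U := cj_eq_of_mem hk
  have hkU' : cj k⁻¹ U = U := cj_eq_of_mem (inv_mem hk)
  have hmU : cj (m : G) U = U1 := by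
    show cj (k * n0 * k⁻¹) U = U1
    rw [cj_mul, hkU', cj_mul]
  have hmU1 : cj (m : G) U1 = U := by
    show cj (k * n0 * k⁻¹) (cj k (cj (n0 : G) U)) = U
    rw [← cj_mul, ← cj_mul, show k * n0 * k⁻¹ * k * (n0 : G) = k * (n0 * n0) by group, cj_mul,
      cj_eq_of_mem (D.QU hn0n0), hkU]
  have hπm : π m = π k' * ww * (π k')⁻¹ := by rw [hm, map_mul, map_mul, map_inv, hn0]
  -- `QL ≤ U1`
  have hQU1 : Q ≤ U1 := by
    intro q hq
    rw [← hmU]
    have h1 := conj_mem' (D.LQ m.2) hq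
    exact mem_cj.mpr (D.QU h1)
  -- diagonal
  have hdiag : ∀ c : L, cj (c : G) U = U → cj (c : G) U1 = U1 →
      ∃ t : Fˣ, π c = π k' * dg t * (π k')⁻¹ := by
    intro c hc hc1
    set d : L := k'⁻¹ * c * k' with hd
    have h1 : (π d).1 1 0 = 0 := by
      refine (D.normU d).mp ?_
      show cj (k⁻¹ * c * k) U = U
      rw [cj_mul, hkU, cj_mul, hc, hkU']
    have h2 : cj (d : G) (cj (n0 : G) U) = cj (n0 : G) U := by
      show cj (k⁻¹ * c * k) (cj (n0 : G) U) = cj (n0 : G) U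
      rw [cj_mul, cj_mul, ← hU1, hc1, hU1, cj_inv_cj]
    have h3 : (π d).1 0 1 = 0 := by
      have h4 : cj ((n0⁻¹ * d * n0 : L) : G) U = U := by
        show cj ((n0 : G)⁻¹ * d * n0) U = U
        rw [cj_mul, cj_mul, h2, cj_inv_cj]
      have h5 := (D.normU _).mp h4
      rw [map_mul, map_mul, map_inv, hn0, ww_inv] at h5
      simp only [mul_00, mul_01, mul_10, mul_11, ww_00, ww_01, ww_10, ww_11] at h5
      simpa using h5
    obtain ⟨t, ht⟩ := eq_dg h3 h1
    refine ⟨t, ?_⟩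
    rw [← ht, hd, map_mul, map_mul, map_inv]; group
  have hdiag' : ∀ (c : L) (t : Fˣ), π c = π k' * dg t * (π k')⁻¹ →
      cj (c : G) U = U ∧ cj (c : G) U1 = U1 := by
    intro c t hc
    set d : L := k'⁻¹ * c * k' with hd
    have hπd : π d = dg t := by rw [hd, map_mul, map_mul, map_inv, hc]; group
    have hcd : (c : G) = k * d * k⁻¹ := by
      show (c : G) = k * (k⁻¹ * c * k) * k⁻¹; group
    have h1 : cj (d : G) U = U := (D.normU d).mpr (by rw [hπd]; rfl)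
    have h2 : cj (d : G) (cj (n0 : G) U) = cj (n0 : G) U := by
      have h4 : cj ((n0⁻¹ * d * n0 : L) : G) U = U := by
        refine (D.normU _).mpr ?_
        rw [map_mul, map_mul, map_inv, hn0, ww_inv, hπd]
        simp only [mul_00, mul_01, mul_10, mul_11, ww_00, ww_01, ww_10, ww_11, dg_00, dg_01, dg_10,
          dg_11]
        simp
      have h5 : cj ((n0 : G)⁻¹ * d * n0) U = U := h4
      rw [cj_mul, cj_mul] at h5
      have h6 := congrArg (cj (n0 : G)) h5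
      rwa [cj_cj_inv] at h6
    constructor
    · rw [hcd, cj_mul, hkU', cj_mul, h1, hkU]
    · rw [hcd, hU1, cj_mul, cj_inv_cj, cj_mul, h2]
  -- `U ∩ N_L(U1) ≤ Q`
  have hinter : ∀ u ∈ U, cj u U1 = U1 → u ∈ Q := by
    intro u hu hu1
    obtain ⟨t, ht⟩ := hdiag ⟨u, D.UL hu⟩ (cj_eq_of_mem hu) hu1
    have h1 := D.eq_up (u := ⟨u, D.UL hu⟩) hu
    have h2 := D.eq_up (u := k') hk
    refine (D.ker ⟨u, D.UL hu⟩).mp ?_
    rw [h1, h2, up_inv] at ht
    have h3 : up (-(π k').1 0 1) * up ((π ⟨u, D.UL hu⟩).1 0 1) * up ((π k').1 0 1) = dg t := by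
      rw [ht, ← up_inv]; group
    rw [up_mul_up, up_mul_up] at h3
    have h4 := (SLTwo.ext_iff'.mp h3).2.1
    rw [up_01, dg_01] at h4
    have h5 : (π ⟨u, D.UL hu⟩).1 0 1 = 0 := by linear_combination h4
    rw [h1, h5, up_zero]
  have hborel : ∀ c : L, cj (c : G) U = U → cj (c : G) U1 = U1 → (c : G) ∈ Q ⊔ H := by
    intro c hc hc1
    have h1 := D.borel c ((D.normU c).mp hc)
    rw [sup_comm] at h1
    obtain ⟨h, hh, u, hu, e⟩ := mem_sup_norm D.HU h1
    have h2 : cj u U1 = U1 := by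
      have h3 : cj (h * u) U1 = U1 := by rw [← e]; exact hc1
      rw [cj_mul] at h3
      have h4 := congrArg (cj h⁻¹) h3
      rwa [cj_inv_cj, hHU1 h⁻¹ (inv_mem hh)] at h4
    rw [e]
    exact mul_mem (Subgroup.mem_sup_right hh) (Subgroup.mem_sup_left (hinter u hu h2))
  -- `H` normalises `Q`
  have hHQ : H ≤ Subgroup.normalizer (Q : Set G) := by
    refine le_normalizer_of fun a ha x hx => ?_
    rw [mem_cj] at hx
    have hxU : x ∈ U := by
      have := conj_mem (D.HU ha) (D.QU hx)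
      rwa [show a * (a⁻¹ * x * a) * a⁻¹ = x by group] at this
    refine hinter x hxU (cj_eq_of_mem ?_)
    have h1 := hQU1 hx
    rw [← hHU1 a ha]
    exact mem_cj.mpr h1
  -- `cj m H ≤ Q ⊔ H`
  have hmH : cj (m : G) H ≤ H ⊔ Q := by
    intro x hx
    rw [mem_cj] at hx
    set a := (m : G)⁻¹ * x * m with ha
    have hx' : x = m * a * (m : G)⁻¹ := by rw [ha]; group
    have hcL : m * a * (m : G)⁻¹ * a⁻¹ ∈ L := by
      rw [show (m : G) * a * (m : G)⁻¹ * a⁻¹ = m * (a * (m : G)⁻¹ * a⁻¹) by group]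
      exact mul_mem m.2 (conj_mem (D.HL hx) (inv_mem m.2))
    have haU : cj a U = U := mem_norm_iff.mp (D.HU hx)
    have haU' : cj a⁻¹ U = U := mem_norm_iff.mp (inv_mem (D.HU hx))
    have hmU' : cj (m : G)⁻¹ U = U1 := by rw [← hmU1, cj_inv_cj]
    have hmU1' : cj (m : G)⁻¹ U1 = U := by rw [← hmU, cj_inv_cj]
    have h1 : cj (m * a * (m : G)⁻¹ * a⁻¹) U = U := by
      rw [cj_mul, haU', cj_mul, hmU', cj_mul, hHU1 a hx, hmU1]
    have h2 : cj (m * a * (m : G)⁻¹ * a⁻¹) U1 = U1 := by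
      rw [cj_mul, hHU1 a⁻¹ (inv_mem hx), cj_mul, hmU1', cj_mul, haU, hmU]
    have h3 := hborel ⟨_, hcL⟩ h1 h2
    rw [sup_comm] at h3
    have h4 := mul_mem h3 (Subgroup.mem_sup_left (T := Q) hx)
    rw [hx']
    have e : (((⟨_, hcL⟩ : L) : G)) * a = m * a * (m : G)⁻¹ := by
      show m * a * (m : G)⁻¹ * a⁻¹ * a = m * a * (m : G)⁻¹
      group
    rwa [e] at h4
  have hQ2 : (Nat.card H).Coprime (Nat.card Q) := by
    have : Fact (Nat.Prime 2) := ⟨Nat.prime_two⟩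
    obtain ⟨k, hk⟩ := (IsPGroup.iff_card (p := 2)).mp (D.two.to_le D.QU)
    rw [hk]
    exact Nat.Coprime.pow_right k (Nat.coprime_two_right.mpr D.odd)
  have hQs : Group.IsSolvable Q := by
    have : Fact (Nat.Prime 2) := ⟨Nat.prime_two⟩
    have := (D.two.to_le D.QU).isNilpotent
    infer_instance
  obtain ⟨q, hq, hqH⟩ := Solvable.Glauberman.exists_conj_of_le_sup H Q hHQ hQ2 (Or.inr hQs)
    (cj (m : G) H) hmH (card_cj _ _)
  have hqH' : cj q H = cj (m : G) H := hqH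
  -- the element `n`
  have hqL : q ∈ L := D.QL hq
  set q' : L := ⟨q, hqL⟩ with hq'
  set n : L := q'⁻¹ * m with hn
  have hπq : π q' = 1 := (D.ker q').mpr hq
  have hπn : π n = π k' * ww * (π k')⁻¹ := by
    rw [hn, map_mul, map_inv, hπq, inv_one, one_mul, hπm]
  have hnH : cj (n : G) H = H := by
    show cj (q⁻¹ * m) H = H
    rw [cj_mul, ← hqH', cj_inv_cj]
  have hnU : cj (n : G) U = U1 := by
    show cj (q⁻¹ * m) U = U1
    rw [cj_mul, hmU, cj_eq_of_mem (inv_mem (hQU1 hq))]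
  have hnU1 : cj (n : G) U1 = U := by
    show cj (q⁻¹ * m) U1 = U
    rw [cj_mul, hmU1, cj_eq_of_mem (inv_mem (D.QU hq))]
  have hnn : (n : G) * n ∈ Q := by
    refine (D.ker (n * n)).mp ?_
    rw [map_mul, hπn, show π k' * ww * (π k')⁻¹ * (π k' * ww * (π k')⁻¹) =
      π k' * (ww * ww) * (π k')⁻¹ by group, ww_mul_ww, mul_one, mul_inv_cancel]
  have hHQ1 : ∀ x ∈ H, x ∈ Q → x = 1 := fun x hx hx' =>
    eq_one_of_odd_two D.odd (D.two.to_le D.QU) hx hx'
  refine ⟨k', hk, n, ⟨D.UL, D.QU, D.LQ, n.2, ?_, ?_, ?_, ?_, ?_⟩, hnH, hnn, ?_, hπn, ?_, ?_, ?_, ?_⟩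
  · -- transitivity
    intro g hg
    rcases D.trans0 hn0 ⟨g, hg⟩ with h | ⟨u, hu, h⟩
    · exact Or.inl h
    · right
      refine ⟨u * k⁻¹, mul_mem hu (inv_mem hk), ?_⟩
      rw [cj_mul, hnU, hU1, cj_mul u k⁻¹, cj_inv_cj, ← cj_mul]
      exact h
  · -- intersection
    rintro u ⟨hu, hu'⟩
    refine hinter u hu (cj_eq_of_mem ?_)
    rw [← hnU]; exact hu'
  · -- kernel
    intro y hy hall
    have h1 := hall 1 (one_mem _)
    rw [cj_one] at h1
    have h2 := hall n n.2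
    rw [hnU] at h2
    obtain ⟨t, ht⟩ := hdiag ⟨y, hy⟩ h1 h2
    -- conjugate by `v ∈ U` with `π v = up 1`
    obtain ⟨v, hv, hv1⟩ := D.exists_up 1
    set w : L := k' * v * k'⁻¹ with hw
    have h3 : cj y (cj ((w : G) * n) U) = cj ((w : G) * n) U := hall (w * n) (mul_mem w.2 n.2)
    have h4 : cj (w : G) U = U := cj_eq_of_mem (mul_mem (mul_mem hk hv) (inv_mem hk))
    have hvv : (w : G) ∈ U := mul_mem (mul_mem hk hv) (inv_mem hk)
    have h5 : cj ((w : G)⁻¹ * y * w) U1 = U1 := by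
      rw [cj_mul, cj_mul, ← hnU, ← cj_mul (w : G) (n : G) U, h3, cj_mul (w : G) (n : G) U,
        cj_inv_cj]
    have h6 : cj ((w : G)⁻¹ * y * w) U = U := by
      rw [cj_mul, h4, cj_mul, h1, cj_eq_of_mem (inv_mem hvv)]
    obtain ⟨s, hs⟩ := hdiag (w⁻¹ * ⟨y, hy⟩ * w) h6 h5
    have h7 : up (-1) * dg t * up 1 = dg s := by
      have e1 : π (w⁻¹ * ⟨y, hy⟩ * w) = π k' * (up (-1) * dg t * up 1) * (π k')⁻¹ := by
        rw [map_mul, map_mul, map_inv, ht, hw, map_mul, map_mul, map_inv, hv1, ← up_inv]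
        group
      rw [e1] at hs
      exact mul_left_cancel (mul_right_cancel hs)
    have h8 := (SLTwo.ext_iff'.mp h7).2.1
    simp only [mul_00, mul_01, mul_10, mul_11, up_00, up_01, up_10, up_11, dg_00, dg_01, dg_10,
      dg_11] at h8
    have h9 : (t : F) = ((t⁻¹ : Fˣ) : F) := by linear_combination h8
    have h10 : (t : F) * t = 1 := by
      nth_rewrite 2 [h9]; exact Units.mul_inv t
    have h11 : t = 1 := by
      have h12 : ((t : F) - 1) * ((t : F) - 1) = 0 := by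
        have h2' : (2 : F) = 0 := CharTwo.two_eq_zero
        linear_combination h10 + (1 - (t : F)) * h2'
      exact Units.ext (sub_eq_zero.mp (mul_self_eq_zero.mp h12))
    refine (D.ker ⟨y, hy⟩).mp ?_
    have hd1 : dg (1 : Fˣ) = 1 := by rw [SLTwo.ext_iff']; simp
    rw [ht, h11, hd1, mul_one, mul_inv_cancel]
  · -- generation
    rw [hnU]
    have hk1 : U ⊔ U1 = cj k (U ⊔ cj (n0 : G) U) := by rw [cj_sup, hkU]
    have hQK : Q ≤ U ⊔ cj (n0 : G) U := D.QU.trans le_sup_left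
    have h10 : ∀ g : L, (π g).1 1 0 ≠ 0 → (g : G) ∈ U ⊔ cj (n0 : G) U := by
      intro g hg
      have e := bruhat hg
      obtain ⟨a, ha, ha1⟩ := D.exists_up (((π g).1 0 0 - 1) / (π g).1 1 0)
      obtain ⟨b, hb, hb1⟩ := D.exists_up ((π g).1 1 0)
      obtain ⟨c, hc, hc1⟩ := D.exists_up (((π g).1 1 1 - 1) / (π g).1 1 0)
      set p : L := a * (n0 * b * n0⁻¹) * c with hp
      have hπ : π p = π g := by
        rw [hp, map_mul, map_mul, map_mul, map_mul, map_inv, ha1, hb1, hc1, hn0, ww_inv, ww_up_ww]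
        exact e.symm
      have hpK : (p : G) ∈ U ⊔ cj (n0 : G) U := by
        show (a : G) * (n0 * b * (n0 : G)⁻¹) * c ∈ _
        exact mul_mem (mul_mem (Subgroup.mem_sup_left ha)
          (Subgroup.mem_sup_right (conj_mem_cj hb))) (Subgroup.mem_sup_left hc)
      have hq : (p⁻¹ * g : L).1 ∈ Q := by
        refine (D.ker _).mp ?_
        rw [map_mul, map_inv, hπ, inv_mul_cancel]
      have := mul_mem hpK (hQK hq)
      rwa [show (p : G) * (p⁻¹ * g : L).1 = g by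
        show (p : G) * ((p : G)⁻¹ * g) = g; group] at this
    have hall : ∀ g : L, (g : G) ∈ U ⊔ cj (n0 : G) U := by
      intro g
      by_cases h : (π g).1 1 0 = 0
      · have hn0K : (n0 : G) ∈ U ⊔ cj (n0 : G) U := h10 n0 (by rw [hn0]; exact one_ne_zero)
        have h1 : (π (g * n0)).1 1 0 ≠ 0 := by
          rw [map_mul, hn0, mul_10, ww_00, ww_10, h, mul_zero, zero_add, mul_one]
          intro h11
          have := det_eq (π g)
          rw [h, h11] at this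
          simp at this
        have h2 := mul_mem (h10 _ h1) (inv_mem hn0K)
        rwa [Subgroup.coe_mul, mul_inv_cancel_right] at h2
      · exact h10 g h
    rw [hk1]
    intro g hg
    rw [mem_cj]
    exact hall (k'⁻¹ * ⟨g, hg⟩ * k')
  · -- `U/Q` abelian
    intro a ha b hb
    have h1 := D.eq_up (u := ⟨a, D.UL ha⟩) ha
    have h2 := D.eq_up (u := ⟨b, D.UL hb⟩) hb
    refine (D.ker (⟨a, D.UL ha⟩ * ⟨b, D.UL hb⟩ * ⟨a, D.UL ha⟩⁻¹ * ⟨b, D.UL hb⟩⁻¹)).mp ?_
    rw [map_mul, map_mul, map_mul, map_inv, map_inv, h1, h2, up_inv, up_inv, up_mul_up, up_mul_up,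
      up_mul_up, ← up_zero]
    congr 1
    ring
  · -- `n n` centralises `H`
    intro h hh
    have h1 : (n : G) * n * h * ((n : G) * n)⁻¹ * h⁻¹ ∈ H := by
      refine mul_mem ?_ (inv_mem hh)
      have h2 : cj ((n : G) * n) H = H := by rw [cj_mul, hnH, hnH]
      exact conj_mem (mem_norm_iff.mpr h2) hh
    have h2 : (n : G) * n * h * ((n : G) * n)⁻¹ * h⁻¹ ∈ Q := by
      rw [show (n : G) * n * h * ((n : G) * n)⁻¹ * h⁻¹ =
        ((n : G) * n) * (h * ((n : G) * n)⁻¹ * h⁻¹) by group]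
      exact mul_mem hnn (conj_mem (hHQ hh) (inv_mem hnn))
    have h3 := hHQ1 _ h1 h2
    calc (n : G) * n * h = ((n : G) * n * h * ((n : G) * n)⁻¹ * h⁻¹) * (h * ((n : G) * n)) := by
          group
      _ = h * ((n : G) * n) := by rw [h3, one_mul]
  · intro h hh
    exact hdiag h (mem_norm_iff.mp (D.HU hh)) (hHU1 _ hh)
  · -- all `t` occur
    intro t
    obtain ⟨c, hc⟩ := D.surj (π k' * dg t * (π k')⁻¹)
    obtain ⟨h1, h2⟩ := hdiag' c t hc
    have h3 := hborel c h1 h2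
    rw [sup_comm] at h3
    obtain ⟨h, hh, x, hx, e⟩ := mem_sup_norm hHQ h3
    have hhL : h ∈ L := by
      have := mul_mem c.2 (inv_mem (D.QL hx))
      rwa [e, mul_inv_cancel_right] at this
    refine ⟨⟨h, hhL⟩, hh, ?_⟩
    have e2 : c = ⟨h, hhL⟩ * ⟨x, D.QL hx⟩ := Subtype.ext e
    rw [← hc, e2, map_mul, (D.ker ⟨x, D.QL hx⟩).mpr hx, mul_one]
  · -- inversion
    rintro h ⟨hh, hhL⟩
    obtain ⟨t, ht⟩ := hdiag ⟨h, hhL⟩ (mem_norm_iff.mp (D.HU hh)) (hHU1 _ hh)
    have h1 : (n : G) * h * (n : G)⁻¹ ∈ H := conj_mem (mem_norm_iff.mpr hnH) hh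
    have h2 : (n : G) * h * (n : G)⁻¹ * h ∈ Q := by
      refine (D.ker (n * ⟨h, hhL⟩ * n⁻¹ * ⟨h, hhL⟩)).mp ?_
      rw [map_mul, map_mul, map_mul, map_inv, hπn, ht]
      have e := ww_dg_ww (F := F) t
      calc π k' * ww * (π k')⁻¹ * (π k' * dg t * (π k')⁻¹) * (π k' * ww * (π k')⁻¹)⁻¹ *
            (π k' * dg t * (π k')⁻¹) = π k' * (ww * dg t * ww⁻¹ * dg t) * (π k')⁻¹ := by group
        _ = 1 := by rw [ww_inv, e]; group
    exact eq_inv_of_mul_eq_one_left (hHQ1 _ (mul_mem h1 hh) h2)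
  · -- fixed points
    intro u hu hfix
    obtain ⟨t, ht1⟩ := h4
    obtain ⟨c, hc⟩ := D.surj (π k' * dg t * (π k')⁻¹)
    obtain ⟨h1, h2⟩ := hdiag' c t hc
    have h3 := hborel c h1 h2
    rw [sup_comm] at h3
    obtain ⟨h, hh, x, hx, e⟩ := mem_sup_norm hHQ h3
    have hhL : h ∈ L := by
      have := mul_mem c.2 (inv_mem (D.QL hx))
      rwa [e, mul_inv_cancel_right] at this
    have e2 : c = ⟨h, hhL⟩ * ⟨x, D.QL hx⟩ := Subtype.ext e
    have hπh : π ⟨h, hhL⟩ = π k' * dg t * (π k')⁻¹ := by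
      rw [← hc, e2, map_mul, (D.ker ⟨x, D.QL hx⟩).mpr hx, mul_one]
    have h5 := hfix h ⟨hh, hhL⟩
    have h6 := (D.ker (⟨h, hhL⟩ * ⟨u, D.UL hu⟩ * ⟨h, hhL⟩⁻¹ * ⟨u, D.UL hu⟩⁻¹)).mpr h5
    have h7 := D.eq_up (u := ⟨u, D.UL hu⟩) hu
    have h8 := D.eq_up (u := k') hk
    set b := (π ⟨u, D.UL hu⟩).1 0 1 with hb
    set a := (π k').1 0 1 with ha
    rw [map_mul, map_mul, map_mul, map_inv, map_inv, hπh, h7, h8] at h6
    have h9 : up a * (dg t * up b * (dg t)⁻¹) * (up a)⁻¹ * (up b)⁻¹ = 1 := by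
      rw [← h6]
      have hab : (up a)⁻¹ * up b * up a = up b := by
        rw [up_inv, up_mul_up, up_mul_up]; congr 1; ring
      calc up a * (dg t * up b * (dg t)⁻¹) * (up a)⁻¹ * (up b)⁻¹
          = up a * (dg t * ((up a)⁻¹ * up b * up a) * (dg t)⁻¹) * (up a)⁻¹ * (up b)⁻¹ := by
            rw [hab]
        _ = _ := by group
    rw [dg_up, up_inv, up_inv, up_mul_up, up_mul_up, up_mul_up, ← up_zero] at h9
    have h10 := (SLTwo.ext_iff'.mp h9).2.1
    rw [up_01, up_01] at h10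
    have h11 : ((t : F) ^ 2 - 1) * b = 0 := by linear_combination h10
    rcases mul_eq_zero.mp h11 with h12 | h12
    · exfalso
      apply ht1
      have h13 : ((t : F) - 1) * ((t : F) - 1) = 0 := by
        have h2' : (2 : F) = 0 := CharTwo.two_eq_zero
        linear_combination h12 + (1 - (t : F)) * h2'
      exact Units.ext (sub_eq_zero.mp (mul_self_eq_zero.mp h13))
    · refine (D.ker ⟨u, D.UL hu⟩).mp ?_
      rw [h7, h12, up_zero]

end SLPar

end Cfsg.Agent.RankTwoClose
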