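import Mathlib
import Cfsg.Agent.RankTwoClose.UFour.Tools
import Cfsg.Agent.RankTwoClose.RankOneOf

/-!
# Borel subgroups: the Hall `2'`-subgroup, Sylow statements and the choice of the basis

`SLPre L U Q π`: `π : L → SL(2, F)` onto, kernel `Q`, `U` = preimage of the upper unitriangular group.
-/

set_option autoImplicit false
set_option linter.unusedSectionVars false

namespace Cfsg.Agent.RankTwoClose

open SLTwo UFour

variable {G : Type*} [Group G]

/-! ### Odd index -/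

theorem odd_relIndex_of_pow [Finite G] {U B : Subgroup G} 
    (hB : B ≤ Subgroup.normalizer (U : Set G)) (h : ∀ b ∈ B, ∃ k : ℕ, Odd k ∧ b ^ k ∈ U) :
    Odd (U.relIndex B) := by
  have hn : (U.subgroupOf B).Normal := by
    constructor
    intro x hx g
    rw [Subgroup.mem_subgroupOf] at hx ⊢
    exact conj_mem (hB g.2) hx
  by_contra hodd
  rw [Nat.not_odd_iff_even, even_iff_two_dvd] at hodd
  have : Fact (Nat.Prime 2) := ⟨Nat.prime_two⟩
  have h2 : 2 ∣ Nat.card (B ⧸ U.subgroupOf B) := hodd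
  obtain ⟨x, hx⟩ := exists_prime_orderOf_dvd_card' 2 h2
  obtain ⟨b, rfl⟩ := QuotientGroup.mk_surjective x
  obtain ⟨k, hk, hbk⟩ := h b b.2
  have h3 : ((b : B ⧸ U.subgroupOf B)) ^ k = 1 := by
    rw [← QuotientGroup.mk_pow, QuotientGroup.eq_one_iff, Subgroup.mem_subgroupOf]
    simpa using hbk
  have h4 := orderOf_dvd_of_pow_eq_one h3
  rw [hx] at h4
  exact (Nat.not_even_iff_odd.mpr hk) (even_iff_two_dvd.mpr h4)

theorem mul_pow_mem {B : Subgroup G} {x y : G} (hx : x ∈ Subgroup.normalizer (B : Set G))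
    (hy : y ∈ B) (k : ℕ) : ∃ z ∈ B, (x * y) ^ k = x ^ k * z := by
  induction k with
  | zero => exact ⟨1, one_mem _, by simp⟩
  | succ k ih =>
    obtain ⟨z, hz, e⟩ := ih
    refine ⟨x⁻¹ * z * x * y, mul_mem (conj_mem' hx hz) hy, ?_⟩
    rw [pow_succ, e, pow_succ]
    group

theorem odd_pow_sup {U B1 B2 : Subgroup G} (hN : B2 ≤ Subgroup.normalizer (B1 : Set G))
    (h1 : ∀ b ∈ B1, ∃ k : ℕ, Odd k ∧ b ^ k ∈ U) (h2 : ∀ b ∈ B2, ∃ k : ℕ, Odd k ∧ b ^ k ∈ B1) :
    ∀ b ∈ B2 ⊔ B1, ∃ k : ℕ, Odd k ∧ b ^ k ∈ U := by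
  intro b hb
  obtain ⟨x, hx, y, hy, rfl⟩ := mem_sup_norm hN hb
  obtain ⟨k, hk, hxk⟩ := h2 x hx
  obtain ⟨z, hz, e⟩ := mul_pow_mem (hN hx) hy k
  have h3 : (x * y) ^ k ∈ B1 := by rw [e]; exact mul_mem hxk hz
  obtain ⟨l, hl, h4⟩ := h1 _ h3
  exact ⟨k * l, hk.mul hl, by rwa [pow_mul]⟩

/-- Schur–Zassenhaus in a subgroup. -/
theorem exists_hall [Finite G] {U B : Subgroup G} (hU : U ≤ B)
    (hB : B ≤ Subgroup.normalizer (U : Set G)) (h2 : IsPGroup 2 U) (hodd : Odd (U.relIndex B)) :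
    ∃ H : Subgroup G, H ≤ B ∧ Odd (Nat.card H) ∧ U ⊔ H = B := by
  have hn : (U.subgroupOf B).Normal := by
    constructor
    intro x hx g
    rw [Subgroup.mem_subgroupOf] at hx ⊢
    exact conj_mem (hB g.2) hx
  have hc : (Nat.card (U.subgroupOf B)).Coprime (U.subgroupOf B).index := by
    have : Fact (Nat.Prime 2) := ⟨Nat.prime_two⟩
    obtain ⟨k, hk⟩ := (IsPGroup.iff_card (p := 2)).mp h2
    have e : Nat.card (U.subgroupOf B) = Nat.card U :=
      Nat.card_congr (Subgroup.subgroupOfEquivOfLe hU).toEquiv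
    rw [e, hk]
    exact Nat.Coprime.pow_left k (Nat.coprime_two_left.mpr hodd)
  obtain ⟨H', hH'⟩ := Subgroup.exists_right_complement'_of_coprime hc
  refine ⟨H'.map B.subtype, Subgroup.map_subtype_le _, ?_, ?_⟩
  · have e : Nat.card (H'.map B.subtype) = Nat.card H' :=
      (Nat.card_congr (H'.equivMapOfInjective B.subtype B.subtype_injective).toEquiv).symm
    rw [e, ← hH'.symm.index_eq_card]
    exact hodd
  · have h1 := congrArg (Subgroup.map B.subtype) hH'.sup_eq_top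
    rw [Subgroup.map_sup, Subgroup.map_subgroupOf_eq_of_le hU] at h1
    rw [h1, ← MonoidHom.range_eq_map, Subgroup.range_subtype]

/-! ### `SL(2, F)` -/

variable {F : Type*} [Field F]

namespace SLTwo

theorem pow_low {g : SL F} (h : g.1 1 0 = 0) (k : ℕ) :
    (g ^ k).1 1 0 = 0 ∧ (g ^ k).1 0 0 = (g.1 0 0) ^ k := by
  induction k with
  | zero => exact ⟨rfl, by rw [pow_zero, pow_zero]; rfl⟩
  | succ k ih =>
    rw [pow_succ, mul_10, mul_00, h, ih.1, ih.2, pow_succ]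
    constructor <;> ring

theorem odd_card_units [CharP F 2] [Finite F] : Odd (Nat.card Fˣ) := by
  by_contra hodd
  rw [Nat.not_odd_iff_even, even_iff_two_dvd] at hodd
  have : Fact (Nat.Prime 2) := ⟨Nat.prime_two⟩
  obtain ⟨t, ht⟩ := exists_prime_orderOf_dvd_card' 2 hodd
  have h1 : t ^ 2 = 1 := by rw [← ht]; exact pow_orderOf_eq_one t
  have h2 : t = 1 := by
    have h3 : ((t : F)) ^ 2 = 1 := by rw [← Units.val_pow_eq_pow_val, h1]; rfl
    have h12 : ((t : F) - 1) * ((t : F) - 1) = 0 := by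
      have h2' : (2 : F) = 0 := CharTwo.two_eq_zero
      linear_combination h3 + (1 - (t : F)) * h2'
    exact Units.ext (sub_eq_zero.mp (mul_self_eq_zero.mp h12))
  rw [h2, orderOf_one] at ht
  exact absurd ht (by norm_num)

/-- An element of odd power in the upper unitriangular group. -/
theorem pow_card {g : SL F} [Finite F] (h : g.1 1 0 = 0) :
    (g ^ Nat.card Fˣ).1 0 0 = 1 ∧ (g ^ Nat.card Fˣ).1 1 0 = 0 := by
  obtain ⟨h1, h2⟩ := pow_low h (Nat.card Fˣ)
  refine ⟨?_, h1⟩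
  rw [h2]
  have hd := det_eq g
  rw [h, mul_zero, sub_zero] at hd
  have h3 : (Units.mkOfMulEqOne _ _ hd) ^ Nat.card Fˣ = 1 := pow_card_eq_one'
  have h4 := congrArg Units.val h3
  rw [Units.val_pow_eq_pow_val] at h4
  exact h4

end SLTwo

/-- `L/Q = SL(2, F)`, `U` the preimage of the upper unitriangular group. -/
structure SLPre (L U Q : Subgroup G) (π : L →* SL F) : Prop where
  surj : Function.Surjective π
  ker : ∀ x : L, π x = 1 ↔ (x : G) ∈ Q
  QL : Q ≤ L
  UL : U ≤ L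
  memU : ∀ x : L, (x : G) ∈ U ↔ (π x).1 0 0 = 1 ∧ (π x).1 1 0 = 0
  two : IsPGroup 2 U

namespace SLPre

variable {L U Q H : Subgroup G} {π : L →* SL F} [CharP F 2] (D : SLPre L U Q π)

include D in
theorem toPar (hodd : Odd (Nat.card H)) (HL : H ≤ Subgroup.normalizer (L : Set G))
    (HU : H ≤ Subgroup.normalizer (U : Set G))
    (hb : ∀ x : L, (π x).1 1 0 = 0 → (x : G) ∈ U ⊔ H) : SLPar L U Q H π :=
  { D with odd := hodd, HL := HL, HU := HU, borel := hb }

include D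

theorem QU : Q ≤ U := fun q hq => by
  have h1 := (D.ker ⟨q, D.QL hq⟩).mpr hq
  exact (D.memU ⟨q, D.QL hq⟩).mpr (by rw [h1]; exact ⟨one_00, one_10⟩)

theorem eq_up {u : L} (hu : (u : G) ∈ U) : π u = up ((π u).1 0 1) := by
  obtain ⟨h1, h2⟩ := (D.memU u).mp hu
  exact SLTwo.ext_iff'.mpr ⟨h1, rfl, h2, by
    have := det_eq (π u)
    rw [h1, h2] at this
    simpa using this⟩

theorem normU (x : L) : cj (x : G) U = U ↔ (π x).1 1 0 = 0 := by
  constructor
  · intro h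
    obtain ⟨u, hu1⟩ := D.surj (up 1)
    have hu : (u : G) ∈ U := (D.memU u).mpr (by rw [hu1]; exact ⟨rfl, rfl⟩)
    have h1 : (x : G) * u * (x : G)⁻¹ ∈ U := by
      rw [← h]; exact conj_mem_cj hu
    have h2 := ((D.memU (x * u * x⁻¹)).mp h1).2
    rw [map_mul, map_mul, map_inv, hu1] at h2
    exact lower_zero h2
  · intro h
    rw [← mem_norm_iff]
    have key : ∀ y : L, (π y).1 1 0 = 0 → ∀ u ∈ U, (y : G) * u * (y : G)⁻¹ ∈ U := by
      intro y hy u hu
      have hd := det_eq (π y)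
      rw [hy, mul_zero, sub_zero] at hd
      refine (D.memU (y * ⟨u, D.UL hu⟩ * y⁻¹)).mpr ?_
      rw [map_mul, map_mul, map_inv, D.eq_up (u := ⟨u, D.UL hu⟩) hu]
      simp only [mul_00, mul_01, mul_10, mul_11, inv_00, inv_10, up_00, up_01,
        up_10, up_11]
      rw [hy]
      constructor
      · linear_combination hd
      · ring
    rw [Subgroup.mem_normalizer_iff]
    intro g
    refine ⟨key x h g, fun hg => ?_⟩
    have h2 : (π x⁻¹).1 1 0 = 0 := by rw [map_inv, inv_10, h, neg_zero]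
    have := key x⁻¹ h2 _ hg
    rwa [show ((x⁻¹ : L) : G) * ((x : G) * g * (x : G)⁻¹) * ((x⁻¹ : L) : G)⁻¹ = g by
      rw [Subgroup.coe_inv]; group] at this

/-- Elements of `N_L(U)` have an odd power in `U`. -/
theorem odd_pow [Finite F] : ∀ b ∈ L ⊓ Subgroup.normalizer (U : Set G),
    ∃ k : ℕ, Odd k ∧ b ^ k ∈ U := by
  rintro b ⟨hb, hbU⟩
  refine ⟨Nat.card Fˣ, odd_card_units, ?_⟩
  have h1 := (D.normU ⟨b, hb⟩).mp (mem_norm_iff.mp hbU)
  obtain ⟨h2, h3⟩ := pow_card h1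
  rw [← map_pow] at h2 h3
  exact (D.memU (⟨b, hb⟩ ^ Nat.card Fˣ)).mpr ⟨h2, h3⟩

/-- `U` is a Sylow `2`-subgroup of `L`. -/
theorem sylow [Finite G] [Finite F] {R : Subgroup G} (hR : IsPGroup 2 R) (hUR : U ≤ R)
    (hRL : R ≤ L) : R ≤ U := by
  by_contra hcon
  have : Fact (Nat.Prime 2) := ⟨Nat.prime_two⟩
  have hnil := hR.isNilpotent
  have h1 : U.subgroupOf R < ⊤ := by
    rw [lt_top_iff_ne_top]
    intro h
    exact hcon (Subgroup.subgroupOf_eq_top.mp h)
  have h2 := Group.normalizerCondition_of_isNilpotent _ h1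
  obtain ⟨r, hr, hr'⟩ := SetLike.exists_of_lt h2
  rw [Subgroup.mem_subgroupOf] at hr'
  apply hr'
  have hrN : (r : G) ∈ Subgroup.normalizer (U : Set G) := by
    rw [Subgroup.mem_normalizer_iff] at hr ⊢
    intro g
    constructor
    · intro hg
      have := (hr ⟨g, hUR hg⟩).mp (Subgroup.mem_subgroupOf.mpr hg)
      exact Subgroup.mem_subgroupOf.mp this
    · intro hg
      have hgR : g ∈ R := by
        have := mul_mem (mul_mem (inv_mem r.2) (hUR hg)) r.2
        rwa [show (r : G)⁻¹ * ((r : G) * g * (r : G)⁻¹) * r = g by group] at this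
      have := (hr ⟨g, hgR⟩).mpr (Subgroup.mem_subgroupOf.mpr hg)
      exact Subgroup.mem_subgroupOf.mp this
  obtain ⟨k, hk, hkU⟩ := D.odd_pow r ⟨hRL r.2, hrN⟩
  obtain ⟨l, hl⟩ := hR r
  have hl' : (r : G) ^ 2 ^ l = 1 := by
    have := congrArg Subtype.val hl
    simpa using this
  have hco : Nat.Coprime k (2 ^ l) := Nat.Coprime.pow_right l (Nat.coprime_two_right.mpr hk)
  have e : (r : G) = ((r : G) ^ k) ^ (Nat.gcdA k (2 ^ l)) := by
    have hb := Nat.gcd_eq_gcd_ab k (2 ^ l)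
    rw [hco] at hb
    calc (r : G) = (r : G) ^ ((1 : ℕ) : ℤ) := by simp
      _ = (r : G) ^ ((k : ℤ) * Nat.gcdA k (2 ^ l) + ((2 ^ l : ℕ) : ℤ) * Nat.gcdB k (2 ^ l)) := by
        rw [hb]
      _ = _ := by
        rw [zpow_add, zpow_mul, zpow_mul, zpow_natCast, zpow_natCast, hl', one_zpow, mul_one]
  rw [e]
  exact zpow_mem hkU _

/-- `Q = O_2(L)`. -/
theorem le_Q [Finite G] [Finite F] {R : Subgroup G} (hR : IsPGroup 2 R) (hRL : R ≤ L)
    (hn : L ≤ Subgroup.normalizer (R : Set G)) : R ≤ Q := by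
  have h1 : IsPGroup 2 (U ⊔ R : Subgroup G) := IsPGroup.to_sup_of_normal_right' D.two hR
    (D.UL.trans hn)
  have h2 : R ≤ U := le_sup_right.trans (D.sylow h1 le_sup_left (sup_le D.UL hRL))
  intro r hr
  obtain ⟨n, hn0⟩ := D.surj (ww : SL F)
  have h3 : ((n * ⟨r, hRL hr⟩ * n⁻¹ : L) : G) ∈ U := h2 (conj_mem (hn n.2) hr)
  have h4 := ((D.memU _).mp h3).2
  have h5 := D.eq_up (u := ⟨r, hRL hr⟩) (h2 hr)
  rw [map_mul, map_mul, map_inv, hn0, h5, ww_inv, ww_up_ww, dn_10] at h4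
  refine (D.ker ⟨r, hRL hr⟩).mp ?_
  rw [h5, h4, up_zero]

end SLPre

/-! ### The choice of the basis -/

theorem exists_basis {v : Fin 2 → F} (hv : v ≠ 0) [CharP F 2] :
    ∃ k : SL F, k.1 0 0 = v 0 ∧ k.1 1 0 = v 1 := by
  by_cases h0 : v 0 = 0
  · have h1 : v 1 ≠ 0 := by
      intro h1
      apply hv
      funext i
      fin_cases i
      · exact h0
      · exact h1
    refine ⟨⟨!![v 0, (v 1)⁻¹; v 1, 0], ?_⟩, rfl, rfl⟩
    rw [Matrix.det_fin_two_of, mul_zero, inv_mul_cancel₀ h1, zero_sub]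
    exact CharTwo.neg_eq 1
  · refine ⟨⟨!![v 0, 0; v 1, (v 0)⁻¹], ?_⟩, rfl, rfl⟩
    rw [Matrix.det_fin_two_of, zero_mul, sub_zero, mul_inv_cancel₀ h0]

/-- For a Sylow `2`-subgroup `U` of `L` the basis can be chosen such that `U` is the preimage of the
upper unitriangular group. -/
theorem exists_pre [Finite G] [Finite F] [CharP F 2] {L U Q : Subgroup G} (π : L →* SL F)
    (hsurj : Function.Surjective π) (hker : ∀ x : L, π x = 1 ↔ (x : G) ∈ Q) (QU : Q ≤ U)
    (UL : U ≤ L) (two : IsPGroup 2 U)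
    (hsyl : ∀ R : Subgroup G, IsPGroup 2 R → U ≤ R → R ≤ L → R ≤ U) :
    ∃ g : SL F, SLPre L U Q ((MulAut.conj g).toMonoidHom.comp π) := by
  have : Fact (Nat.Prime 2) := ⟨Nat.prime_two⟩
  let act : MulAction U (Fin 2 → F) :=
    { smul := fun u v => (π ⟨u, UL u.2⟩).1.mulVec v
      one_smul := fun v => by
        show (π ⟨((1 : U) : G), UL (1 : U).2⟩).1.mulVec v = v
        have e : (⟨((1 : U) : G), UL (1 : U).2⟩ : L) = 1 := rfl
        rw [e, map_one]
        exact Matrix.one_mulVec v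
      mul_smul := fun a b v => by
        show (π ⟨((a * b : U) : G), UL (a * b).2⟩).1.mulVec v =
          (π ⟨a, UL a.2⟩).1.mulVec ((π ⟨b, UL b.2⟩).1.mulVec v)
        have e : (⟨((a * b : U) : G), UL (a * b).2⟩ : L) = ⟨a, UL a.2⟩ * ⟨b, UL b.2⟩ := rfl
        rw [e, map_mul, SLTwo.mul_val, Matrix.mulVec_mulVec] }
  have h2 : 2 ∣ Nat.card (Fin 2 → F) := by
    have h3 : 2 ∣ Nat.card F := by
      have := Fintype.ofFinite F
      rw [Nat.card_eq_fintype_card]
      exact (CharP.cast_eq_zero_iff F 2 _).mp (Nat.cast_card_eq_zero F)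
    rw [Nat.card_fun]
    exact dvd_pow h3 (by simp)
  have h0 : (0 : Fin 2 → F) ∈ @MulAction.fixedPoints U (Fin 2 → F) _ act := by
    intro u
    exact Matrix.mulVec_zero _
  obtain ⟨v, hv, hv0⟩ := @IsPGroup.exists_fixed_point_of_prime_dvd_card_of_fixed_point 2 U _ two _
    (Fin 2 → F) act _ h2 _ h0
  obtain ⟨k, hk0, hk1⟩ := exists_basis (v := v) hv0.symm
  have hfix : ∀ u : L, (u : G) ∈ U → (k⁻¹ * π u * k).1 0 0 = 1 ∧ (k⁻¹ * π u * k).1 1 0 = 0 := by
    intro u hu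
    have h3 : (π u).1.mulVec v = v := hv ⟨u, hu⟩
    have h4 : (π u).1 0 0 * v 0 + (π u).1 0 1 * v 1 = v 0 := by
      have := congrFun h3 0
      rwa [Matrix.mulVec, dotProduct, Fin.sum_univ_two] at this
    have h5 : (π u).1 1 0 * v 0 + (π u).1 1 1 * v 1 = v 1 := by
      have := congrFun h3 1
      rwa [Matrix.mulVec, dotProduct, Fin.sum_univ_two] at this
    have hd := det_eq k
    rw [← hk0, ← hk1] at h4 h5
    simp only [mul_00, mul_01, mul_10, mul_11, inv_00, inv_01, inv_10, inv_11]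
    constructor
    · linear_combination k.1 1 1 * h4 - k.1 0 1 * h5 + hd
    · linear_combination -k.1 1 0 * h4 + k.1 0 0 * h5
  have hval : ∀ x : L, ((MulAut.conj k⁻¹).toMonoidHom.comp π) x = k⁻¹ * π x * k := fun x => by
    show k⁻¹ * π x * k⁻¹⁻¹ = _
    rw [inv_inv]
  refine ⟨k⁻¹, ?_, ?_, QU.trans UL, UL, ?_, two⟩
  · exact (MulAut.conj k⁻¹).surjective.comp hsurj
  · intro x
    rw [← hker, hval]
    constructor
    · intro h
      have : π x = k * (k⁻¹ * π x * k) * k⁻¹ := by group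
      rw [this, h, mul_one, mul_inv_cancel]
    · intro h
      rw [h, mul_one, inv_mul_cancel]
  · intro x
    rw [hval]
    constructor
    · exact hfix x
    · intro hx
      -- the preimage of the unitriangular group
      let R : Subgroup G :=
        { carrier := {y | ∃ h : y ∈ L, (k⁻¹ * π ⟨y, h⟩ * k).1 0 0 = 1 ∧
            (k⁻¹ * π ⟨y, h⟩ * k).1 1 0 = 0}
          one_mem' := by
            refine ⟨one_mem _, ?_⟩
            have e : (⟨1, one_mem L⟩ : L) = 1 := rfl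
            rw [e, map_one, mul_one, inv_mul_cancel]
            exact ⟨one_00, one_10⟩
          mul_mem' := by
            rintro a b ⟨ha, ha0, ha1⟩ ⟨hb, hb0, hb1⟩
            refine ⟨mul_mem ha hb, ?_⟩
            have e : (⟨a * b, mul_mem ha hb⟩ : L) = ⟨a, ha⟩ * ⟨b, hb⟩ := rfl
            rw [e, map_mul, show k⁻¹ * (π ⟨a, ha⟩ * π ⟨b, hb⟩) * k =
              (k⁻¹ * π ⟨a, ha⟩ * k) * (k⁻¹ * π ⟨b, hb⟩ * k) by group, mul_00 (k⁻¹ * π ⟨a, ha⟩ * k),
              mul_10 (k⁻¹ * π ⟨a, ha⟩ * k), ha0, ha1, hb0, hb1]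
            constructor <;> ring
          inv_mem' := by
            rintro a ⟨ha, ha0, ha1⟩
            refine ⟨inv_mem ha, ?_⟩
            have e : (⟨a⁻¹, inv_mem ha⟩ : L) = ⟨a, ha⟩⁻¹ := rfl
            have hd := det_eq (k⁻¹ * π ⟨a, ha⟩ * k)
            rw [ha0, ha1] at hd
            rw [e, map_inv, show k⁻¹ * (π ⟨a, ha⟩)⁻¹ * k = (k⁻¹ * π ⟨a, ha⟩ * k)⁻¹ by group,
              inv_00, inv_10, ha1]
            constructor
            · linear_combination hd
            · ring }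
      have hRL : R ≤ L := fun y hy => hy.1
      have hUR : U ≤ R := fun y hy => ⟨UL hy, hfix ⟨y, UL hy⟩ hy⟩
      have hR2 : IsPGroup 2 R := by
        rintro ⟨y, hy, hy0, hy1⟩
        have e1 : k⁻¹ * π ⟨y, hy⟩ * k = up _ := eq_up hy0 hy1
        have e2 : (k⁻¹ * π ⟨y, hy⟩ * k) * (k⁻¹ * π ⟨y, hy⟩ * k) = 1 := by
          rw [e1, up_mul_up, CharTwo.add_self_eq_zero, up_zero]
        have e3 : π (⟨y, hy⟩ * ⟨y, hy⟩) = 1 := by
          have : π ⟨y, hy⟩ * π ⟨y, hy⟩ =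
            k * ((k⁻¹ * π ⟨y, hy⟩ * k) * (k⁻¹ * π ⟨y, hy⟩ * k)) * k⁻¹ := by group
          rw [map_mul, this, e2, mul_one, mul_inv_cancel]
        have e4 : y * y ∈ U := QU ((hker _).mp e3)
        obtain ⟨l, hl⟩ := two ⟨y * y, e4⟩
        have hl' : (y * y) ^ 2 ^ l = 1 := congrArg Subtype.val hl
        refine ⟨l + 1, Subtype.ext ?_⟩
        show y ^ 2 ^ (l + 1) = 1
        rw [pow_succ, mul_comm, pow_mul, pow_two]
        exact hl'
      exact hsyl R hR2 hUR hRL ⟨x.2, hx⟩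

end Cfsg.Agent.RankTwoClose
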