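import Mathlib
import Cfsg.Agent.Solvable.Glauberman
import Cfsg.Agent.RankTwoClose.Quad

/-!
# A panel from abstract rank one data (no identification of `L/Q`)

`L` with `Q ≤ U ≤ L`, `Q` normal in `L`, `U` transitive on the other conjugates of `U` in `L`, `U/Q`
acting regularly on them, `n₀` swapping `U` and `U^{n₀}`; `H` a group of odd order normalising `L` and
`U` with `N_L(U) ≤ U H`.  Then some `n ∈ L` with `n H n⁻¹ = H` makes `(L, U, Q, H, n)` a panel, and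
`n ≡ k n₀ k⁻¹` modulo `Q` for some `k ∈ U`.  Works for `SL₂`, `Sz`, `SU₃`, `PSU₃`, `PSL₂`.
-/

set_option autoImplicit false

universe u

namespace Cfsg.Agent.RankTwoClose.PanOf

open UFour
open scoped Pointwise

variable {G : Type u} [Group G]

/-- Abstract rank one data. -/
structure Abs (L U Q : Subgroup G) (n₀ : G) : Prop where
  UL : U ≤ L
  QU : Q ≤ U
  LQ : L ≤ Subgroup.normalizer (Q : Set G)
  two : IsPGroup 2 U
  nL : n₀ ∈ L
  trans : ∀ g ∈ L, cj g U = U ∨ ∃ u ∈ U, cj g U = cj (u * n₀) U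
  ne : cj n₀ U ≠ U
  swap : cj n₀ (cj n₀ U) = U
  inter : ∀ u ∈ U, cj u (cj n₀ U) = cj n₀ U → u ∈ Q
  fix : ∀ u ∈ U, (∀ t ∈ L, cj t U = U → cj t (cj n₀ U) = cj n₀ U → t * u * t⁻¹ * u⁻¹ ∈ Q) → u ∈ Q

theorem exists_pan [Finite G] {L U Q H : Subgroup G} {n₀ : G} (D : Abs L U Q n₀)
    (odd : Odd (Nat.card H)) (HL : H ≤ Subgroup.normalizer (L : Set G))
    (HU : H ≤ Subgroup.normalizer (U : Set G)) (borel : ∀ g ∈ L, cj g U = U → g ∈ U ⊔ H) :
    ∃ k ∈ U, ∃ n ∈ L, Quad.Pan L U Q H n ∧ cj n U = cj k (cj n₀ U) ∧ cj n (cj n U) = U ∧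
      (∃ q ∈ Q, q * n = k * n₀ * k⁻¹) ∧
      (∀ t ∈ L, cj t U = U → cj t (cj n U) = cj n U → t ∈ Q ⊔ (H ⊓ L)) := by
  classical
  have hU2 : (Nat.card H).Coprime (Nat.card U) := by
    have : Fact (Nat.Prime 2) := ⟨Nat.prime_two⟩
    obtain ⟨k, hk⟩ := (IsPGroup.iff_card (p := 2)).mp D.two
    rw [hk]
    exact Nat.Coprime.pow_right k (Nat.coprime_two_right.mpr odd)
  have hUs : Group.IsSolvable U := by
    have : Fact (Nat.Prime 2) := ⟨Nat.prime_two⟩
    have := D.two.isNilpotent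
    infer_instance
  let _ : MulAction G (Subgroup G) := MulAction.compHom (Subgroup G) (MulAut.conj (G := G))
  have hsm : ∀ (g : G) (X : Subgroup G), g • X = cj g X := fun _ _ => rfl
  obtain ⟨k, hk, hkH⟩ := Solvable.Glauberman.exists_smul_fixed H U HU hU2 (Or.inr hUs)
    (cj n₀ U) (by
      intro a ha
      have haU' : cj a⁻¹ U = U := mem_norm_iff.mp (inv_mem (HU ha))
      have haL : a * n₀ * a⁻¹ ∈ L := conj_mem (HL ha) D.nL
      have e : cj a (cj n₀ U) = cj (a * n₀ * a⁻¹) U := by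
        rw [cj_mul, haU', cj_mul]
      rcases D.trans _ haL with h | ⟨u, hu, h⟩
      · exfalso
        apply D.ne
        rw [← e] at h
        have h2 := congrArg (cj a⁻¹) h
        rwa [cj_inv_cj, haU'] at h2
      · refine ⟨u, hu, ?_⟩
        rw [hsm, hsm, e]
        exact h.trans (cj_mul _ _ _))
  set U1 : Subgroup G := cj k (cj n₀ U) with hU1
  have hHU1 : ∀ a ∈ H, cj a U1 = U1 := fun a ha => hkH a ha
  have hkL : k ∈ L := D.UL hk
  set m : G := k * n₀ * k⁻¹ with hm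
  have hmL : m ∈ L := mul_mem (mul_mem hkL D.nL) (inv_mem hkL)
  have hkU : cj k U = U := cj_eq_of_mem hk
  have hkU' : cj k⁻¹ U = U := cj_eq_of_mem (inv_mem hk)
  have hmU : cj m U = U1 := by
    rw [hm, cj_mul, hkU', cj_mul]
  have hmU1 : cj m U1 = U := by
    rw [hm, hU1, cj_mul, cj_inv_cj, cj_mul, D.swap, hkU]
  have hQU1 : Q ≤ U1 := by
    intro q hq
    rw [← hmU]
    exact mem_cj.mpr (D.QU (conj_mem' (D.LQ hmL) hq))
  -- `U ∩ N_L(U1) ≤ Q`
  have hinter : ∀ u ∈ U, cj u U1 = U1 → u ∈ Q := by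
    intro u hu hu1
    have h1 : cj (k⁻¹ * u * k) (cj n₀ U) = cj n₀ U := by
      rw [cj_mul, cj_mul, ← hU1, hu1, hU1, cj_inv_cj]
    have h2 := D.inter _ (mul_mem (mul_mem (inv_mem hk) hu) hk) h1
    have h3 := conj_mem (D.LQ hkL) h2
    rwa [show k * (k⁻¹ * u * k) * k⁻¹ = u by group] at h3
  -- `H` normalises `Q`
  have hHQ : H ≤ Subgroup.normalizer (Q : Set G) := by
    refine le_normalizer_of fun a ha x hx => ?_
    rw [mem_cj] at hx
    have hxU : x ∈ U := by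
      have := conj_mem (HU ha) (D.QU hx)
      rwa [show a * (a⁻¹ * x * a) * a⁻¹ = x by group] at this
    refine hinter x hxU (cj_eq_of_mem ?_)
    have h1 := hQU1 hx
    rw [← hHU1 a ha]
    exact mem_cj.mpr h1
  have hborel : ∀ c ∈ L, cj c U = U → cj c U1 = U1 → c ∈ Q ⊔ (H ⊓ L) := by
    intro c hcL hc hc1
    have h1 := borel c hcL hc
    rw [sup_comm] at h1
    obtain ⟨h, hh, u, hu, rfl⟩ := mem_sup_norm HU h1
    have hhL : h ∈ L := by
      have := mul_mem hcL (inv_mem (D.UL hu))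
      rwa [mul_inv_cancel_right] at this
    have h2 : cj u U1 = U1 := by
      rw [cj_mul] at hc1
      have h4 := congrArg (cj h⁻¹) hc1
      rwa [cj_inv_cj, hHU1 h⁻¹ (inv_mem hh)] at h4
    exact mul_mem (Subgroup.mem_sup_right (Subgroup.mem_inf.mpr ⟨hh, hhL⟩))
      (Subgroup.mem_sup_left (hinter u hu h2))
  have hle : Q ⊔ (H ⊓ L) ≤ H ⊔ Q := sup_le le_sup_right (inf_le_left.trans le_sup_left)
  -- `cj m H ≤ H ⊔ Q`
  have hmH : cj m H ≤ H ⊔ Q := by
    intro x hx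
    rw [mem_cj] at hx
    set a := m⁻¹ * x * m with ha
    have hx' : x = m * a * m⁻¹ := by rw [ha]; group
    have hcL : m * a * m⁻¹ * a⁻¹ ∈ L := by
      rw [show m * a * m⁻¹ * a⁻¹ = m * (a * m⁻¹ * a⁻¹) by group]
      exact mul_mem hmL (conj_mem (HL hx) (inv_mem hmL))
    have haU : cj a U = U := mem_norm_iff.mp (HU hx)
    have haU' : cj a⁻¹ U = U := mem_norm_iff.mp (inv_mem (HU hx))
    have hmU' : cj m⁻¹ U = U1 := by rw [← hmU1, cj_inv_cj]
    have hmU1' : cj m⁻¹ U1 = U := by rw [← hmU, cj_inv_cj]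
    have h1 : cj (m * a * m⁻¹ * a⁻¹) U = U := by
      rw [cj_mul, haU', cj_mul, hmU', cj_mul, hHU1 a hx, hmU1]
    have h2 : cj (m * a * m⁻¹ * a⁻¹) U1 = U1 := by
      rw [cj_mul, hHU1 a⁻¹ (inv_mem hx), cj_mul, hmU1', cj_mul, haU, hmU]
    have h3 := hle (hborel _ hcL h1 h2)
    have h4 := mul_mem h3 (Subgroup.mem_sup_left (T := Q) hx)
    rw [hx']
    rwa [show m * a * m⁻¹ * a⁻¹ * a = m * a * m⁻¹ by group] at h4
  have hQ2 : (Nat.card H).Coprime (Nat.card Q) := by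
    have : Fact (Nat.Prime 2) := ⟨Nat.prime_two⟩
    obtain ⟨k, hk⟩ := (IsPGroup.iff_card (p := 2)).mp (D.two.to_le D.QU)
    rw [hk]
    exact Nat.Coprime.pow_right k (Nat.coprime_two_right.mpr odd)
  have hQs : Group.IsSolvable Q := by
    have : Fact (Nat.Prime 2) := ⟨Nat.prime_two⟩
    have := (D.two.to_le D.QU).isNilpotent
    infer_instance
  obtain ⟨q, hq, hqH⟩ := Solvable.Glauberman.exists_conj_of_le_sup H Q hHQ hQ2 (Or.inr hQs)
    (cj m H) hmH (card_cj _ _)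
  have hqH' : cj q H = cj m H := hqH
  have hqL : q ∈ L := (D.QU.trans D.UL) hq
  set n : G := q⁻¹ * m with hn
  have hnL : n ∈ L := mul_mem (inv_mem hqL) hmL
  have hnH : cj n H = H := by
    rw [hn, cj_mul, ← hqH', cj_inv_cj]
  have hnU : cj n U = U1 := by
    rw [hn, cj_mul, hmU, cj_eq_of_mem (inv_mem (hQU1 hq))]
  have hnU1 : cj n U1 = U := by
    rw [hn, cj_mul, hmU1, cj_eq_of_mem (inv_mem (D.QU hq))]
  refine ⟨k, hk, n, hnL, ⟨D.UL, D.QU, D.LQ, hnL, ?_, ?_, borel, HL, hHQ, hnH, ?_, ?_⟩, hnU,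
    by rw [hnU, hnU1], ⟨q, hq, by rw [hn, mul_inv_cancel_left]⟩, ?_⟩
  · -- transitivity
    intro g hg
    rcases D.trans g hg with h | ⟨u, hu, h⟩
    · exact Or.inl h
    · right
      refine ⟨u * k⁻¹, mul_mem hu (inv_mem hk), ?_⟩
      rw [cj_mul, hnU, hU1, cj_mul u k⁻¹, cj_inv_cj, ← cj_mul]
      exact h
  · -- intersection
    rintro u ⟨hu, hu'⟩
    refine hinter u hu (cj_eq_of_mem ?_)
    rw [← hnU]; exact hu'
  · -- fixed points
    intro u hu hfix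
    have h1 : k⁻¹ * u * k ∈ Q := by
      refine D.fix _ (mul_mem (mul_mem (inv_mem hk) hu) hk) fun t ht ht1 ht2 => ?_
      have h2 : cj (k * t * k⁻¹) U = U := by rw [cj_mul, hkU', cj_mul, ht1, hkU]
      have h3 : cj (k * t * k⁻¹) U1 = U1 := by
        rw [hU1, cj_mul, cj_inv_cj, cj_mul, ht2]
      have h4 := hle (hborel _ (mul_mem (mul_mem hkL ht) (inv_mem hkL)) h2 h3)
      obtain ⟨h, hh, x, hx, e⟩ := mem_sup_norm hHQ h4
      have h5 : (k * t * k⁻¹) * u * (k * t * k⁻¹)⁻¹ * u⁻¹ ∈ Q := by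
        rw [e, show h * x * u * (h * x)⁻¹ * u⁻¹ = (h * (x * (u * x⁻¹ * u⁻¹)) * h⁻¹) *
          (h * u * h⁻¹ * u⁻¹) by group]
        exact mul_mem (conj_mem (hHQ hh) (mul_mem hx (conj_mem (D.LQ (D.UL hu)) (inv_mem hx))))
          (hfix h hh)
      have h6 := conj_mem' (D.LQ hkL) h5
      rwa [show k⁻¹ * (k * t * k⁻¹ * u * (k * t * k⁻¹)⁻¹ * u⁻¹) * k =
        t * (k⁻¹ * u * k) * t⁻¹ * (k⁻¹ * u * k)⁻¹ by group] at h6
    have h2 := conj_mem (D.LQ hkL) h1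
    rwa [show k * (k⁻¹ * u * k) * k⁻¹ = u by group] at h2
  · -- `cj n U ≠ U`
    rw [hnU]
    intro h
    apply D.ne
    have h2 := congrArg (cj k⁻¹) h
    rwa [hU1, cj_inv_cj, hkU'] at h2
  · intro t ht h1 h2
    rw [hnU] at h2
    exact hborel t ht h1 h2

end Cfsg.Agent.RankTwoClose.PanOf
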