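import Mathlib
import Cfsg.Agent.RankTwoClose.PanOf
import Cfsg.Agent.Omega.Hex.SZ

/-!
# Quadrangles with a central parabolic: the input without torus and field

`structure QIn`: two groups `L` (`[L, R] = 1`, `Q = O₂(L)`, `R = [Q, Q]`), `X` (`O = O₂(X)`, `V` normal in
`X`, `[V, O] = 1`) with a common Sylow subgroup `U`.  `QIn.bn2`: `⟨L, X⟩` has a split `BN`-pair of rank two.
(`U₅(q)`: `L` of type `SU₃(q)`, `X` of type `L₂(q²)`, `V` the natural module `O₄⁻(q)`.)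
-/

set_option autoImplicit false

universe u

namespace Cfsg.Agent.RankTwoClose.QInput

open Cfsg.Agent.Omega.RootLemma Cfsg.Agent.RankTwoClose.UFour

variable {G : Type u} [Group G]

/-- The input. -/
structure QIn (S : Sylow 2 G) (L X U Q O V R A : Subgroup G) (n₀ m₀ z₀ w : G) : Prop where
  aL : PanOf.Abs L U Q n₀
  aX : PanOf.Abs X U O m₀
  /-- `U` is a Sylow subgroup of `L`, `X` -/
  sL : ∀ P ≤ L, IsPGroup 2 P → U ≤ P → P ≤ U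
  sX : ∀ P ≤ X, IsPGroup 2 P → U ≤ P → P ≤ U
  US : U ≤ S
  SL : ∀ s ∈ S, ∀ l ∈ L, s * l * s⁻¹ ∈ L
  LX : ∀ g ∈ L, cj g U = U → cj g X = X
  LV : ∀ g ∈ L, cj g U = U → cj g V = V
  XL : ∀ g ∈ X, cj g U = U → cj g L = L
  RV : R ≤ V
  VU : V ≤ U
  XV : X ≤ Subgroup.normalizer (V : Set G)
  OV : ∀ x ∈ O, ∀ v ∈ V, x * v = v * x
  CO : ∀ u ∈ U, (∀ v ∈ V, u * v = v * u) → u ∈ O
  LR : ∀ l ∈ L, ∀ z ∈ R, l * z = z * l
  comm : ⁅Q, Q⁆ = R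
  sq : ∀ x ∈ Q, x * x ∈ R
  irr : ∀ N ≤ Q, (∀ l ∈ L, ∀ x ∈ N, l * x * l⁻¹ ∈ N) → N ≤ R ∨ Q ≤ N ⊔ R
  QQ : ∀ g ∈ X, cj g U ≠ U → Q ⊓ cj g Q ≤ V
  RQ : ∀ g ∈ X, cj g U ≠ U → cj g R ⊓ Q = ⊥
  VR : ∀ g ∈ X, cj g U ≠ U → V ≤ cj g R ⊔ Q
  cE : ∀ g ∈ X, cj g U ≠ U → O.relIndex U ≤ Nat.card ↥((V ⊓ Q) ⊓ cj g (V ⊓ Q))
  opp : ∀ x ∈ V ⊓ Q, (∀ y ∈ cj n₀ (V ⊓ Q), x * y = y * x) → x ∈ R
  cD : Q.relIndex U ≤ Nat.card ↥((Q ⊓ Subgroup.centralizer (V : Set G)) ⊓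
    cj n₀ (Q ⊓ Subgroup.centralizer (V : Set G)))
  ruling : ∀ v ∈ V, v ∉ Q → ∃ y ∈ cj n₀ V, cj (v * y * v) (cj n₀ U) = U
  AL : A ≤ L
  AU : A ≤ Subgroup.normalizer (U : Set G)
  Aodd : Odd (Nat.card A)
  Aab : ∀ a ∈ A, ∀ b ∈ A, a * b = b * a
  AB : ∀ g ∈ L, cj g U = U → g ∈ U ⊔ A
  wQ : w ∈ Q
  cyc : Q ≤ Subgroup.closure {x | ∃ a ∈ A, x = a * w * a⁻¹} ⊔ R
  cent : ∀ s ∈ S, (∀ a ∈ A, a * s = s * a) → s ∈ R
  z₀R : z₀ ∈ R
  z₀1 : z₀ ≠ 1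
  z₀S : ∀ s ∈ S, s * z₀ = z₀ * s
  c2 : ∃ N : Subgroup G, (∀ x ∈ N, x * z₀ = z₀ * x) ∧ IsPGroup 2 N ∧
    (∀ d, d * z₀ = z₀ * d → ∀ x ∈ N, d * x * d⁻¹ ∈ N) ∧
    (∀ d, d * z₀ = z₀ * d → (∀ x ∈ N, d * x = x * d) → d ∈ N)
  tr : ∀ z ∈ R, z ≠ 1 → ∃ h, (∀ x ∈ Q, h * x * h⁻¹ ∈ Q) ∧ h * z₀ * h⁻¹ = z
  fixR : ∀ z ∈ R, (∀ g ∈ X, cj g U = U → g * z = z * g) → z = 1
  pair : ∃ a ∈ R, ∃ b ∈ R, a ≠ 1 ∧ b ≠ 1 ∧ a ≠ b

namespace QIn

variable {S : Sylow 2 G} {L X U Q O V R A : Subgroup G} {n₀ m₀ z₀ w : G}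

section basic

variable (h : QIn S L X U Q O V R A n₀ m₀ z₀ w)
include h

theorem QU : Q ≤ U := h.aL.QU

theorem OU : O ≤ U := h.aX.QU

theorem RQ' : R ≤ Q := by
  rw [← h.comm]
  exact (Subgroup.commutator_le).2 fun x hx y hy => by
    rw [commutatorElement_def]
    exact mul_mem (mul_mem (mul_mem hx hy) (inv_mem hx)) (inv_mem hy)

/-- `2`-elements of `L` normalising `U` -/
theorem two_L {x : G} (hx : x ∈ L) (hU : cj x U = U) {n : ℕ} (h2 : x ^ 2 ^ n = 1) : x ∈ U := by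
  have h1 : IsPGroup 2 ((Subgroup.zpowers x ⊔ U : Subgroup G)) :=
    IsPGroup.to_sup_of_normal_right' (isPGroup_zpowers_of_pow h2) h.aL.two
      (by rw [Subgroup.zpowers_le]; exact mem_norm_iff.mpr hU)
  exact h.sL _ (sup_le (by rw [Subgroup.zpowers_le]; exact hx) h.aL.UL) h1 le_sup_right
    (Subgroup.mem_sup_left (Subgroup.mem_zpowers x))

theorem two_X {x : G} (hx : x ∈ X) (hU : cj x U = U) {n : ℕ} (h2 : x ^ 2 ^ n = 1) : x ∈ U := by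
  have h1 : IsPGroup 2 ((Subgroup.zpowers x ⊔ U : Subgroup G)) :=
    IsPGroup.to_sup_of_normal_right' (isPGroup_zpowers_of_pow h2) h.aL.two
      (by rw [Subgroup.zpowers_le]; exact mem_norm_iff.mpr hU)
  exact h.sX _ (sup_le (by rw [Subgroup.zpowers_le]; exact hx) h.aX.UL) h1 le_sup_right
    (Subgroup.mem_sup_left (Subgroup.mem_zpowers x))

/-- The common Borel subgroup. -/
theorem B0_norm_L : (L ⊓ Subgroup.normalizer (U : Set G)) ⊔ (X ⊓ Subgroup.normalizer (U : Set G)) ≤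
    Subgroup.normalizer (L : Set G) := by
  refine sup_le (inf_le_left.trans Subgroup.le_normalizer) fun x hx => ?_
  obtain ⟨h1, h2⟩ := Subgroup.mem_inf.mp hx
  exact mem_norm_iff.mpr (h.XL x h1 (mem_norm_iff.mp h2))

theorem B0_norm_X : (L ⊓ Subgroup.normalizer (U : Set G)) ⊔ (X ⊓ Subgroup.normalizer (U : Set G)) ≤
    Subgroup.normalizer (X : Set G) := by
  refine sup_le (fun x hx => ?_) (inf_le_left.trans Subgroup.le_normalizer)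
  obtain ⟨h1, h2⟩ := Subgroup.mem_inf.mp hx
  exact mem_norm_iff.mpr (h.LX x h1 (mem_norm_iff.mp h2))

theorem B0_norm_V : (L ⊓ Subgroup.normalizer (U : Set G)) ⊔ (X ⊓ Subgroup.normalizer (U : Set G)) ≤
    Subgroup.normalizer (V : Set G) := by
  refine sup_le (fun x hx => ?_) (inf_le_left.trans h.XV)
  obtain ⟨h1, h2⟩ := Subgroup.mem_inf.mp hx
  exact mem_norm_iff.mpr (h.LV x h1 (mem_norm_iff.mp h2))

/-- `2`-elements of the Borel subgroup -/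
theorem two_B0 [Finite G] {x : G}
    (hx : x ∈ (L ⊓ Subgroup.normalizer (U : Set G)) ⊔ (X ⊓ Subgroup.normalizer (U : Set G)))
    {n : ℕ} (h2 : x ^ 2 ^ n = 1) : x ∈ U := by
  have hn : X ⊓ Subgroup.normalizer (U : Set G) ≤
      Subgroup.normalizer ((L ⊓ Subgroup.normalizer (U : Set G) : Subgroup G) : Set G) := by
    intro y hy
    obtain ⟨h1, h3⟩ := Subgroup.mem_inf.mp hy
    exact norm_inf (mem_norm_iff.mpr (h.XL y h1 (mem_norm_iff.mp h3))) (Subgroup.le_normalizer h3)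
  rw [sup_comm] at hx
  obtain ⟨b, hb, l, hl, rfl⟩ := mem_sup_norm hn hx
  obtain ⟨hbX, hbN⟩ := Subgroup.mem_inf.mp hb
  -- the odd part of the order of `b`
  obtain ⟨j, m, hm, e⟩ := Nat.exists_eq_two_pow_mul_odd (orderOf_pos b).ne'
  have hbm : (b ^ m) ^ 2 ^ j = 1 := by
    rw [← pow_mul, mul_comm, ← e, pow_orderOf_eq_one]
  have hbU : b ^ m ∈ U := h.two_X (pow_mem hbX m) (mem_norm_iff.mp (pow_mem hbN m)) hbm
  have hbL : b ^ m ∈ L ⊓ Subgroup.normalizer (U : Set G) :=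
    Subgroup.mem_inf.mpr ⟨h.aL.UL hbU, Subgroup.le_normalizer hbU⟩
  have key : ∀ i : ℕ, ∃ v ∈ L ⊓ Subgroup.normalizer (U : Set G), (b * l) ^ i = b ^ i * v := by
    intro i
    induction i with
    | zero => exact ⟨1, one_mem _, by simp⟩
    | succ i ih =>
      obtain ⟨v, hv, e2⟩ := ih
      refine ⟨b⁻¹ * v * b * l, mul_mem (conj_mem' (hn hb) hv) hl, ?_⟩
      rw [pow_succ, e2, pow_succ]; group
  obtain ⟨v, hv, e2⟩ := key m
  have h3 : (b * l) ^ m ∈ L ⊓ Subgroup.normalizer (U : Set G) := by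
    rw [e2]; exact mul_mem hbL hv
  have h4 : ((b * l) ^ m) ^ 2 ^ n = 1 := by
    rw [← pow_mul, mul_comm, pow_mul, h2, one_pow]
  obtain ⟨h5, h6⟩ := Subgroup.mem_inf.mp h3
  have h7 := h.two_L h5 (mem_norm_iff.mp h6) h4
  -- `(b l)` is a power of `(b l) ^ m`
  have h8 : Nat.Coprime m (2 ^ n) := Nat.Coprime.pow_right n (Nat.coprime_two_right.mpr hm)
  have h9 : b * l ∈ Subgroup.zpowers ((b * l) ^ m) := by
    have hg : Nat.gcd m (2 ^ n) = 1 := h8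
    have hb := Nat.gcd_eq_gcd_ab m (2 ^ n)
    rw [hg] at hb
    refine ⟨Nat.gcdA m (2 ^ n), ?_⟩
    show ((b * l) ^ m) ^ (Nat.gcdA m (2 ^ n)) = b * l
    have h10 : (b * l) ^ ((1 : ℕ) : ℤ) = b * l := by simp
    rw [← zpow_natCast, ← zpow_mul]
    conv_rhs => rw [← h10, hb, zpow_add, zpow_mul _ ((2 ^ n : ℕ) : ℤ), zpow_natCast _ (2 ^ n), h2,
      one_zpow, mul_one]
  exact (Subgroup.zpowers_le.mpr h7) h9

end basic

section opp

variable (h : QIn S L X U Q O V R A n₀ m₀ z₀ w)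
include h

theorem RU : R ≤ U := h.RV.trans h.VU

theorem VL : V ≤ L := h.VU.trans h.aL.UL

/-- `R` commutes with `V` -/
theorem R_V {r v : G} (hr : r ∈ R) (hv : v ∈ V) : v * r = r * v := h.LR v (h.VL hv) r hr

theorem cj_L_R {g : G} (hg : g ∈ L) : cj g R = R := by
  ext x
  rw [mem_cj]
  constructor
  · intro hx
    have h1 := h.LR g hg _ hx
    have e : x = g⁻¹ * x * g := by
      have : g * (g⁻¹ * x * g) = g⁻¹ * x * g * g := h1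
      have h2 : x * g = g⁻¹ * x * g * g := by rw [← this]; group
      exact mul_right_cancel h2
    rw [e]; exact hx
  · intro hx
    have h1 := h.LR g hg x hx
    have e : g⁻¹ * x * g = x := by rw [mul_assoc, ← h1]; group
    rw [e]; exact hx

theorem cj_L_Q {g : G} (hg : g ∈ L) : cj g Q = Q := mem_norm_iff.mp (h.aL.LQ hg)

/-- the commutator of two elements of `Q`, as a correction -/
theorem Q_comm {x y : G} (hx : x ∈ Q) (hy : y ∈ Q) : x * y * x⁻¹ * y⁻¹ ∈ R := by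
  rw [← h.comm, ← commutatorElement_def]
  exact Subgroup.commutator_mem_commutator hx hy

theorem U_E : U ≤ Subgroup.normalizer ((V ⊓ Q : Subgroup G) : Set G) := fun _ hu =>
  norm_inf (h.XV (h.aX.UL hu)) (h.aL.LQ (h.aL.UL hu))

theorem inv_square_mem : n₀ * n₀ ∈ L ∧ cj (n₀ * n₀) U = U :=
  ⟨mul_mem h.aL.nL h.aL.nL, by rw [cj_mul, h.aL.swap]⟩

/-- `opp`, other direction -/
theorem opp' {y : G} (hy : y ∈ cj n₀ (V ⊓ Q)) (hc : ∀ x ∈ V ⊓ Q, x * y = y * x) : y ∈ R := by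
  obtain ⟨hL, hU⟩ := h.inv_square_mem
  have hE2 : cj (n₀ * n₀) (V ⊓ Q) = V ⊓ Q := by
    rw [cj_inf, h.LV _ hL hU, h.cj_L_Q hL]
  rw [mem_cj] at hy
  have h1 : n₀⁻¹ * y * n₀ ∈ R := by
    refine h.opp _ hy fun x hx => ?_
    -- `x ∈ cj n₀ E = cj n₀⁻¹ E`
    have h2 : cj n₀ (V ⊓ Q) = cj n₀⁻¹ (V ⊓ Q) := by
      conv_rhs => rw [← hE2, cj_mul, cj_inv_cj]
    rw [h2, mem_cj, inv_inv] at hx
    have h3 := hc _ hx
    calc n₀⁻¹ * y * n₀ * x = n₀⁻¹ * (y * (n₀ * x * n₀⁻¹)) * n₀ := by group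
      _ = n₀⁻¹ * ((n₀ * x * n₀⁻¹) * y) * n₀ := by rw [h3]
      _ = x * (n₀⁻¹ * y * n₀) := by group
  have h2 : cj n₀⁻¹ R = R := h.cj_L_R (inv_mem h.aL.nL)
  rw [← h2, mem_cj, inv_inv] at h1
  rwa [show n₀ * (n₀⁻¹ * y * n₀) * n₀⁻¹ = y by group] at h1

/-- an element of `Q` whose commutators are in `R`: correcting by `q ∈ Q` -/
theorem corr {q x : G} (hq : q ∈ Q) (hx : x ∈ Q) : ∃ r ∈ R, q * x * q⁻¹ = r * x := by
  refine ⟨_, h.Q_comm hq hx, by group⟩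

variable {n k q : G} (hn : n ∈ L) (hk : k ∈ U) (hq : q ∈ Q) (e : q * n = k * n₀ * k⁻¹)
include hn hk hq e

/-- `opp` for `n = q⁻¹ k n₀ k⁻¹` -/
theorem opp_n {x : G} (hx : x ∈ V ⊓ Q) (hc : ∀ y ∈ cj n (V ⊓ Q), x * y = y * x) : x ∈ R := by
  have hEk : cj k⁻¹ (V ⊓ Q) = V ⊓ Q := mem_norm_iff.mp (inv_mem (h.U_E hk))
  have hkL : k ∈ L := h.aL.UL hk
  have h1 : k⁻¹ * x * k ∈ R := by
    refine h.opp _ (by
      have := conj_mem' (h.U_E hk) hx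
      exact this) fun y hy => ?_
    -- `k y k⁻¹ = q y₁ q⁻¹` with `y₁ ∈ cj n E`
    have h2 : q⁻¹ * (k * y * k⁻¹) * q ∈ cj n (V ⊓ Q) := by
      have e1 : cj n (V ⊓ Q) = cj q⁻¹ (cj k (cj n₀ (V ⊓ Q))) := by
        have e2 : n = q⁻¹ * (k * n₀ * k⁻¹) := by rw [← e]; group
        conv_lhs => rw [e2, cj_mul, cj_mul, cj_mul, hEk]
      rw [e1, mem_cj, mem_cj, inv_inv]
      rwa [show k⁻¹ * (q * (q⁻¹ * (k * y * k⁻¹) * q) * q⁻¹) * k = y by group]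
    have h3 := hc _ h2
    -- `q x q⁻¹ = r x`
    obtain ⟨r, hr, er⟩ := h.corr hq (Subgroup.mem_inf.mp hx).2
    have hyQ : k * y * k⁻¹ ∈ Q := by
      have : y ∈ Q := by
        have h4 := cj_mono (g := n₀) (inf_le_right : V ⊓ Q ≤ Q) hy
        rwa [h.cj_L_Q h.aL.nL] at h4
      exact conj_mem (h.aL.LQ hkL) this
    have h5 : (q * x * q⁻¹) * (k * y * k⁻¹) = (k * y * k⁻¹) * (q * x * q⁻¹) := by
      calc (q * x * q⁻¹) * (k * y * k⁻¹) = q * (x * (q⁻¹ * (k * y * k⁻¹) * q)) * q⁻¹ := by group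
        _ = q * ((q⁻¹ * (k * y * k⁻¹) * q) * x) * q⁻¹ := by rw [h3]
        _ = (k * y * k⁻¹) * (q * x * q⁻¹) := by group
    rw [er] at h5
    have hyr : (k * y * k⁻¹) * r = r * (k * y * k⁻¹) :=
      h.LR _ (h.aL.UL (h.QU hyQ)) r hr
    have h6 : x * (k * y * k⁻¹) = (k * y * k⁻¹) * x := by
      apply mul_left_cancel (a := r)
      calc r * (x * (k * y * k⁻¹)) = r * x * (k * y * k⁻¹) := by group
        _ = (k * y * k⁻¹) * (r * x) := h5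
        _ = ((k * y * k⁻¹) * r) * x := by group
        _ = r * ((k * y * k⁻¹) * x) := by rw [hyr]; group
    calc k⁻¹ * x * k * y = k⁻¹ * (x * (k * y * k⁻¹)) * k := by group
      _ = k⁻¹ * ((k * y * k⁻¹) * x) * k := by rw [h6]
      _ = y * (k⁻¹ * x * k) := by group
  have h2 : cj k⁻¹ R = R := h.cj_L_R (inv_mem hkL)
  rw [← h2, mem_cj, inv_inv] at h1
  rwa [show k * (k⁻¹ * x * k) * k⁻¹ = x by group] at h1

/-- `opp'` for `n` -/
theorem opp_n' {y : G} (hy : y ∈ cj n (V ⊓ Q)) (hc : ∀ x ∈ V ⊓ Q, x * y = y * x) : y ∈ R := by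
  have hEk : cj k⁻¹ (V ⊓ Q) = V ⊓ Q := mem_norm_iff.mp (inv_mem (h.U_E hk))
  have hkL : k ∈ L := h.aL.UL hk
  have hyQ : y ∈ Q := by
    have h4 := cj_mono (g := n) (inf_le_right : V ⊓ Q ≤ Q) hy
    rwa [h.cj_L_Q hn] at h4
  have e1 : cj n (V ⊓ Q) = cj q⁻¹ (cj k (cj n₀ (V ⊓ Q))) := by
    have e2 : n = q⁻¹ * (k * n₀ * k⁻¹) := by rw [← e]; group
    conv_lhs => rw [e2, cj_mul, cj_mul, cj_mul, hEk]
  rw [e1, mem_cj, mem_cj, inv_inv] at hy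
  obtain ⟨r, hr, er⟩ := h.corr hq hyQ
  have h1 : k⁻¹ * (q * y * q⁻¹) * k ∈ R := by
    refine h.opp' hy fun x hx => ?_
    have hx' : k * x * k⁻¹ ∈ V ⊓ Q := conj_mem (h.U_E hk) hx
    have h3 := hc _ hx'
    rw [er]
    have hxr : (k * x * k⁻¹) * r = r * (k * x * k⁻¹) :=
      h.LR _ (h.VL (Subgroup.mem_inf.mp hx').1) r hr
    calc x * (k⁻¹ * (r * y) * k) = k⁻¹ * (((k * x * k⁻¹) * r) * y) * k := by group
      _ = k⁻¹ * (r * ((k * x * k⁻¹) * y)) * k := by rw [hxr]; group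
      _ = k⁻¹ * (r * (y * (k * x * k⁻¹))) * k := by rw [h3]
      _ = k⁻¹ * (r * y) * k * x := by group
  have h2 : cj k⁻¹ R = R := h.cj_L_R (inv_mem hkL)
  rw [← h2, mem_cj, inv_inv] at h1
  have h5 : r * y ∈ R := by
    rw [er] at h1
    rwa [show k * (k⁻¹ * (r * y) * k) * k⁻¹ = r * y by group] at h1
  have h6 := mul_mem (inv_mem hr) h5
  rwa [inv_mul_cancel_left] at h6

/-- conjugates of subgroups between `R` and `Q` -/
theorem cj_n {D : Subgroup G} (hRD : R ≤ D) (hDQ : D ≤ Q) (hUD : U ≤ Subgroup.normalizer (D : Set G)) :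
    cj n D = cj k (cj n₀ D) := by
  have hkL : k ∈ L := h.aL.UL hk
  have hDk : cj k⁻¹ D = D := mem_norm_iff.mp (inv_mem (hUD hk))
  have e1 : cj q (cj n D) = cj k (cj n₀ D) := by
    rw [← cj_mul, e, cj_mul, hDk, cj_mul]
  have h1 : cj q (cj n D) = cj n D := by
    have hnD : cj n D ≤ Q := by
      have h4 := cj_mono (g := n) hDQ
      rwa [h.cj_L_Q hn] at h4
    have hRn : R ≤ cj n D := by
      have h4 := cj_mono (g := n) hRD
      rwa [h.cj_L_R hn] at h4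
    rw [← mem_norm_iff]
    have key : ∀ p ∈ Q, ∀ x ∈ cj n D, p * x * p⁻¹ ∈ cj n D := by
      intro p hp x hx
      obtain ⟨r, hr, er⟩ := h.corr hp (hnD hx)
      rw [er]
      exact mul_mem (hRn hr) hx
    rw [Subgroup.mem_normalizer_iff]
    intro x
    constructor
    · exact key q hq x
    · intro hx
      have := key q⁻¹ (inv_mem hq) _ hx
      rwa [show q⁻¹ * (q * x * q⁻¹) * q⁻¹⁻¹ = x by group] at this
  rw [← e1, h1]

end opp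

end QIn

end Cfsg.Agent.RankTwoClose.QInput
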