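import Cfsg.Agent.RankTwoClose.QInRoot

/-!
# Quadrangles with a central parabolic: the end

`R1 = m R m⁻¹`, `R2 = n R1 n⁻¹`, `U2 = n U n⁻¹`: `K = ⟨R1, R2⟩` commutes with `m (H ∩ L) m⁻¹` and contains a
reflection; all fields of `Quad.QData`; `QIn.exists_split`.
-/

set_option autoImplicit false

universe u

namespace Cfsg.Agent.RankTwoClose.QInput

open Cfsg.Agent.Omega.RootLemma Cfsg.Agent.RankTwoClose.UFour

variable {G : Type u} [Group G]

namespace QIn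

variable {S : Sylow 2 G} {L X U Q O V R A : Subgroup G} {n₀ m₀ z₀ w : G}

section basic

variable [Finite G] (h : QIn S L X U Q O V R A n₀ m₀ z₀ w) {H : Subgroup G} {n k q m : G}
  (c : Cx L X U Q O n₀ H n k q m)
include h c

theorem R1_V : cj m R ≤ V := by
  have := cj_mono (g := m) h.RV
  rwa [h.cm_V c] at this

theorem R1_U : cj m R ≤ U := (h.R1_V c).trans h.VU

theorem R1_L : cj m R ≤ L := (h.R1_U c).trans h.aL.UL

theorem R1_Q : cj m R ⊓ Q = ⊥ := h.RQ m c.PX.nL c.PX.ne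

theorem R2_U2 : cj n (cj m R) ≤ cj n U := cj_mono (h.R1_U c)

theorem U2_L : cj n U ≤ L := by
  have := cj_mono (g := n) h.aL.UL
  rwa [cj_eq_of_mem c.PL.nL] at this

theorem R2_L : cj n (cj m R) ≤ L := (h.R2_U2 c).trans (h.U2_L c)

theorem R2_Q : cj n (cj m R) ⊓ Q = ⊥ := by
  have h1 : cj n (cj m R ⊓ Q) = cj n (cj m R) ⊓ Q := by rw [cj_inf, h.cn_Q c]
  rw [← h1, h.R1_Q c]
  exact Subgroup.map_bot _

theorem Q_U2 : Q ≤ cj n U := by
  have := cj_mono (g := n) h.QU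
  rwa [h.cn_Q c] at this

theorem U_U2 : U ⊓ cj n U ≤ Q := c.PL.inter

/-- `2`-elements normalising `U2` -/
theorem mem_U2 {x : G} (hx : x ∈ L) (hU : cj x (cj n U) = cj n U) {j : ℕ} (h2 : x ^ 2 ^ j = 1) :
    x ∈ cj n U := by
  rw [mem_cj]
  refine h.two_L (mul_mem (mul_mem (inv_mem c.PL.nL) hx) c.PL.nL) ?_ (n := j) ?_
  · rw [cj_mul, cj_mul, hU, cj_inv_cj]
  · have e : n⁻¹ * x * n = n⁻¹ * x * n⁻¹⁻¹ := by rw [inv_inv]
    rw [e, conj_pow, h2, mul_one, mul_inv_cancel]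

/-- an element of `R2` normalising `U` is trivial -/
theorem R2_one {x : G} (hx : x ∈ cj n (cj m R)) (hU : cj x U = U) : x = 1 := by
  have h2 : IsPGroup 2 (cj n U) := isPGroup_cj h.aL.two
  obtain ⟨j, hj⟩ := exists_pow_one h2 (h.R2_U2 c hx)
  have h3 := h.two_L (h.R2_L c hx) hU hj
  have h4 := h.U_U2 c (Subgroup.mem_inf.mpr ⟨h3, h.R2_U2 c hx⟩)
  have h5 : x ∈ cj n (cj m R) ⊓ Q := Subgroup.mem_inf.mpr ⟨hx, h4⟩
  rwa [h.R2_Q c, Subgroup.mem_bot] at h5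

/-- an element of `R1` normalising `U2` is trivial -/
theorem R1_one {x : G} (hx : x ∈ cj m R) (hU : cj x (cj n U) = cj n U) : x = 1 := by
  obtain ⟨j, hj⟩ := exists_pow_one h.aL.two (h.R1_U c hx)
  have h3 := h.mem_U2 c (h.R1_L c hx) hU hj
  have h4 := h.U_U2 c (Subgroup.mem_inf.mpr ⟨h.R1_U c hx, h3⟩)
  have h5 : x ∈ cj m R ⊓ Q := Subgroup.mem_inf.mpr ⟨hx, h4⟩
  rwa [h.R1_Q c, Subgroup.mem_bot] at h5

/-- The rulings, in terms of `R1`, `R2`. -/
theorem ruling1 {r : G} (hr : r ∈ cj m R) (hr1 : r ≠ 1) :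
    ∃ s ∈ cj n (cj m R), cj (r * s * r) (cj n U) = U := by
  have hkL : k ∈ L := h.aL.UL c.hk
  have hkV : k ∈ Subgroup.normalizer (V : Set G) := h.XV (h.aX.UL c.hk)
  have hrQ : r ∉ Q := fun hq => hr1 (by
    have : r ∈ cj m R ⊓ Q := Subgroup.mem_inf.mpr ⟨hr, hq⟩
    rwa [h.R1_Q c, Subgroup.mem_bot] at this)
  have hv : k⁻¹ * r * k ∈ V := conj_mem' hkV (h.R1_V c hr)
  have hvQ : k⁻¹ * r * k ∉ Q := by
    intro h1
    apply hrQ
    have := conj_mem (h.aL.LQ hkL) h1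
    rwa [show k * (k⁻¹ * r * k) * k⁻¹ = r by group] at this
  obtain ⟨y, hy, hy2⟩ := h.ruling _ hv hvQ
  -- `y' = k y k⁻¹`
  have h1 : cj k (cj n₀ V) = cj q (cj n V) := by
    have hV : cj k⁻¹ V = V := mem_norm_iff.mp (inv_mem hkV)
    calc cj k (cj n₀ V) = cj k (cj n₀ (cj k⁻¹ V)) := by rw [hV]
      _ = cj (k * n₀ * k⁻¹) V := by rw [cj_mul, cj_mul]
      _ = cj q (cj n V) := by rw [← c.e, cj_mul]
  have h2 : k * y * k⁻¹ ∈ cj q (cj n V) := by rw [← h1]; exact conj_mem_cj hy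
  rw [mem_cj, mem_cj] at h2
  have hR1Q : cj m R ≤ Subgroup.normalizer (Q : Set G) := (h.R1_L c).trans h.aL.LQ
  obtain ⟨a, ha, b, hb, e1⟩ := mem_sup_norm hR1Q (h.VR m c.PX.nL c.PX.ne h2)
  have hs : n * a * n⁻¹ ∈ cj n (cj m R) := conj_mem_cj ha
  have hx : n * b * n⁻¹ ∈ Q := conj_mem (h.aL.LQ c.PL.nL) hb
  have e2 : k * y * k⁻¹ = q * ((n * a * n⁻¹) * (n * b * n⁻¹)) * q⁻¹ := by
    calc k * y * k⁻¹ = q * n * (n⁻¹ * (q⁻¹ * (k * y * k⁻¹) * q) * n) * n⁻¹ * q⁻¹ := by group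
      _ = q * n * (a * b) * n⁻¹ * q⁻¹ := by rw [e1]
      _ = _ := by group
  have hQn : ∀ l ∈ L, ∀ x ∈ Q, l⁻¹ * x * l ∈ Q := fun l hl x hx => conj_mem' (h.aL.LQ hl) hx
  refine ⟨n * a * n⁻¹, hs, ?_⟩
  -- the correction
  set s := n * a * n⁻¹ with hs'
  set x := n * b * n⁻¹ with hx'
  have hsL := h.R2_L c hs
  have hrL := h.R1_L c hr
  have ht : (r * s * r)⁻¹ * (r * (k * y * k⁻¹) * r) ∈ Q := by
    rw [e2]
    have e3 : (r * s * r)⁻¹ * (r * (q * (s * x) * q⁻¹) * r) =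
        r⁻¹ * ((s⁻¹ * q * s) * x * q⁻¹) * r := by group
    rw [e3]
    exact hQn r hrL _ (mul_mem (mul_mem (hQn s hsL q c.hq) hx) (inv_mem c.hq))
  have h3 : cj (r * (k * y * k⁻¹) * r) (cj n U) = U := by
    rw [c.nU, ← cj_mul]
    have e4 : r * (k * y * k⁻¹) * r * k = k * ((k⁻¹ * r * k) * y * (k⁻¹ * r * k)) := by group
    rw [e4, cj_mul, hy2, cj_eq_of_mem c.hk]
  have h4 : cj ((r * s * r)⁻¹ * (r * (k * y * k⁻¹) * r)) (cj n U) = cj n U :=
    cj_eq_of_mem (h.Q_U2 c ht)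
  calc cj (r * s * r) (cj n U)
      = cj (r * s * r) (cj ((r * s * r)⁻¹ * (r * (k * y * k⁻¹) * r)) (cj n U)) := by rw [h4]
    _ = cj (r * (k * y * k⁻¹) * r) (cj n U) := by rw [← cj_mul, mul_inv_cancel_left]
    _ = U := h3

/-- The bijection `R1 → R2`. -/
theorem exists_bij : ∃ g : ↥(cj m R) → ↥(cj n (cj m R)), Function.Bijective g ∧
    ∀ r : ↥(cj m R), (r : G) ≠ 1 → cj ((r : G) * g r * r) (cj n U) = U := by
  classical
  choose f hf hf2 using fun (r : G) (hr : r ∈ cj m R) (hr1 : r ≠ 1) => h.ruling1 c hr hr1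
  let g : ↥(cj m R) → ↥(cj n (cj m R)) := fun r =>
    if hr : (r : G) = 1 then 1 else ⟨f r r.2 hr, hf r r.2 hr⟩
  have hg : ∀ r : ↥(cj m R), (r : G) ≠ 1 → cj ((r : G) * g r * r) (cj n U) = U := by
    intro r hr
    have : (g r : G) = f r r.2 hr := by simp only [g, dif_neg hr]
    rw [this]
    exact hf2 r r.2 hr
  have hg' : ∀ r : ↥(cj m R), (r : G) ≠ 1 → cj (r : G) (cj n U) = cj (g r : G)⁻¹ U := by
    intro r hr
    have h1 := hg r hr
    have h2 : cj ((r : G) * g r)⁻¹ (cj ((r : G) * g r) (cj r (cj n U))) = cj ((r : G) * g r)⁻¹ U := by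
      rw [← cj_mul ((r : G) * g r), h1]
    rw [cj_inv_cj] at h2
    rw [h2, mul_inv_rev, cj_mul, cj_eq_of_mem (inv_mem (h.R1_U c r.2))]
  have hg1 : ∀ r : ↥(cj m R), (r : G) ≠ 1 → g r ≠ 1 := by
    intro r hr h1
    have h2 := hg' r hr
    rw [h1] at h2
    apply hr
    apply h.R1_one c r.2
    exfalso
    apply c.PL.ne
    have h3 : cj (r : G) (cj n U) = U := by rw [h2]; simp
    have h4 := congrArg (cj (r : G)⁻¹) h3
    rwa [cj_inv_cj, cj_eq_of_mem (inv_mem (h.R1_U c r.2))] at h4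
  have hinj : Function.Injective g := by
    intro r r' hrr
    by_cases hr : (r : G) = 1
    · by_cases hr' : (r' : G) = 1
      · exact Subtype.ext (hr.trans hr'.symm)
      · exfalso
        apply hg1 r' hr'
        rw [← hrr]
        simp only [g, dif_pos hr]
    · by_cases hr' : (r' : G) = 1
      · exfalso
        apply hg1 r hr
        rw [hrr]
        simp only [g, dif_pos hr']
      · have h1 := hg' r hr
        rw [hrr, ← hg' r' hr'] at h1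
        have h2 : cj ((r' : G)⁻¹ * r) (cj n U) = cj n U := by
          rw [cj_mul, h1, cj_inv_cj]
        have h3 := h.R1_one c (mul_mem (inv_mem r'.2) r.2) h2
        exact Subtype.ext (inv_mul_eq_one.mp h3).symm
  refine ⟨g, ?_, hg⟩
  rw [Nat.bijective_iff_injective_and_card]
  exact ⟨hinj, (card_cj n _).symm⟩

/-- An element which normalises `U`, `U2`, `R2` and commutes with `R1` commutes with `R2`. -/
theorem comm_of {d : G} (hU : cj d U = U) (hU2 : cj d (cj n U) = cj n U)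
    (h1 : ∀ r ∈ cj m R, d * r = r * d) (h2 : ∀ s ∈ cj n (cj m R), d * s * d⁻¹ ∈ cj n (cj m R)) :
    ∀ s ∈ cj n (cj m R), d * s = s * d := by
  obtain ⟨g, hg, hg2⟩ := h.exists_bij c
  intro s hs
  by_cases hs1 : s = 1
  · rw [hs1, mul_one, one_mul]
  obtain ⟨r, hr⟩ := hg.2 ⟨s, hs⟩
  by_cases hr1 : (r : G) = 1
  · -- some `r' ≠ 1` has `g r' = 1`?  use injectivity: `g` is a bijection, so compare with `g⁻¹ 1`
    obtain ⟨r0, hr0⟩ := hg.2 1
    by_cases hr01 : (r0 : G) = 1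
    · exfalso
      apply hs1
      have e : r = r0 := Subtype.ext (hr1.trans hr01.symm)
      rw [e, hr0] at hr
      exact (congrArg Subtype.val hr).symm
    · exfalso
      have h3 := hg2 r0 hr01
      rw [hr0] at h3
      apply c.PL.ne
      have h4 : cj ((r0 : G) * (1 : ↥(cj n (cj m R))) * r0)⁻¹ (cj ((r0 : G) *
        (1 : ↥(cj n (cj m R))) * r0) (cj n U)) = cj ((r0 : G) * (1 : ↥(cj n (cj m R))) * r0)⁻¹ U := by
        rw [h3]
      rw [cj_inv_cj] at h4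
      rw [h4]
      apply cj_eq_of_mem
      apply inv_mem
      rw [Subgroup.coe_one, mul_one]
      exact mul_mem (h.R1_U c r0.2) (h.R1_U c r0.2)
  · have h3 := hg2 r hr1
    rw [hr] at h3
    have h3' : cj ((r : G) * s * r) (cj n U) = U := h3
    have h4 : cj (r : G) (cj n U) = cj s⁻¹ U := by
      have h5 : cj ((r : G) * s)⁻¹ (cj ((r : G) * s) (cj r (cj n U))) = cj ((r : G) * s)⁻¹ U := by
        rw [← cj_mul ((r : G) * s), h3']
      rw [cj_inv_cj] at h5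
      rw [h5, mul_inv_rev, cj_mul, cj_eq_of_mem (inv_mem (h.R1_U c r.2))]
    have h5 : cj d (cj s⁻¹ U) = cj s⁻¹ U := by
      rw [← h4, ← cj_mul, h1 r r.2, cj_mul, hU2]
    have hU' : cj d⁻¹ U = U := mem_norm_iff.mp (inv_mem (mem_norm_iff.mpr hU))
    have h6 : cj (s * (d * s⁻¹ * d⁻¹)) U = U := by
      rw [cj_mul, cj_mul, hU', cj_mul, h5, cj_cj_inv]
    have h7 := h.R2_one c (mul_mem hs (h2 _ (inv_mem hs))) h6
    have h8 : s * d * s⁻¹ * d⁻¹ = 1 := by rw [← h7]; group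
    have h9 : s * d = 1 * (d * s) := by rw [← h8]; group
    rw [h9, one_mul]

end basic

section fin

variable [Finite G] (h : QIn S L X U Q O V R A n₀ m₀ z₀ w) {H : Subgroup G} {n k q m u : G}
  (c : Cx L X U Q O n₀ H n k q m) (hu : u ∈ U) (uA : cj u A = H ⊓ L)
include h c hu uA

theorem H_L : H ≤ Subgroup.normalizer (L : Set G) := by
  have _ := uA
  have _ := hu
  exact c.cpl.HB.trans h.B0_norm_L

theorem H_V : H ≤ Subgroup.normalizer (V : Set G) := by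
  have _ := uA
  have _ := hu
  exact c.cpl.HB.trans h.B0_norm_V

theorem cH_U {a : G} (ha : a ∈ H) : cj a U = U := mem_norm_iff.mp (h.H_U c hu uA ha)

theorem cH_U2 {a : G} (ha : a ∈ H) : cj a (cj n U) = cj n U := by
  have h1 : n⁻¹ * a * n ∈ H := conj_mem' (mem_norm_iff.mpr c.PL.nH) ha
  have e : a * n = n * (n⁻¹ * a * n) := by group
  rw [← cj_mul, e, cj_mul, h.cH_U c hu uA h1]

theorem cH_R {a : G} (ha : a ∈ H) : cj a R = R := by
  have _ := uA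
  have _ := hu
  have h1 : cj a Q = Q := mem_norm_iff.mp (c.PL.HX ha)
  rw [← h.comm, cj_comm, h1]

theorem cH_R1 {a : G} (ha : a ∈ H) : cj a (cj m R) = cj m R := by
  have h1 : m⁻¹ * a * m ∈ H := conj_mem' (mem_norm_iff.mpr c.PX.nH) ha
  have e : a * m = m * (m⁻¹ * a * m) := by group
  rw [← cj_mul, e, cj_mul, h.cH_R c hu uA h1]

theorem cH_R2 {a : G} (ha : a ∈ H) : cj a (cj n (cj m R)) = cj n (cj m R) := by
  have h1 : n⁻¹ * a * n ∈ H := conj_mem' (mem_norm_iff.mpr c.PL.nH) ha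
  have e : a * n = n * (n⁻¹ * a * n) := by group
  rw [← cj_mul, e, cj_mul, h.cH_R1 c hu uA h1]

/-- `m (H ∩ L) m⁻¹` commutes with `R1` and `R2` -/
theorem d_R1 {a : G} (ha : a ∈ H ⊓ L) : ∀ r ∈ cj m R, (m * a * m⁻¹) * r = r * (m * a * m⁻¹) := by
  have _ := uA
  have _ := hu
  have _ := c.mm
  intro r hr
  rw [mem_cj] at hr
  have h1 := h.LR a (Subgroup.mem_inf.mp ha).2 _ hr
  calc (m * a * m⁻¹) * r = m * (a * (m⁻¹ * r * m)) * m⁻¹ := by group
    _ = m * ((m⁻¹ * r * m) * a) * m⁻¹ := by rw [h1]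
    _ = r * (m * a * m⁻¹) := by group

theorem d_R2 {a : G} (ha : a ∈ H ⊓ L) :
    ∀ s ∈ cj n (cj m R), (m * a * m⁻¹) * s = s * (m * a * m⁻¹) := by
  have h1 : m * a * m⁻¹ ∈ H :=
    conj_mem (mem_norm_iff.mpr c.PX.nH) (Subgroup.mem_inf.mp ha).1
  refine h.comm_of c (h.cH_U c hu uA h1) (h.cH_U2 c hu uA h1) (h.d_R1 c hu uA ha) fun s hs => ?_
  rw [← h.cH_R2 c hu uA h1]
  exact conj_mem_cj hs

/-- `K = ⟨R1, R2⟩` commutes with `m (H ∩ L) m⁻¹` -/
theorem d_K {a : G} (ha : a ∈ H ⊓ L) {x : G} (hx : x ∈ cj m R ⊔ cj n (cj m R)) :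
    (m * a * m⁻¹) * x = x * (m * a * m⁻¹) := by
  have h1 : cj m R ⊔ cj n (cj m R) ≤ Subgroup.centralizer {m * a * m⁻¹} := by
    refine sup_le (fun r hr => ?_) (fun s hs => ?_)
    · rw [Subgroup.mem_centralizer_singleton_iff]
      exact (h.d_R1 c hu uA ha r hr).symm
    · rw [Subgroup.mem_centralizer_singleton_iff]
      exact (h.d_R2 c hu uA ha s hs).symm
  exact (Subgroup.mem_centralizer_singleton_iff.mp (h1 hx)).symm

/-- `K ∩ U = R1` -/
theorem K_U : (cj m R ⊔ cj n (cj m R)) ⊓ U = cj m R := by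
  refine le_antisymm ?_ (le_inf le_sup_left (h.R1_U c))
  have h1 : cj m⁻¹ ((cj m R ⊔ cj n (cj m R)) ⊓ U) ≤ R := by
    refine h.syl c hu uA (isPGroup_cj (h.aL.two.to_le inf_le_right)) ?_ ?_
    · intro v hv a ha
      rw [mem_cj, inv_inv] at hv
      have h2 := h.d_K c hu uA ha (Subgroup.mem_inf.mp hv).1
      calc v * a = m⁻¹ * ((m * v * m⁻¹) * (m * a * m⁻¹)) * m := by group
        _ = m⁻¹ * ((m * a * m⁻¹) * (m * v * m⁻¹)) * m := by rw [h2]
        _ = a * v := by group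
    · have h2 := cj_mono (g := m⁻¹) (le_inf le_sup_left (h.R1_U c) :
        cj m R ≤ (cj m R ⊔ cj n (cj m R)) ⊓ U)
      rwa [cj_inv_cj] at h2
  have h2 := cj_mono (g := m) h1
  rwa [cj_cj_inv] at h2

/-- The reflection in `K`. -/
theorem exists_l : ∃ l ∈ cj m R ⊔ cj n (cj m R), cj l U = cj n U ∧ cj l (cj n U) = U := by
  have _ := uA
  have _ := hu
  obtain ⟨g, hg, hg2⟩ := h.exists_bij c
  have key : ∀ r : ↥(cj m R), (r : G) ≠ 1 → cj (r : G) (cj n U) = cj (g r : G)⁻¹ U := by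
    intro r hr
    have h1 := hg2 r hr
    have h2 : cj ((r : G) * g r)⁻¹ (cj ((r : G) * g r) (cj r (cj n U))) = cj ((r : G) * g r)⁻¹ U := by
      rw [← cj_mul ((r : G) * g r), h1]
    rw [cj_inv_cj] at h2
    rw [h2, mul_inv_rev, cj_mul, cj_eq_of_mem (inv_mem (h.R1_U c r.2))]
  -- `r ≠ 1`
  obtain ⟨z, hz, -, -, hz1, -, -⟩ := h.pair
  have hr1 : m * z * m⁻¹ ≠ 1 := by
    intro e
    apply hz1
    calc z = m⁻¹ * (m * z * m⁻¹) * m := by group
      _ = 1 := by rw [e]; group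
  let r : ↥(cj m R) := ⟨m * z * m⁻¹, conj_mem_cj hz⟩
  have hr1' : (r : G) ≠ 1 := hr1
  obtain ⟨ρ, hρ⟩ := hg.2 (g r)⁻¹
  have hρ1 : (ρ : G) ≠ 1 := by
    intro e
    -- `g` is injective and `g r' = 1` for some `r'`
    have hne : ∀ r' : ↥(cj m R), (r' : G) ≠ 1 → g r' ≠ 1 := by
      intro r' hr' h1
      have h2 := hg2 r' hr'
      rw [h1] at h2
      apply c.PL.ne
      have h4 : cj ((r' : G) * (1 : ↥(cj n (cj m R))) * r')⁻¹ (cj ((r' : G) *
        (1 : ↥(cj n (cj m R))) * r') (cj n U)) = cj ((r' : G) * (1 : ↥(cj n (cj m R))) * r')⁻¹ U := by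
        rw [h2]
      rw [cj_inv_cj] at h4
      rw [h4]
      apply cj_eq_of_mem
      apply inv_mem
      rw [Subgroup.coe_one, mul_one]
      exact mul_mem (h.R1_U c r'.2) (h.R1_U c r'.2)
    obtain ⟨r0, hr0⟩ := hg.2 1
    have hr01 : (r0 : G) = 1 := by
      by_contra hcon
      exact hne r0 hcon hr0
    have e2 : ρ = r0 := Subtype.ext (e.trans hr01.symm)
    rw [e2, hr0] at hρ
    exact hne r hr1' (by rw [← inv_inv (g r), ← hρ, inv_one])
  have h1 := key ρ hρ1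
  rw [hρ] at h1
  have h1' : cj (ρ : G) (cj n U) = cj (g r : G) U := by
    rw [h1]; congr 1; simp
  refine ⟨(ρ : G)⁻¹ * g r * r, mul_mem (mul_mem (Subgroup.mem_sup_left (inv_mem ρ.2))
    (Subgroup.mem_sup_right (g r).2)) (Subgroup.mem_sup_left r.2), ?_, ?_⟩
  · rw [cj_mul, cj_eq_of_mem (h.R1_U c r.2), cj_mul, ← h1', cj_inv_cj]
  · have h2 := hg2 r hr1'
    have h3 : cj ((g r : G) * r) (cj n U) = cj (r : G)⁻¹ U := by
      have h4 : cj (r : G)⁻¹ (cj r (cj ((g r : G) * r) (cj n U))) = cj (r : G)⁻¹ U := by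
        rw [← cj_mul (r : G), ← mul_assoc, h2]
      rwa [cj_inv_cj] at h4
    rw [mul_assoc, cj_mul, h3, cj_eq_of_mem (inv_mem (h.R1_U c r.2)),
      cj_eq_of_mem (inv_mem (h.R1_U c ρ.2))]

/-- `K ∩ U2 = R2` -/
theorem K_U2 : (cj m R ⊔ cj n (cj m R)) ⊓ cj n U = cj n (cj m R) := by
  obtain ⟨l, hl, h1, h2⟩ := h.exists_l c hu uA
  refine (Subgroup.eq_of_le_of_card_ge (le_inf le_sup_right (h.R2_U2 c)) ?_).symm
  have h3 : cj l ((cj m R ⊔ cj n (cj m R)) ⊓ U) = (cj m R ⊔ cj n (cj m R)) ⊓ cj n U := by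
    rw [cj_inf, h1, cj_eq_of_mem hl]
  rw [← h3, h.K_U c hu uA, card_cj, card_cj, card_cj, card_cj]

theorem K_L : cj m R ⊔ cj n (cj m R) ≤ L := by
  have _ := uA
  have _ := hu
  exact sup_le (h.R1_L c) (h.R2_L c)

theorem cH_K {a : G} (ha : a ∈ H) : cj a (cj m R ⊔ cj n (cj m R)) = cj m R ⊔ cj n (cj m R) := by
  rw [cj_sup, h.cH_R1 c hu uA ha, h.cH_R2 c hu uA ha]

/-- the elements of `K` normalising `U` and `U2` lie in `H` -/
theorem T_H {t : G} (ht : t ∈ cj m R ⊔ cj n (cj m R)) (h1 : cj t U = U)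
    (h2 : cj t (cj n U) = cj n U) : t ∈ H := by
  set T : Subgroup G := (cj m R ⊔ cj n (cj m R)) ⊓ (Subgroup.normalizer (U : Set G) ⊓
    Subgroup.normalizer ((cj n U : Subgroup G) : Set G)) with hT
  have hTK : T ≤ cj m R ⊔ cj n (cj m R) := inf_le_left
  have hTU : T ≤ Subgroup.normalizer (U : Set G) := inf_le_right.trans inf_le_left
  have hTU2 : T ≤ Subgroup.normalizer ((cj n U : Subgroup G) : Set G) :=
    inf_le_right.trans inf_le_right
  have htT : t ∈ T := Subgroup.mem_inf.mpr ⟨ht, Subgroup.mem_inf.mpr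
    ⟨mem_norm_iff.mpr h1, mem_norm_iff.mpr h2⟩⟩
  -- `2`-elements of `T`
  have hT2 : ∀ y ∈ T, y * y = 1 → y = 1 := by
    intro y hy hyy
    have hyL := h.K_L c hu uA (hTK hy)
    have e : y ^ 2 ^ 1 = 1 := by rw [pow_one, pow_two, hyy]
    have h3 := h.two_L hyL (mem_norm_iff.mp (hTU hy)) e
    have h4 := h.mem_U2 c hyL (mem_norm_iff.mp (hTU2 hy)) e
    have h5 : y ∈ (cj m R ⊔ cj n (cj m R)) ⊓ U := Subgroup.mem_inf.mpr ⟨hTK hy, h3⟩
    rw [h.K_U c hu uA] at h5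
    have h6 : y ∈ cj m R ⊓ Q := Subgroup.mem_inf.mpr
      ⟨h5, h.U_U2 c (Subgroup.mem_inf.mpr ⟨h3, h4⟩)⟩
    rwa [h.R1_Q c, Subgroup.mem_bot] at h6
  -- `H` normalises `T`
  have hHT : H ≤ Subgroup.normalizer (T : Set G) := by
    intro a ha
    rw [mem_norm_iff, hT, cj_inf, cj_inf, h.cH_K c hu uA ha]
    have e1 : cj a (Subgroup.normalizer (U : Set G)) = Subgroup.normalizer (U : Set G) :=
      cj_eq_of_mem (h.H_U c hu uA ha)
    have e2 : cj a (Subgroup.normalizer ((cj n U : Subgroup G) : Set G)) =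
        Subgroup.normalizer ((cj n U : Subgroup G) : Set G) :=
      cj_eq_of_mem (mem_norm_iff.mpr (h.cH_U2 c hu uA ha))
    rw [e1, e2]
  have hodd := h.Hodd c hu uA
  -- `H T` has odd order
  have hHTodd : Odd (Nat.card ↥(H ⊔ T)) := by
    by_contra hcon
    rw [Nat.not_odd_iff_even, even_iff_two_dvd] at hcon
    have : Fact (Nat.Prime 2) := ⟨Nat.prime_two⟩
    obtain ⟨⟨y, hy⟩, hyo⟩ := exists_prime_orderOf_dvd_card' 2 hcon
    rw [Subgroup.orderOf_mk] at hyo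
    have hyy : y * y = 1 := by
      have := pow_orderOf_eq_one y
      rwa [hyo, pow_two] at this
    have hy1 : y ≠ 1 := fun e => by rw [e, orderOf_one] at hyo; omega
    apply hy1
    refine hT2 y ?_ hyy
    obtain ⟨a, ha, x, hx, rfl⟩ := mem_sup_norm hHT hy
    -- `a² ∈ T`
    have h3 : a * a ∈ T := by
      have h4 : (a * a) * ((a⁻¹ * x * a) * x) = 1 := by rw [← hyy]; group
      rw [eq_inv_of_mul_eq_one_left h4]
      exact inv_mem (mul_mem (conj_mem' (hHT ha) hx) hx)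
    have h5 : a ∈ T := by
      obtain ⟨j, hj⟩ := hodd
      have h6 : a ^ Nat.card H = 1 := by
        have := pow_card_eq_one' (x := (⟨a, ha⟩ : H))
        exact congrArg Subtype.val this
      have h7 : a = ((a * a) ^ j)⁻¹ := by
        rw [hj, pow_succ, pow_mul, pow_two] at h6
        exact eq_inv_of_mul_eq_one_right h6
      rw [h7]
      exact inv_mem (pow_mem h3 j)
    exact mul_mem h5 hx
  have hB : H ⊔ T ≤ B0 L X U := by
    refine sup_le c.cpl.HB fun y hy => Subgroup.mem_sup_left (Subgroup.mem_inf.mpr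
      ⟨h.K_L c hu uA (hTK hy), hTU hy⟩)
  exact h.nt.le_of_le c.cpl hB le_sup_left hHTodd (Subgroup.mem_sup_right htT)

/-- `refl` -/
theorem refl : ∃ l ∈ cj m R ⊔ cj n (cj m R), n⁻¹ * l ∈ H := by
  obtain ⟨l, hl, h1, h2⟩ := h.exists_l c hu uA
  refine ⟨l, hl, ?_⟩
  have hl1 : cj l⁻¹ U = cj n U := by
    have := congrArg (cj l⁻¹) h2
    rw [cj_inv_cj] at this
    exact this.symm
  have hl2 : cj l⁻¹ (cj n U) = U := by rw [← h1, cj_inv_cj]
  have hlL := h.K_L c hu uA hl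
  -- `l` normalises `H`
  have hlH : ∀ a ∈ H, l * a * l⁻¹ ∈ H := by
    intro a ha
    have hK : a * l⁻¹ * a⁻¹ ∈ cj m R ⊔ cj n (cj m R) := by
      have h3 : a * l⁻¹ * a⁻¹ ∈ cj a (cj m R ⊔ cj n (cj m R)) := conj_mem_cj (inv_mem hl)
      rwa [h.cH_K c hu uA ha] at h3
    have hai := h.cH_U c hu uA (inv_mem ha)
    have hai2 := h.cH_U2 c hu uA (inv_mem ha)
    have h3 : l * (a * l⁻¹ * a⁻¹) ∈ H := by
      refine h.T_H c hu uA (mul_mem hl hK) ?_ ?_
      · rw [cj_mul, cj_mul, hai, cj_mul, hl1, h.cH_U2 c hu uA ha, h2]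
      · rw [cj_mul, cj_mul, hai2, cj_mul, hl2, h.cH_U c hu uA ha, h1]
    have e : l * a * l⁻¹ = l * (a * l⁻¹ * a⁻¹) * a := by group
    rw [e]
    exact mul_mem h3 ha
  have hlN : l ∈ Subgroup.normalizer (H : Set G) := Central.mem_norm_of hlH
  have hnN : n ∈ Subgroup.normalizer (H : Set G) := mem_norm_iff.mpr c.PL.nH
  have hn1 : cj n⁻¹ (cj n U) = U := cj_inv_cj _ _
  have hn2 : cj n⁻¹ U = cj n U := by
    have := congrArg (cj n⁻¹) c.nn
    rw [cj_inv_cj] at this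
    exact this.symm
  have h3 : n⁻¹ * l ∈ Q ⊔ (H ⊓ L) := by
    refine c.bor _ (mul_mem (inv_mem c.PL.nL) hlL) ?_ ?_
    · rw [cj_mul, h1, hn1]
    · rw [cj_mul, h2, hn2]
  have hHQ : H ⊓ L ≤ Subgroup.normalizer (Q : Set G) := inf_le_left.trans c.PL.HX
  rw [sup_comm] at h3
  obtain ⟨a, ha, x, hx, e⟩ := mem_sup_norm hHQ h3
  have haH := (Subgroup.mem_inf.mp ha).1
  have hxN : x ∈ Subgroup.normalizer (H : Set G) := by
    have : x = a⁻¹ * (n⁻¹ * l) := by rw [e]; group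
    rw [this]
    exact mul_mem (inv_mem (Subgroup.le_normalizer haH)) (mul_mem (inv_mem hnN) hlN)
  have hQ2 : IsPGroup 2 Q := h.aL.two.to_le h.QU
  have hxc : ∀ b ∈ H, b * x = x * b := by
    intro b hb
    have h4 : x * b * x⁻¹ * b⁻¹ ∈ H := mul_mem (conj_mem hxN hb) (inv_mem hb)
    have h5 : x * b * x⁻¹ * b⁻¹ ∈ Q := by
      have e2 : x * b * x⁻¹ * b⁻¹ = x * (b * x⁻¹ * b⁻¹) := by group
      rw [e2]
      exact mul_mem hx (conj_mem (c.PL.HX hb) (inv_mem hx))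
    have h6 := eq_one_of_odd_two (h.Hodd c hu uA) hQ2 h4 h5
    have h7 : x * b = 1 * (b * x) := by rw [← h6]; group
    rw [h7, one_mul]
  have hxR : x ∈ R := (h.cr c hu uA).cent x (h.US (h.QU hx)) fun b hb =>
    hxc b (Subgroup.mem_inf.mp hb).1
  have hx1 : x = 1 := by
    refine h.fixR x hxR fun g hg hgU => ?_
    obtain ⟨v, hv, b, hb, rfl⟩ := h.nt.exists_mul c.cpl (b := g)
      (Subgroup.mem_sup_right (Subgroup.mem_inf.mpr ⟨hg, mem_norm_iff.mpr hgU⟩))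
    rw [mul_assoc, hxc b hb, ← mul_assoc, h.LR v (h.aL.UL hv) x hxR, mul_assoc]
  rw [e, hx1, mul_one]
  exact haH

end fin

section assembly

variable [Finite G] (h : QIn S L X U Q O V R A n₀ m₀ z₀ w)
include h

/-- **All the fields of `Quad.QData`.** -/
theorem exists_qdata : ∃ H A' n m w', H ≤ B0 L X U ∧
    Quad.QData S L X U Q O R (V ⊓ Q) (Q ⊓ Subgroup.centralizer (V : Set G)) H A' n m z₀ w' := by
  obtain ⟨H, n, k, q, m, u, c, hu, uA⟩ := h.exists_cx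
  refine ⟨H, H ⊓ L, n, m, u * w * u⁻¹, c.cpl.HB, ?_⟩
  have hUV : U ≤ Subgroup.normalizer (V : Set G) := h.aX.UL.trans h.XV
  refine
    { two := ⟨h.aL.two, h.Hodd c hu uA, h.H_U c hu uA, c.PL, c.PX, ?_⟩
      cr := h.cr c hu uA
      n1A := ?_
      n2A := ?_
      EU := h.R1_U c
      EQ1 := ?_
      comm := ?_
      refl := h.refl c hu uA
      pair := h.pair
      YQ1 := inf_le_right
      YQ2 := ?_
      DQ1 := inf_le_left
      DQ2 := h.D_O c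
      YB := ?_
      DB := ?_
      X4 := h.X4 c
      X1 := h.X1 c }
  · -- `n ∉ X H`
    intro hn
    have h1 : X ⊔ H ≤ Subgroup.normalizer (V : Set G) := sup_le h.XV (h.H_V c hu uA)
    have h2 : cj n V = V := mem_norm_iff.mp (h1 hn)
    obtain ⟨z, hz, -, -, hz1, -, -⟩ := h.pair
    apply hz1
    have h3 : n * (m * z * m⁻¹) * n⁻¹ ∈ cj n (cj m R) := conj_mem_cj (conj_mem_cj hz)
    have h4 : n * (m * z * m⁻¹) * n⁻¹ ∈ V := by
      rw [← h2]; exact conj_mem_cj (h.R1_V c (conj_mem_cj hz))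
    have h5 := h.R2_one c h3 (cj_eq_of_mem (h.VU h4))
    calc z = m⁻¹ * (n⁻¹ * (n * (m * z * m⁻¹) * n⁻¹) * n) * m := by group
      _ = 1 := by rw [h5]; group
  · intro a ha
    obtain ⟨h1, h2⟩ := Subgroup.mem_inf.mp ha
    exact Subgroup.mem_inf.mpr ⟨conj_mem' (mem_norm_iff.mpr c.PL.nH) h1,
      mul_mem (mul_mem (inv_mem c.PL.nL) h2) c.PL.nL⟩
  · intro a ha
    obtain ⟨h1, h2⟩ := Subgroup.mem_inf.mp ha
    have h3 : cj (m * m) L = L := h.XL _ (mul_mem c.PX.nL c.PX.nL) (by rw [cj_mul, c.mm])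
    have h4 : m * m ∈ Subgroup.normalizer (H : Set G) :=
      mul_mem (mem_norm_iff.mpr c.PX.nH) (mem_norm_iff.mpr c.PX.nH)
    exact Subgroup.mem_inf.mpr ⟨conj_mem' h4 h1, conj_mem' (mem_norm_iff.mpr h3) h2⟩
  · intro hle
    apply h.z₀1
    have h1 : m * z₀ * m⁻¹ ∈ cj m R ⊓ Q :=
      Subgroup.mem_inf.mpr ⟨conj_mem_cj h.z₀R, hle (conj_mem_cj h.z₀R)⟩
    rw [h.R1_Q c, Subgroup.mem_bot] at h1
    calc z₀ = m⁻¹ * (m * z₀ * m⁻¹) * m := by group
      _ = 1 := by rw [h1]; group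
  · intro a ha z hz
    exact (h.d_R2 c hu uA ha _ (conj_mem_cj (conj_mem_cj hz))).symm
  · intro x hx
    obtain ⟨h1, -⟩ := Subgroup.mem_inf.mp hx
    refine c.PX.inter (Subgroup.mem_inf.mpr ⟨h.VU h1, ?_⟩)
    rw [mem_cj]
    exact h.VU (conj_mem' (h.XV c.PX.nL) h1)
  · refine sup_le h.U_E fun a ha => norm_inf (h.H_V c hu uA ha) (c.PL.HX ha)
  · refine sup_le (h.U_D c) fun a ha => norm_inf (c.PL.HX ha)
      (h.centralizer_norm c (h.H_V c hu uA ha))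

/-- **The closing theorem.** `⟨L, X⟩` has a split `BN`-pair of rank two. -/
theorem exists_split (hB : Bender.{u}) : ∃ P : Cfsg.BNPair ↥(L ⊔ X), P.rank = 2 ∧ P.IsSplit := by
  obtain ⟨H, A', n, m, w', hHB, d⟩ := h.exists_qdata
  have hH : H ≤ L ⊔ X := hHB.trans (sup_le_sup inf_le_left inf_le_left)
  have hX : (L ⊔ H) ⊔ (X ⊔ H) = L ⊔ X := by
    refine le_antisymm (sup_le (sup_le le_sup_left hH) (sup_le le_sup_right hH)) ?_
    exact sup_le_sup le_sup_left le_sup_left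
  obtain ⟨P, h1, h2, -⟩ := d.exists_split hB hX
  exact ⟨P, h1, h2⟩

end assembly

end QIn

end Cfsg.Agent.RankTwoClose.QInput
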