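import Cfsg.Agent.RankTwoClose.QIn

/-!
# Quadrangles with a central parabolic: the supplements `X4`, `X1`
-/

set_option autoImplicit false

universe u

namespace Cfsg.Agent.RankTwoClose.QInput

open Cfsg.Agent.Omega.RootLemma Cfsg.Agent.RankTwoClose.UFour

variable {G : Type u} [Group G]

theorem le_sup_of_card [Finite G] {F K U : Subgroup G} (hF : F ≤ U) (hK : K ≤ U) (hd : F ⊓ K = ⊥)
    (hc : K.relIndex U ≤ Nat.card F) : U ≤ F ⊔ K := by
  have h1 : Nat.card K * K.relIndex U = Nat.card U := by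
    have := Subgroup.relIndex_mul_relIndex ⊥ K U bot_le hK
    rwa [Subgroup.relIndex_bot_left, Subgroup.relIndex_bot_left] at this
  have h2 : Nat.card F * Nat.card K ≤ Nat.card ↥(F ⊔ K) := by
    rw [← Nat.card_prod]
    refine Nat.card_le_card_of_injective
      (fun x : F × K => (⟨(x.1 : G) * x.2, mul_mem (Subgroup.mem_sup_left x.1.2)
        (Subgroup.mem_sup_right x.2.2)⟩ : ↥(F ⊔ K))) ?_
    rintro ⟨a, b⟩ ⟨c, d⟩ hab
    have e : (a : G) * b = c * d := congrArg Subtype.val hab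
    have e2 : (c : G)⁻¹ * a = d * (b : G)⁻¹ := by
      calc (c : G)⁻¹ * a = (c : G)⁻¹ * (a * b) * (b : G)⁻¹ := by group
        _ = d * (b : G)⁻¹ := by rw [e]; group
    have e3 : (c : G)⁻¹ * a ∈ F ⊓ K := Subgroup.mem_inf.mpr
      ⟨mul_mem (inv_mem c.2) a.2, by rw [e2]; exact mul_mem d.2 (inv_mem b.2)⟩
    rw [hd, Subgroup.mem_bot] at e3
    have e4 : (a : G) = c := (inv_mul_eq_one.mp e3).symm
    have e5 : (b : G) = d := by rw [e4] at e; exact mul_left_cancel e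
    exact Prod.ext (Subtype.ext e4) (Subtype.ext e5)
  have h3 : Nat.card U ≤ Nat.card ↥(F ⊔ K) := by
    rw [← h1, mul_comm]
    exact (Nat.mul_le_mul_right _ hc).trans h2
  exact (Subgroup.eq_of_le_of_card_ge (sup_le hF hK) h3).ge

/-- The Borel subgroup. -/
abbrev B0 (L X U : Subgroup G) : Subgroup G :=
  (L ⊓ Subgroup.normalizer (U : Set G)) ⊔ (X ⊓ Subgroup.normalizer (U : Set G))

/-- The torus and the reflections. -/
structure Cx (L X U Q O : Subgroup G) (n₀ : G) (H : Subgroup G) (n k q m : G) : Prop where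
  cpl : Cfsg.Agent.Omega.Hex.Cpl U (B0 L X U) H
  PL : Quad.Pan L U Q H n
  PX : Quad.Pan X U O H m
  nn : cj n (cj n U) = U
  mm : cj m (cj m U) = U
  hk : k ∈ U
  hq : q ∈ Q
  e : q * n = k * n₀ * k⁻¹
  nU : cj n U = cj k (cj n₀ U)
  bor : ∀ t ∈ L, cj t U = U → cj t (cj n U) = cj n U → t ∈ Q ⊔ (H ⊓ L)

namespace QIn

variable {S : Sylow 2 G} {L X U Q O V R A : Subgroup G} {n₀ m₀ z₀ w : G}
  (h : QIn S L X U Q O V R A n₀ m₀ z₀ w) {H : Subgroup G} {n k q m : G}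
  (c : Cx L X U Q O n₀ H n k q m)
include h c

theorem cn_R : cj n R = R := h.cj_L_R c.PL.nL

theorem cn_Q : cj n Q = Q := h.cj_L_Q c.PL.nL

theorem cm_V : cj m V = V := mem_norm_iff.mp (h.XV c.PX.nL)

theorem cm_inv_ne : cj m⁻¹ U ≠ U := by
  intro h1
  apply c.PX.ne
  have := congrArg (cj m) h1
  rwa [cj_cj_inv, eq_comm] at this

theorem X_norm_V {x : G} (hx : x ∈ X) : cj x V = V := mem_norm_iff.mp (h.XV hx)

/-- `X4` -/
theorem X4 [Finite G] : U ≤ cj n ((V ⊓ Q) ⊓ cj m (V ⊓ Q)) ⊔ O := by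
  have hF : cj n ((V ⊓ Q) ⊓ cj m (V ⊓ Q)) ≤ Q := by
    refine le_trans (cj_mono (inf_le_left.trans inf_le_right)) ?_
    rw [h.cn_Q c]
  refine le_sup_of_card (hF.trans h.QU) h.OU ?_ ?_
  · rw [eq_bot_iff]
    intro x hx
    obtain ⟨hx1, hx2⟩ := Subgroup.mem_inf.mp hx
    rw [cj_inf] at hx1
    obtain ⟨hx3, hx4⟩ := Subgroup.mem_inf.mp hx1
    have hxR : x ∈ R := h.opp_n' c.PL.nL c.hk c.hq c.e hx3 fun y hy =>
      (h.OV x hx2 y (Subgroup.mem_inf.mp hy).1).symm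
    -- `x ∈ cj m Q`
    have h1 : x ∈ cj m (V ⊓ Q) := by
      rw [mem_cj] at hx4
      have : n⁻¹ * x * n = x := by
        rw [mul_assoc, ← h.LR n c.PL.nL x hxR]; group
      rwa [this] at hx4
    rw [mem_cj] at h1
    have h2 : m⁻¹ * x * m ∈ cj m⁻¹ R ⊓ Q := Subgroup.mem_inf.mpr
      ⟨by rw [mem_cj, inv_inv]; rwa [show m * (m⁻¹ * x * m) * m⁻¹ = x by group],
        (Subgroup.mem_inf.mp h1).2⟩
    rw [h.RQ m⁻¹ (inv_mem c.PX.nL) (h.cm_inv_ne c), Subgroup.mem_bot] at h2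
    rw [Subgroup.mem_bot]
    calc x = m * (m⁻¹ * x * m) * m⁻¹ := by group
      _ = 1 := by rw [h2]; group
  · rw [card_cj]
    exact h.cE m c.PX.nL c.PX.ne

theorem D_ge : R ≤ Q ⊓ Subgroup.centralizer (V : Set G) := fun r hr =>
  Subgroup.mem_inf.mpr ⟨h.RQ' hr, Subgroup.mem_centralizer_iff.mpr fun _ hv => h.R_V hr hv⟩

theorem centralizer_norm {g : G} (hg : g ∈ Subgroup.normalizer (V : Set G)) :
    g ∈ Subgroup.normalizer ((Subgroup.centralizer (V : Set G) : Subgroup G) : Set G) := by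
  have _ := c.mm
  have _ := h.RV
  have key : ∀ g ∈ Subgroup.normalizer (V : Set G), ∀ x ∈ Subgroup.centralizer (V : Set G),
      g * x * g⁻¹ ∈ Subgroup.centralizer (V : Set G) := by
    intro g hg x hx
    rw [Subgroup.mem_centralizer_iff] at hx ⊢
    intro v hv
    have h1 := hx _ (conj_mem' hg hv)
    calc v * (g * x * g⁻¹) = g * ((g⁻¹ * v * g) * x) * g⁻¹ := by group
      _ = g * (x * (g⁻¹ * v * g)) * g⁻¹ := by rw [h1]
      _ = g * x * g⁻¹ * v := by group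
  rw [Subgroup.mem_normalizer_iff]
  intro x
  constructor
  · exact key g hg x
  · intro hx
    have := key _ (inv_mem hg) _ hx
    rwa [show g⁻¹ * (g * x * g⁻¹) * g⁻¹⁻¹ = x by group] at this

theorem U_D : U ≤ Subgroup.normalizer ((Q ⊓ Subgroup.centralizer (V : Set G) : Subgroup G) : Set G) :=
  fun _ hu => norm_inf (h.aL.LQ (h.aL.UL hu)) (h.centralizer_norm c (h.XV (h.aX.UL hu)))

theorem D_O : Q ⊓ Subgroup.centralizer (V : Set G) ≤ O := by
  have _ := c.mm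
  intro d hd
  obtain ⟨h1, h2⟩ := Subgroup.mem_inf.mp hd
  exact h.CO d (h.QU h1) fun v hv => (Subgroup.mem_centralizer_iff.mp h2 v hv).symm

/-- `X1` -/
theorem X1 [Finite G] : U ≤ cj m ((Q ⊓ Subgroup.centralizer (V : Set G)) ⊓
    cj n (Q ⊓ Subgroup.centralizer (V : Set G))) ⊔ Q := by
  have hF : cj m ((Q ⊓ Subgroup.centralizer (V : Set G)) ⊓
      cj n (Q ⊓ Subgroup.centralizer (V : Set G))) ≤ O := by
    refine le_trans (cj_mono (inf_le_left.trans (h.D_O c))) ?_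
    rw [mem_norm_iff.mp (c.PX.norm c.PX.nL)]
  refine le_sup_of_card (hF.trans h.OU) h.QU ?_ ?_
  · rw [eq_bot_iff]
    intro x hx
    obtain ⟨hx1, hx2⟩ := Subgroup.mem_inf.mp hx
    rw [mem_cj] at hx1
    obtain ⟨hx3, hx4⟩ := Subgroup.mem_inf.mp hx1
    -- `x ∈ V`
    have hxV : x ∈ V := h.QQ m c.PX.nL c.PX.ne (Subgroup.mem_inf.mpr
      ⟨hx2, by rw [mem_cj]; exact (Subgroup.mem_inf.mp hx3).1⟩)
    have hyV : m⁻¹ * x * m ∈ V := conj_mem' (h.XV c.PX.nL) hxV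
    have hyR : m⁻¹ * x * m ∈ R := by
      refine h.opp_n c.PL.nL c.hk c.hq c.e (Subgroup.mem_inf.mpr
        ⟨hyV, (Subgroup.mem_inf.mp hx3).1⟩) fun y hy => ?_
      rw [mem_cj] at hx4 hy
      have h1 := Subgroup.mem_centralizer_iff.mp (Subgroup.mem_inf.mp hx4).2 _
        (Subgroup.mem_inf.mp hy).1
      calc m⁻¹ * x * m * y = n * ((n⁻¹ * (m⁻¹ * x * m) * n) * (n⁻¹ * y * n)) * n⁻¹ := by group
        _ = n * ((n⁻¹ * y * n) * (n⁻¹ * (m⁻¹ * x * m) * n)) * n⁻¹ := by rw [h1]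
        _ = y * (m⁻¹ * x * m) := by group
    have h2 : x ∈ cj m R ⊓ Q := Subgroup.mem_inf.mpr ⟨mem_cj.mpr hyR, hx2⟩
    rwa [h.RQ m c.PX.nL c.PX.ne] at h2
  · rw [card_cj, h.cj_n c.PL.nL c.hk c.hq c.e (h.D_ge c) inf_le_left (h.U_D c)]
    have h2 : ∀ D D' : Subgroup G, cj k D = D → Nat.card ↥(D ⊓ cj k D') = Nat.card ↥(D ⊓ D') := by
      intro D D' hD
      rw [← card_cj k (D ⊓ D'), cj_inf, hD]
    rw [h2 _ _ (mem_norm_iff.mp (h.U_D c c.hk))]
    exact h.cD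

end QIn

end Cfsg.Agent.RankTwoClose.QInput
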