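import Cfsg.Agent.RankTwoClose.QInPath

/-!
# Quadrangles with a central parabolic: the torus, the central root group
-/

set_option autoImplicit false

universe u

namespace Cfsg.Agent.RankTwoClose.QInput

open Cfsg.Agent.Omega.RootLemma Cfsg.Agent.RankTwoClose.UFour

variable {G : Type u} [Group G]

theorem exists_pow_one {P : Subgroup G} (hP : IsPGroup 2 P) {x : G} (hx : x ∈ P) :
    ∃ j, x ^ 2 ^ j = 1 := by
  obtain ⟨j, hj⟩ := hP ⟨x, hx⟩
  exact ⟨j, congrArg Subtype.val hj⟩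

namespace QIn

variable {S : Sylow 2 G} {L X U Q O V R A : Subgroup G} {n₀ m₀ z₀ w : G}

section B0

variable [Finite G] (h : QIn S L X U Q O V R A n₀ m₀ z₀ w)
include h

theorem nt : Cfsg.Agent.Omega.Hex.NT U (B0 L X U) := by
  have hUB : U ≤ B0 L X U := fun x hx =>
    Subgroup.mem_sup_left (Subgroup.mem_inf.mpr ⟨h.aL.UL hx, Subgroup.le_normalizer hx⟩)
  have hn : B0 L X U ≤ Subgroup.normalizer (U : Set G) := sup_le inf_le_right inf_le_right
  refine ⟨hUB, hn, h.aL.two, ?_⟩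
  by_contra hodd
  rw [Nat.not_odd_iff_even, even_iff_two_dvd] at hodd
  have hN : (U.subgroupOf (B0 L X U)).Normal := Subgroup.normal_subgroupOf_of_le_normalizer hn
  have h2 : 2 ∣ Nat.card (↥(B0 L X U) ⧸ U.subgroupOf (B0 L X U)) := hodd
  have : Fact (Nat.Prime 2) := ⟨Nat.prime_two⟩
  obtain ⟨t, ht⟩ := exists_prime_orderOf_dvd_card' 2 h2
  obtain ⟨b, rfl⟩ := QuotientGroup.mk_surjective t
  have hb2 : (b : G) ^ 2 ∈ U := by
    have h3 : (QuotientGroup.mk (b ^ 2) : ↥(B0 L X U) ⧸ U.subgroupOf (B0 L X U)) = 1 := by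
      rw [QuotientGroup.mk_pow, ← ht, pow_orderOf_eq_one]
    rw [QuotientGroup.eq_one_iff, Subgroup.mem_subgroupOf] at h3
    exact h3
  have hbU : (b : G) ∉ U := by
    intro hb
    have h3 : (QuotientGroup.mk b : ↥(B0 L X U) ⧸ U.subgroupOf (B0 L X U)) = 1 := by
      rw [QuotientGroup.eq_one_iff, Subgroup.mem_subgroupOf]
      exact hb
    rw [h3, orderOf_one] at ht
    omega
  obtain ⟨j, hj⟩ := exists_pow_one h.aL.two hb2
  apply hbU
  refine h.two_B0 b.2 (n := j + 1) ?_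
  rw [pow_succ', pow_mul]
  exact hj

/-- **The torus and the reflections exist.** -/
theorem exists_cx : ∃ H n k q m u, Cx L X U Q O n₀ H n k q m ∧ u ∈ U ∧ cj u A = H ⊓ L := by
  have t := h.nt
  obtain ⟨H, hH⟩ := t.exists_cpl
  have hodd : Odd (Nat.card H) := t.odd_cpl hH
  have hHU : H ≤ Subgroup.normalizer (U : Set G) := hH.HB.trans t.nU
  have hBUH : ∀ b ∈ B0 L X U, b ∈ U ⊔ H := by
    intro b hb
    obtain ⟨u, hu, x, hx, rfl⟩ := t.exists_mul hH hb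
    exact mul_mem (Subgroup.mem_sup_left hu) (Subgroup.mem_sup_right hx)
  have hbL : ∀ g ∈ L, cj g U = U → g ∈ U ⊔ H := fun g hg hgU =>
    hBUH g (Subgroup.mem_sup_left (Subgroup.mem_inf.mpr ⟨hg, mem_norm_iff.mpr hgU⟩))
  have hbX : ∀ g ∈ X, cj g U = U → g ∈ U ⊔ H := fun g hg hgU =>
    hBUH g (Subgroup.mem_sup_right (Subgroup.mem_inf.mpr ⟨hg, mem_norm_iff.mpr hgU⟩))
  obtain ⟨k, hk, n, -, PL, nU, nn, ⟨q, hq, e⟩, bor⟩ :=
    PanOf.exists_pan h.aL hodd (hH.HB.trans h.B0_norm_L) hHU hbL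
  obtain ⟨-, -, m, -, PX, -, mm, -, -⟩ :=
    PanOf.exists_pan h.aX hodd (hH.HB.trans h.B0_norm_X) hHU hbX
  have hAB : A ≤ B0 L X U := fun a ha =>
    Subgroup.mem_sup_left (Subgroup.mem_inf.mpr ⟨h.AL ha, h.AU ha⟩)
  obtain ⟨u, hu, huA⟩ := t.conj_le hH hAB h.Aodd
  have huA' : cj u A ≤ H := huA
  refine ⟨H, n, k, q, m, u, ⟨hH, PL, PX, nn, mm, hk, hq, e, nU, bor⟩, hu, ?_⟩
  have huAL : cj u A ≤ L := by
    refine (cj_mono h.AL).trans ?_
    rw [cj_eq_of_mem (h.aL.UL hu)]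
  refine le_antisymm (le_inf huA' huAL) fun x hx => ?_
  obtain ⟨hxH, hxL⟩ := Subgroup.mem_inf.mp hx
  have hx1 : u⁻¹ * x * u ∈ U ⊔ A := by
    refine h.AB _ (mul_mem (mul_mem (inv_mem (h.aL.UL hu)) hxL) (h.aL.UL hu)) ?_
    rw [cj_mul, cj_mul, cj_eq_of_mem hu, mem_norm_iff.mp (hHU hxH), cj_eq_of_mem (inv_mem hu)]
  rw [sup_comm] at hx1
  obtain ⟨a, ha, v, hv, e2⟩ := mem_sup_norm h.AU hx1
  have e3 : x = (u * a * u⁻¹) * (u * v * u⁻¹) := by
    calc x = u * (u⁻¹ * x * u) * u⁻¹ := by group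
      _ = (u * a * u⁻¹) * (u * v * u⁻¹) := by rw [e2]; group
  have ha' : u * a * u⁻¹ ∈ cj u A := conj_mem_cj ha
  have h1 : u * v * u⁻¹ ∈ H := by
    have : u * v * u⁻¹ = (u * a * u⁻¹)⁻¹ * x := by rw [e3]; group
    rw [this]
    exact mul_mem (inv_mem (huA' ha')) hxH
  have h2 : u * v * u⁻¹ = 1 :=
    eq_one_of_odd_two hodd h.aL.two h1 (mul_mem (mul_mem hu hv) (inv_mem hu))
  rw [e3, h2, mul_one]
  exact ha'

end B0

section root

variable [Finite G] (h : QIn S L X U Q O V R A n₀ m₀ z₀ w) {H : Subgroup G} {n k q m u : G}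
  (c : Cx L X U Q O n₀ H n k q m) (hu : u ∈ U) (uA : cj u A = H ⊓ L)
include h c hu uA

theorem Hodd : Odd (Nat.card H) := by
  have _ := uA
  have _ := hu
  exact h.nt.odd_cpl c.cpl

theorem H_U : H ≤ Subgroup.normalizer (U : Set G) := by
  have _ := uA
  have _ := hu
  exact c.cpl.HB.trans h.nt.nU

theorem Qmax {N : Subgroup G} (hN : N ≤ L) (h2 : IsPGroup 2 N)
    (hn : ∀ l ∈ L, ∀ x ∈ N, l * x * l⁻¹ ∈ N) : N ≤ Q := by
  have _ := uA
  have _ := hu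
  have hUN : U ≤ Subgroup.normalizer (N : Set G) := fun x hx =>
    Central.mem_norm_of fun y hy => hn x (h.aL.UL hx) y hy
  have h1 : IsPGroup 2 ((U ⊔ N : Subgroup G)) := IsPGroup.to_sup_of_normal_right' h.aL.two h2 hUN
  have h3 : N ≤ U := le_sup_right.trans (h.sL _ (sup_le h.aL.UL hN) h1 le_sup_left)
  intro x hx
  refine c.PL.inter (Subgroup.mem_inf.mpr ⟨h3 hx, ?_⟩)
  rw [mem_cj]
  refine h3 ?_
  have := hn n⁻¹ (inv_mem c.PL.nL) x hx
  rwa [inv_inv] at this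

/-- **The central root group.** -/
theorem cr : Central.CRoot S L Q R (H ⊓ L) z₀ (u * w * u⁻¹) := by
  have huL : u ∈ L := h.aL.UL hu
  have hA : ∀ a ∈ H ⊓ L, ∃ b ∈ A, a = u * b * u⁻¹ := by
    intro a ha
    rw [← uA, mem_cj] at ha
    exact ⟨_, ha, by group⟩
  refine
    { SL := h.SL
      QL := h.QU.trans h.aL.UL
      Q2 := h.aL.two.to_le h.QU
      Qn := fun l hl x hx => conj_mem (h.aL.LQ hl) hx
      Qmax := fun N hN h2 hn => h.Qmax c hu uA hN h2 hn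
      ZL := h.LR
      comm := h.comm
      sq := h.sq
      irr := h.irr
      z₀Z := h.z₀R
      z₀1 := h.z₀1
      z₀S := h.z₀S
      c2 := h.c2
      tr := h.tr
      Aab := ?_
      Aodd := ?_
      AZ := fun a ha z hz => h.LR a (Subgroup.mem_inf.mp ha).2 z hz
      AQ := fun a ha x hx => conj_mem (h.aL.LQ (Subgroup.mem_inf.mp ha).2) hx
      AL := fun a ha x hx => mul_mem (mul_mem (Subgroup.mem_inf.mp ha).2 hx)
        (inv_mem (Subgroup.mem_inf.mp ha).2)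
      AS := ?_
      cent := ?_
      wQ := conj_mem (h.aL.LQ huL) h.wQ
      cyc := ?_ }
  · intro a ha b hb
    obtain ⟨a', ha', rfl⟩ := hA a ha
    obtain ⟨b', hb', rfl⟩ := hA b hb
    calc u * a' * u⁻¹ * (u * b' * u⁻¹) = u * (a' * b') * u⁻¹ := by group
      _ = u * (b' * a') * u⁻¹ := by rw [h.Aab a' ha' b' hb']
      _ = _ := by group
  · rw [← uA, card_cj]; exact h.Aodd
  · intro a ha s hs
    have haL := (Subgroup.mem_inf.mp ha).2
    have e : a * s * a⁻¹ * s⁻¹ = a * (s * a⁻¹ * s⁻¹) := by group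
    rw [e]
    exact mul_mem haL (h.SL s hs _ (inv_mem haL))
  · intro s hs hc
    have huS : u ∈ S := h.US hu
    have h1 : u⁻¹ * s * u ∈ R := by
      refine h.cent _ (mul_mem (mul_mem (inv_mem huS) hs) huS) fun a ha => ?_
      have h2 := hc (u * a * u⁻¹) (by rw [← uA]; exact conj_mem_cj ha)
      calc a * (u⁻¹ * s * u) = u⁻¹ * ((u * a * u⁻¹) * s) * u := by group
        _ = u⁻¹ * (s * (u * a * u⁻¹)) * u := by rw [h2]
        _ = u⁻¹ * s * u * a := by group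
    rw [← h.cj_L_R (inv_mem huL), mem_cj, inv_inv] at h1
    rwa [show u * (u⁻¹ * s * u) * u⁻¹ = s by group] at h1
  · have h1 := cj_mono (g := u) h.cyc
    rw [h.cj_L_Q huL, cj_sup, h.cj_L_R huL] at h1
    refine h1.trans (sup_le_sup_right ?_ _)
    rw [cj, MonoidHom.map_closure, Subgroup.closure_le]
    rintro _ ⟨_, ⟨a, ha, rfl⟩, rfl⟩
    refine Subgroup.subset_closure ⟨u * a * u⁻¹, by rw [← uA]; exact conj_mem_cj ha, ?_⟩
    show u * (a * w * a⁻¹) * u⁻¹ = _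
    group

/-- `R` is a Sylow `2`-subgroup of `C_G(H ∩ L)`. -/
theorem syl {P : Subgroup G} (hP : IsPGroup 2 P) (hPA : ∀ v ∈ P, ∀ a ∈ H ⊓ L, v * a = a * v)
    (hRP : R ≤ P) : P ≤ R := by
  have cr := h.cr c hu uA
  have hP' : Nontrivial P :=
    ⟨⟨⟨z₀, hRP h.z₀R⟩, 1, fun e => h.z₀1 (congrArg Subtype.val e)⟩⟩
  have : Fact (Nat.Prime 2) := ⟨Nat.prime_two⟩
  haveI := hP.center_nontrivial
  obtain ⟨⟨x, hx⟩, hx1⟩ := exists_ne (1 : Subgroup.center P)
  have hx1' : (x : G) ≠ 1 := fun e => hx1 (Subtype.ext (Subtype.ext e))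
  have hxc : ∀ y ∈ P, y * (x : G) = x * y := by
    intro y hy
    have := Subgroup.mem_center_iff.1 hx ⟨y, hy⟩
    exact congrArg Subtype.val this
  obtain ⟨j, hj⟩ := exists_pow_one hP x.2
  have hxR : (x : G) ∈ R := cr.mem_Z h.z₀R h.z₀1 (hxc z₀ (hRP h.z₀R)).symm
    (fun a ha => hPA x x.2 a ha) hj
  intro y hy
  obtain ⟨j, hj⟩ := exists_pow_one hP hy
  exact cr.mem_Z hxR hx1' (hxc y hy) (fun a ha => hPA y hy a ha) hj

end root

end QIn

end Cfsg.Agent.RankTwoClose.QInput
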