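import Mathlib

/-!
# Multiplicity free sums of one-dimensional torus modules are cyclic

`F/K` a finite Galois extension, `χ i : M →* F` characters such that all `σ ∘ χ i`, `σ ∈ Gal(F/K)`, are different:
the vectors `(χ i s)_i` span `F^ι` over `K` (`span_top`). Special case: `|F| = q ^ 2`, `q = 2 ^ m ≥ 4`, the vectors
`(s⁻¹, s (s^q)⁻¹, s^q)`, `s ∈ Fˣ`, generate the additive group `F × F × F` (`closure_three`).
-/

set_option autoImplicit false

namespace Cfsg.Agent.RankTwoClose.Span

open Algebra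

section General

variable {K F : Type*} [Field K] [Field F] [Algebra K F] [FiniteDimensional K F] [IsGalois K F]
  {M : Type*} [Monoid M] {ι : Type*} [Fintype ι]

/-- `σ ∘ χ` -/
def gal (σ : F ≃ₐ[K] F) (χ : M →* F) : M →* F := ((σ : F →ₐ[K] F) : F →* F).comp χ

omit [FiniteDimensional K F] [IsGalois K F] in
theorem gal_apply (σ : F ≃ₐ[K] F) (χ : M →* F) (s : M) : gal σ χ s = σ (χ s) := rfl

/-- **The span of a family of Galois-inequivalent characters.** -/
theorem span_top (χ : ι → M →* F)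
    (hχ : Function.Injective (fun x : (F ≃ₐ[K] F) × ι => gal x.1 (χ x.2))) :
    Submodule.span K (Set.range fun (s : M) (i : ι) => χ i s) = ⊤ := by
  classical
  by_contra hne
  obtain ⟨f, hf0, hf⟩ := Submodule.exists_le_ker_of_lt_top _ (lt_top_iff_ne_top.2 hne)
  apply hf0
  -- the components of `f`
  have hcomp : ∀ i, ∃ α : F, ∀ x : F, f (Pi.single i x) = trace K F (α * x) := by
    intro i
    obtain ⟨α, hα⟩ := (LinearMap.BilinForm.toDual (traceForm K F) (traceForm_nondegenerate K F)).surjective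
      (f.comp (LinearMap.single K (fun _ : ι => F) i))
    refine ⟨α, fun x => ?_⟩
    have h1 := LinearMap.congr_fun hα x
    rw [LinearMap.BilinForm.toDual_def, traceForm_apply] at h1
    rw [h1]
    rfl
  choose α hα using hcomp
  have hsum : ∀ v : ι → F, f v = ∑ i, trace K F (α i * v i) := by
    intro v
    conv_lhs => rw [← Finset.univ_sum_single v]
    rw [map_sum]
    exact Finset.sum_congr rfl fun i _ => hα i (v i)
  have hzero : ∀ s : M, ∑ x : (F ≃ₐ[K] F) × ι, (x.1 (α x.2)) * gal x.1 (χ x.2) s = 0 := by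
    intro s
    have h1 : f (fun i => χ i s) = 0 := hf (Submodule.subset_span ⟨s, rfl⟩)
    rw [hsum] at h1
    have h2 := congrArg (algebraMap K F) h1
    rw [map_zero, map_sum] at h2
    rw [Fintype.sum_prod_type_right, ← h2]
    refine Finset.sum_congr rfl fun i _ => ?_
    rw [trace_eq_sum_automorphisms]
    refine Finset.sum_congr rfl fun σ _ => ?_
    rw [map_mul, gal_apply]
  have hli := (linearIndependent_monoidHom M F).comp _ hχ
  have h3 := Fintype.linearIndependent_iff.1 hli (fun x => x.1 (α x.2)) (by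
    funext s
    rw [Finset.sum_apply, Pi.zero_apply, ← hzero s]
    rfl)
  have h4 : ∀ i, α i = 0 := by
    intro i
    have := h3 (1, i)
    simpa using this
  ext v
  simp [h4, hsum]

/-- the same for the additive subgroup generated, `K = ZMod p` -/
theorem closure_top {p : ℕ} [Fact p.Prime] [Algebra (ZMod p) F] [FiniteDimensional (ZMod p) F] [IsGalois (ZMod p) F]
    (χ : ι → M →* F)
    (hχ : Function.Injective (fun x : (F ≃ₐ[ZMod p] F) × ι => gal x.1 (χ x.2))) :
    AddSubgroup.closure (Set.range fun (s : M) (i : ι) => χ i s) = ⊤ := by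
  have h1 := span_top χ hχ
  rw [_root_.eq_top_iff]
  intro v _
  have h2 : v ∈ Submodule.span (ZMod p) (Set.range fun (s : M) (i : ι) => χ i s) := by rw [h1]; trivial
  induction h2 using Submodule.span_induction with
  | mem x hx => exact AddSubgroup.subset_closure hx
  | zero => exact zero_mem _
  | add x y _ _ hx hy => exact add_mem (hx trivial) (hy trivial)
  | smul a x _ hx =>
    obtain ⟨n, rfl⟩ := ZMod.natCast_zmod_surjective a
    have e : (n : ZMod p) • x = n • x := Nat.cast_smul_eq_nsmul _ _ _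
    rw [e]
    exact nsmul_mem (hx trivial) n

end General

section Two

variable {F : Type*} [Field F] [Finite F]

omit [Finite F] in
/-- inversion is not a field automorphism of a field with more than four elements -/
theorem inv_not_add [Finite F] (h4 : 4 < Nat.card F) (τ : F →+* F) (h : ∀ s : F, s ≠ 0 → τ s = s⁻¹) : False := by
  classical
  have := Fintype.ofFinite F
  have key : ∀ s : F, s = 0 ∨ s = -1 ∨ s * s + s + 1 = 0 := by
    intro s
    by_cases h0 : s = 0
    · exact Or.inl h0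
    by_cases h1 : s = -1
    · exact Or.inr (Or.inl h1)
    right; right
    have h2 : s + 1 ≠ 0 := fun h => h1 (eq_neg_of_add_eq_zero_left h)
    have h3 := h (s + 1) h2
    rw [map_add, map_one, h s h0] at h3
    field_simp at h3
    linear_combination h3
  have hcard : Fintype.card F ≤ 4 := by
    let P : Polynomial F := Polynomial.X ^ 2 + Polynomial.X + 1
    have hP : P ≠ 0 := by
      intro h
      have := congrArg (fun p => Polynomial.coeff p 0) h
      simp [P] at this
    have hdeg : P.natDegree ≤ 2 := by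
      simp only [P]
      compute_degree
    have hsub : (Finset.univ : Finset F) ⊆ {0, -1} ∪ P.roots.toFinset := by
      intro s _
      rcases key s with h | h | h
      · simp [h]
      · simp [h]
      · rw [Finset.mem_union]
        right
        rw [Multiset.mem_toFinset, Polynomial.mem_roots hP, Polynomial.IsRoot.def]
        simp only [P, Polynomial.eval_add, Polynomial.eval_pow, Polynomial.eval_X, Polynomial.eval_one]
        rw [pow_two]; exact h
    calc Fintype.card F = (Finset.univ : Finset F).card := rfl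
      _ ≤ ({0, -1} ∪ P.roots.toFinset : Finset F).card := Finset.card_le_card hsub
      _ ≤ ({0, -1} : Finset F).card + P.roots.toFinset.card := Finset.card_union_le _ _
      _ ≤ 2 + 2 := by
        refine add_le_add Finset.card_le_two ?_
        exact (Multiset.toFinset_card_le _).trans ((Polynomial.card_roots' P).trans hdeg)
  rw [Nat.card_eq_fintype_card] at h4
  omega

/-- `s ↦ s ^ a` -/
def chi (a : ℤ) : Fˣ →* F := (Units.coeHom F).comp (zpowGroupHom a)

omit [Finite F] in
theorem chi_apply (a : ℤ) (s : Fˣ) : chi a s = ((s ^ a : Fˣ) : F) := rfl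

variable {q : ℕ}

theorem exists_gen (hF : Nat.card F = q ^ 2) (hq : 3 ≤ q) :
    ∃ g : Fˣ, orderOf (g ^ (q - 1)) = q + 1 ∧ (∃ s : Fˣ, s ^ (q - 1) = 1 ∧ s ≠ 1) := by
  classical
  obtain ⟨g, hg⟩ := IsCyclic.exists_ofOrder_eq_natCard (α := Fˣ)
  have h1 : Nat.card Fˣ = (q - 1) * (q + 1) := by
    rw [Nat.card_units, hF]
    obtain ⟨r, rfl⟩ : ∃ r, q = r + 1 := ⟨q - 1, by omega⟩
    simp only [Nat.add_sub_cancel]
    have : (r + 1) ^ 2 = r * (r + 1 + 1) + 1 := by ring
    omega
  rw [h1] at hg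
  refine ⟨g, ?_, g ^ (q + 1), ?_, ?_⟩
  · rw [orderOf_pow_of_dvd (by omega) ⟨q + 1, hg⟩, hg]
    exact Nat.mul_div_cancel_left _ (by omega)
  · rw [← pow_mul, mul_comm (q + 1), ← hg, pow_orderOf_eq_one]
  · intro h
    have h2 := orderOf_dvd_of_pow_eq_one h
    rw [hg] at h2
    have h3 := Nat.le_of_dvd (by omega) h2
    have h4 : 2 * (q + 1) ≤ (q - 1) * (q + 1) := Nat.mul_le_mul_right _ (by omega)
    omega

omit [Finite F] in
theorem eq_one_of_fix (τ : F ≃+* F) (h : ∀ s : Fˣ, τ (s : F) = s) (x : F) : τ x = x := by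
  by_cases hx : x = 0
  · rw [hx, map_zero]
  · exact h (Units.mk0 x hx)

/-- an automorphism that fixes `s ^ (1 - q)` for all `s` is trivial -/
theorem fix_mid (hF : Nat.card F = q ^ 2) (hq : 3 ≤ q) (τ : F ≃+* F)
    (h : ∀ s : Fˣ, τ ((s ^ (q - 1) : Fˣ) : F) = ((s ^ (q - 1) : Fˣ) : F)) (x : F) : τ x = x := by
  classical
  obtain ⟨g, hg, -⟩ := exists_gen hF hq
  let E : Subfield F := RingHom.eqLocusField (τ : F →+* F) (RingHom.id F)
  have hE : ∀ y, y ∈ E ↔ τ y = y := fun y => Iff.rfl
  have hy : ((g ^ (q - 1) : Fˣ) : F) ∈ E := (hE _).2 (h g)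
  -- the order of `E`
  have hy0 : ((g ^ (q - 1) : Fˣ) : F) ≠ 0 := Units.ne_zero _
  let y' : Eˣ := ⟨⟨_, hy⟩, ⟨_, E.inv_mem hy⟩, Subtype.ext (mul_inv_cancel₀ hy0),
    Subtype.ext (inv_mul_cancel₀ hy0)⟩
  have hord : orderOf y' = q + 1 := by
    rw [← hg]
    have h1 : Units.map (E.subtype : E →* F) y' = g ^ (q - 1) := Units.ext rfl
    rw [← h1]
    exact (orderOf_injective _ (Units.map_injective E.subtype_injective) y').symm
  have h1 : q + 1 ∣ Nat.card E - 1 := by
    rw [← hord, ← Nat.card_units]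
    exact orderOf_dvd_natCard y'
  have h0 : 1 < Nat.card E := Finite.one_lt_card
  have h2 : q + 1 ≤ Nat.card E - 1 := Nat.le_of_dvd (by omega) h1
  have h3 : Nat.card F = Nat.card E ^ Module.finrank E F := by
    have := Fintype.ofFinite F
    have := Fintype.ofFinite E
    rw [Nat.card_eq_fintype_card, Nat.card_eq_fintype_card]
    exact Module.card_eq_pow_finrank
  have h4 : Module.finrank E F < 2 := by
    by_contra h5
    have h6 : Nat.card E ^ 2 ≤ Nat.card E ^ Module.finrank E F := Nat.pow_le_pow_right (by omega) (by omega)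
    rw [← h3, hF] at h6
    have h7 : Nat.card E ≤ q := (Nat.pow_le_pow_iff_left (by norm_num)).1 h6
    omega
  have h5 : 0 < Module.finrank E F := Module.finrank_pos
  have h6 : Module.finrank E F = 1 := by omega
  rw [h6, pow_one] at h3
  have h7 : (E : Set F) = Set.univ := by
    apply Set.eq_of_subset_of_ncard_le (Set.subset_univ _)
    rw [Set.ncard_univ, h3]
    rfl
  have : x ∈ (E : Set F) := by rw [h7]; trivial
  exact this

/-- the exponents `-1`, `1 - q`, `q` -/
def expo (q : ℕ) : Fin 3 → ℤ := ![-1, 1 - q, q]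

/-- the three characters -/
def ch (F : Type*) [Field F] (q : ℕ) (i : Fin 3) : Fˣ →* F := chi (expo q i)

omit [Finite F] in
theorem ch_zero (s : Fˣ) : ch F q 0 s = ((s⁻¹ : Fˣ) : F) := by
  simp [ch, chi_apply, expo]

omit [Finite F] in
theorem ch_one (s : Fˣ) : ch F q 1 s = ((s * (s ^ q)⁻¹ : Fˣ) : F) := by
  simp [ch, chi_apply, expo, zpow_sub]

omit [Finite F] in
theorem ch_two (s : Fˣ) : ch F q 2 s = ((s ^ q : Fˣ) : F) := by
  simp [ch, chi_apply, expo]

/-- The characters `s⁻¹`, `s^(1-q)`, `s^q` are not Galois conjugate. -/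
theorem rel_eq (hF : Nat.card F = q ^ 2) (hq : 3 ≤ q) {p m : ℕ} [Fact p.Prime] [CharP F p] (hp : q = p ^ m) (τ : F ≃+* F) {i j : Fin 3}
    (h : ∀ s : Fˣ, τ (ch F q i s) = ch F q j s) : i = j ∧ ∀ x, τ x = x := by
  classical
  obtain ⟨g, hg, s₀, hs₀, hs₁⟩ := exists_gen hF hq
  have hq1 : s₀ ^ q = s₀ := by
    obtain ⟨r, rfl⟩ : ∃ r, q = r + 1 := ⟨q - 1, by omega⟩
    rw [pow_succ]
    rw [Nat.add_sub_cancel] at hs₀
    rw [hs₀, one_mul]
  have hs₂ : (s₀ : F) ≠ 1 := fun h => hs₁ (Units.ext h)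
  have hcard : 4 < Nat.card F := by rw [hF]; nlinarith
  -- the power `q` of the Frobenius
  let φ : F ≃+* F := RingEquiv.ofBijective (iterateFrobenius F p m)
    (Finite.injective_iff_bijective.1 (iterateFrobenius F p m).injective)
  have hφ : ∀ x, φ x = x ^ q := by
    intro x
    rw [hp]
    exact iterateFrobenius_def p m x
  -- `s⁻¹` and `s^q` are not conjugate
  have key02 : ∀ τ : F ≃+* F, (∀ s : Fˣ, τ ((s⁻¹ : Fˣ) : F) = ((s ^ q : Fˣ) : F)) → False := by
    intro τ h
    refine inv_not_add hcard ((τ.trans φ.symm : F ≃+* F) : F →+* F) fun s hs => ?_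
    have h1 := h (Units.mk0 s hs)⁻¹
    rw [inv_inv, Units.val_mk0] at h1
    show φ.symm (τ s) = s⁻¹
    rw [h1]
    have h2 : (((Units.mk0 s hs)⁻¹ ^ q : Fˣ) : F) = φ s⁻¹ := by
      rw [hφ]
      push_cast
      rw [Units.val_mk0]
    rw [h2, RingEquiv.symm_apply_apply]
  have hsymm : ∀ {i j : Fin 3}, (∀ s : Fˣ, τ (ch F q i s) = ch F q j s) →
      ∀ s : Fˣ, τ.symm (ch F q j s) = ch F q i s := by
    intro i j h s
    rw [← h s, RingEquiv.symm_apply_apply]
  have one1 : ch F q 1 s₀ = 1 := by rw [ch_one, hq1, mul_inv_cancel, Units.val_one]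
  have one0 : ch F q 0 s₀ ≠ 1 := by
    rw [ch_zero]
    intro h
    apply hs₁
    rw [← inv_inj, inv_one]
    exact Units.ext h
  have one2 : ch F q 2 s₀ ≠ 1 := by
    rw [ch_two, hq1]
    exact hs₂
  fin_cases i <;> fin_cases j
  · refine ⟨rfl, eq_one_of_fix τ fun s => ?_⟩
    have := h s⁻¹
    simpa only [Fin.zero_eta, ch_zero, inv_inv] using this
  · exfalso
    have h1 := h s₀
    rw [show ((⟨1, by norm_num⟩ : Fin 3)) = 1 from rfl] at h1
    rw [one1] at h1
    exact one0 (τ.injective (h1.trans (map_one τ).symm))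
  · exfalso
    refine key02 τ fun s => ?_
    have := h s
    simpa only [Fin.zero_eta, ch_zero, Fin.reduceFinMk, ch_two] using this
  · exfalso
    have h1 := h s₀
    rw [show ((⟨1, by norm_num⟩ : Fin 3)) = 1 from rfl, one1, map_one] at h1
    exact one0 h1.symm
  · refine ⟨rfl, fix_mid hF hq τ fun s => ?_⟩
    have h1 := h s⁻¹
    rw [show ((⟨1, by norm_num⟩ : Fin 3)) = 1 from rfl, ch_one] at h1
    have e : s⁻¹ * (s⁻¹ ^ q)⁻¹ = s ^ (q - 1) := by
      obtain ⟨r, rfl⟩ : ∃ r, q = r + 1 := ⟨q - 1, by omega⟩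
      rw [Nat.add_sub_cancel, inv_pow, inv_inv, pow_succ, mul_comm (s ^ r) s, inv_mul_cancel_left]
    rw [e] at h1
    exact h1
  · exfalso
    have h1 := h s₀
    rw [show ((⟨1, by norm_num⟩ : Fin 3)) = 1 from rfl, one1, map_one] at h1
    exact one2 h1.symm
  · exfalso
    refine key02 τ.symm fun s => ?_
    have := hsymm h s
    simpa only [Fin.zero_eta, ch_zero, Fin.reduceFinMk, ch_two] using this
  · exfalso
    have h1 := h s₀
    rw [show ((⟨1, by norm_num⟩ : Fin 3)) = 1 from rfl, one1] at h1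
    exact one2 (τ.injective (h1.trans (map_one τ).symm))
  · refine ⟨rfl, ?_⟩
    have h1 : ∀ s : Fˣ, τ ((s ^ q : Fˣ) : F) = ((s ^ q : Fˣ) : F) := by
      intro s
      have := h s
      simpa only [Fin.reduceFinMk, ch_two] using this
    intro x
    obtain ⟨y, rfl⟩ := φ.surjective x
    by_cases hy : y = 0
    · rw [hy, map_zero, map_zero]
    · have h2 := h1 (Units.mk0 y hy)
      have h3 : ((Units.mk0 y hy ^ q : Fˣ) : F) = φ y := by
        rw [hφ]; push_cast; rw [Units.val_mk0]
      rw [h3] at h2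
      exact h2

/-- **The vectors `(s⁻¹, s (s^q)⁻¹, s^q)` generate the additive group `F^3`**, `|F| = q ^ 2`, `q ≥ 3` a power of `p`. -/
theorem closure_fin (hF : Nat.card F = q ^ 2) (hq : 3 ≤ q) {p m : ℕ} [Fact p.Prime] [CharP F p] (hp : q = p ^ m) :
    AddSubgroup.closure (Set.range fun (s : Fˣ) (i : Fin 3) => ch F q i s) = ⊤ := by
  classical
  let _ : Algebra (ZMod p) F := ZMod.algebra F p
  apply closure_top (p := p)
  rintro ⟨σ, i⟩ ⟨σ', j⟩ h
  have h1 : ∀ s : Fˣ, σ (ch F q i s) = σ' (ch F q j s) := fun s => DFunLike.congr_fun h s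
  have h2 := rel_eq hF hq hp ((σ.trans σ'.symm : F ≃ₐ[ZMod p] F) : F ≃+* F) (i := i) (j := j) (fun s => by
    show σ'.symm (σ (ch F q i s)) = ch F q j s
    rw [h1 s, AlgEquiv.symm_apply_apply])
  refine Prod.ext ?_ h2.1
  ext x
  have h3 : σ'.symm (σ x) = x := h2.2 x
  show σ x = σ' x
  conv_rhs => rw [← h3]
  rw [AlgEquiv.apply_symm_apply]

/-- the same in `F × F × F` -/
theorem closure_three (hF : Nat.card F = q ^ 2) (hq : 3 ≤ q) {p m : ℕ} [Fact p.Prime] [CharP F p] (hp : q = p ^ m) :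
    AddSubgroup.closure (Set.range fun s : Fˣ => (((s⁻¹ : Fˣ) : F), ((s * (s ^ q)⁻¹ : Fˣ) : F), ((s ^ q : Fˣ) : F))) =
      (⊤ : AddSubgroup (F × F × F)) := by
  have h1 := closure_fin hF hq hp
  let f : (Fin 3 → F) →+ F × F × F :=
    { toFun := fun v => (v 0, v 1, v 2)
      map_zero' := rfl
      map_add' := fun _ _ => rfl }
  have hf : Function.Surjective f := by
    rintro ⟨a, b, c⟩
    exact ⟨![a, b, c], rfl⟩
  rw [← AddSubgroup.map_top_of_surjective f hf, ← h1, AddMonoidHom.map_closure]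
  congr 1
  ext v
  constructor
  · rintro ⟨s, rfl⟩
    refine ⟨_, ⟨s, rfl⟩, ?_⟩
    show (ch F q 0 s, ch F q 1 s, ch F q 2 s) = _
    rw [ch_zero, ch_one, ch_two]
  · rintro ⟨_, ⟨s, rfl⟩, rfl⟩
    refine ⟨s, ?_⟩
    show _ = (ch F q 0 s, ch F q 1 s, ch F q 2 s)
    rw [ch_zero, ch_one, ch_two]

end Two

end Cfsg.Agent.RankTwoClose.Span
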